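import Cfsg.Agent.Lib.Solv.SylowThreeSmall
import Mathlib

/-!
In a perfect group with Sylow three-subgroups of order nine every element of order three is conjugate to its
inverse.
-/

set_option autoImplicit false
set_option linter.style.haveILetI false

namespace Cfsg.Agent.MTwentyTwo.ByOrder

/-- Vectors in the plane over three elements without two opposite ones add up to zero only in threes. -/
theorem sum_zero : ∀ s : Finset (ZMod 3 × ZMod 3), (∀ a ∈ s, -a ∉ s) → ∑ a ∈ s, a = 0 → 3 ∣ s.card := by
  decide +kernel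

universe u

theorem real_of_sylow_nine {G : Type u} [Group G] [Finite G] (hperf : commutator G = ⊤) (T : Sylow 3 G)
    (hT : Nat.card T = 9) {x : G} (hxT : x ∈ (T : Subgroup G)) (hx : orderOf x = 3) : IsConj x x⁻¹ := by
  classical
  haveI : Fact (Nat.Prime 3) := ⟨Nat.prime_three⟩
  have hab : IsMulCommutative T :=
    ⟨⟨fun a b => (IsPGroup.isMulCommutative_of_card_eq_prime_sq (p := 3) (G := T) (by rw [hT]; norm_num)).is_comm.comm a b⟩⟩
  have hcomm : ∀ a ∈ (T : Subgroup G), ∀ b ∈ (T : Subgroup G), a * b = b * a := fun a ha b hb => by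
    haveI := hab
    exact congrArg Subtype.val (mul_comm' (⟨a, ha⟩ : (T : Subgroup G)) ⟨b, hb⟩)
  set N := Subgroup.normalizer ((T : Subgroup G) : Set G)
  haveI : Fintype G := Fintype.ofFinite G
  -- the orbit of the element under the normaliser
  let O : Finset G := Finset.univ.filter fun y => ∃ n ∈ N, n * x * n⁻¹ = y
  have hO : ∀ y, y ∈ O ↔ ∃ n ∈ N, n * x * n⁻¹ = y := fun y => by simp [O]
  by_contra hcon
  have hxO : x ∈ O := (hO x).2 ⟨1, one_mem _, by simp⟩
  have hOT : ∀ y ∈ O, y ∈ (T : Subgroup G) := fun y hy => by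
    obtain ⟨n, hn, rfl⟩ := (hO y).1 hy
    exact (Subgroup.mem_normalizer_iff.1 hn x).1 hxT
  have hO3 : ∀ y ∈ O, orderOf y = 3 := fun y hy => by
    obtain ⟨n, -, rfl⟩ := (hO y).1 hy
    rw [← MulAut.conj_apply, ← MulEquiv.coe_toMonoidHom, orderOf_injective _ (MulAut.conj n).injective, hx]
  have hneg : ∀ y ∈ O, y⁻¹ ∉ O := by
    intro y hy hy'
    obtain ⟨n, hn, rfl⟩ := (hO y).1 hy
    obtain ⟨m, hm, hmx⟩ := (hO _).1 hy'
    refine hcon (isConj_iff.2 ⟨n⁻¹ * m, ?_⟩)
    calc n⁻¹ * m * x * (n⁻¹ * m)⁻¹ = n⁻¹ * (m * x * m⁻¹) * n := by group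
      _ = x⁻¹ := by rw [hmx]; group
  -- the product of the orbit is fixed by the normaliser
  let Q : Finset ↥(T : Subgroup G) := Finset.univ.filter fun y => (y : G) ∈ O
  letI : CommGroup ↥(T : Subgroup G) :=
    { (inferInstance : Group ↥(T : Subgroup G)) with mul_comm := fun a b => Subtype.ext (hcomm a a.2 b b.2) }
  have hprod : ∏ y ∈ Q, y = 1 := by
    refine Subtype.ext (Solv.SylowThreeSmall.eq_one_of_central_normalizer hperf T hab (∏ y ∈ Q, y).2 fun n hn => ?_)
    let e : ↥(T : Subgroup G) →* ↥(T : Subgroup G) :=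
      { toFun := fun a => ⟨n * a * n⁻¹, (Subgroup.mem_normalizer_iff.1 hn a).1 a.2⟩
        map_one' := Subtype.ext (by simp)
        map_mul' := fun a b => Subtype.ext (by simp [mul_assoc]) }
    have h1 : e (∏ y ∈ Q, y) = ∏ y ∈ Q, y := by
      rw [map_prod]
      refine Finset.prod_bij (fun a _ => e a) (fun a ha => ?_) (fun a _ b _ h => ?_) (fun b hb => ?_) fun a _ => rfl
      · obtain ⟨m, hm, hma⟩ := (hO _).1 (Finset.mem_filter.1 ha).2
        refine Finset.mem_filter.2 ⟨Finset.mem_univ _, (hO _).2 ⟨n * m, mul_mem hn hm, ?_⟩⟩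
        show _ = n * (a : G) * n⁻¹
        rw [← hma]
        group
      · have h' : n * (a : G) * n⁻¹ = n * b * n⁻¹ := congrArg Subtype.val h
        exact Subtype.ext (mul_left_cancel (mul_right_cancel h'))
      · obtain ⟨m, hm, hmb⟩ := (hO _).1 (Finset.mem_filter.1 hb).2
        refine ⟨⟨n⁻¹ * b * n, ?_⟩, Finset.mem_filter.2 ⟨Finset.mem_univ _, (hO _).2 ⟨n⁻¹ * m,
          mul_mem (inv_mem hn) hm, ?_⟩⟩, Subtype.ext ?_⟩
        · have := (Subgroup.mem_normalizer_iff.1 (inv_mem hn) b).1 b.2
          simpa using this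
        · show _ = n⁻¹ * (b : G) * n
          rw [← hmb]
          group
        · show n * (n⁻¹ * (b : G) * n) * n⁻¹ = b
          group
    have h2 : n * ((∏ y ∈ Q, y : ↥(T : Subgroup G)) : G) * n⁻¹ = ((∏ y ∈ Q, y : ↥(T : Subgroup G)) : G) :=
      congrArg Subtype.val h1
    exact mul_inv_eq_iff_eq_mul.1 h2
  -- coordinates
  have hx3 : x ^ 3 = 1 := hx ▸ pow_orderOf_eq_one x
  by_cases hsub : ∀ y ∈ O, y ∈ Subgroup.zpowers x
  · have hOx : O = {x} := Finset.eq_singleton_iff_unique_mem.2 ⟨hxO, fun y hy => by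
      obtain ⟨i, hi⟩ := (isOfFinOrder_of_finite x).mem_powers_iff_mem_zpowers.2 (hsub y hy)
      have hi' : x ^ i = y := hi
      rw [pow_eq_pow_mod i hx3] at hi'
      have : i % 3 < 3 := Nat.mod_lt _ (by norm_num)
      interval_cases hm : i % 3
      · rw [← hi', pow_zero] at hy
        have := hO3 1 hy
        rw [orderOf_one] at this
        omega
      · rw [← hi', pow_one]
      · refine absurd ?_ (hneg x hxO)
        rw [inv_eq_of_mul_eq_one_right (show x * x ^ 2 = 1 by rw [← pow_succ']; exact hx3), hi']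
        exact hy⟩
    have hQ : Q = {⟨x, hxT⟩} := Finset.ext fun a => by simp [Q, hOx, Subtype.ext_iff]
    rw [hQ, Finset.prod_singleton] at hprod
    have : x = 1 := congrArg Subtype.val hprod
    rw [this, orderOf_one] at hx
    omega
  push Not at hsub
  obtain ⟨y, hyO, hyx⟩ := hsub
  have hy3 : y ^ 3 = 1 := hO3 y hyO ▸ pow_orderOf_eq_one y
  let f : ZMod 3 × ZMod 3 → ↥(T : Subgroup G) := fun a =>
    ⟨x ^ a.1.val * y ^ a.2.val, mul_mem (pow_mem hxT _) (pow_mem (hOT y hyO) _)⟩
  have hfadd : ∀ a b, f (a + b) = f a * f b := fun a b => Subtype.ext (by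
    have hxy : Commute x y := hcomm x hxT y (hOT y hyO)
    show x ^ (a.1 + b.1).val * y ^ (a.2 + b.2).val = x ^ a.1.val * y ^ a.2.val * (x ^ b.1.val * y ^ b.2.val)
    rw [ZMod.val_add, ZMod.val_add, ← pow_eq_pow_mod _ hx3, ← pow_eq_pow_mod _ hy3,
      ((hxy.pow_pow b.1.val a.2.val).symm).mul_mul_mul_comm, ← pow_add, ← pow_add])
  have hf0 : f 0 = 1 := Subtype.ext (by simp [f])
  have hfinj : Function.Injective f := by
    intro a b h
    have h1 : f (a + -b) = 1 := by
      rw [hfadd, h, ← hfadd, add_neg_cancel, hf0]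
    suffices hh : ∀ c, f c = 1 → c = 0 by
      have := hh _ h1
      rwa [add_neg_eq_zero] at this
    intro c hc
    have hc' : x ^ c.1.val * y ^ c.2.val = 1 := congrArg Subtype.val hc
    by_cases h2 : c.2 = 0
    · rw [h2, ZMod.val_zero, pow_zero, mul_one] at hc'
      have := orderOf_dvd_of_pow_eq_one hc'
      rw [hx] at this
      have h1' : c.1.val = 0 := by
        have := ZMod.val_lt c.1
        omega
      exact Prod.ext ((ZMod.val_eq_zero _).1 h1') h2
    · exfalso
      apply hyx
      have hy' : y ^ c.2.val ∈ Subgroup.zpowers x := by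
        rw [← inv_eq_of_mul_eq_one_right hc']
        exact inv_mem (pow_mem (Subgroup.mem_zpowers x) _)
      have hlt := ZMod.val_lt c.2
      have hne : c.2.val ≠ 0 := fun e => h2 ((ZMod.val_eq_zero _).1 e)
      rcases (show c.2.val = 1 ∨ c.2.val = 2 by omega) with e | e <;> rw [e] at hy'
      · rwa [pow_one] at hy'
      · have : y = y ^ 2 * y ^ 2 := by rw [← pow_add, show 2 + 2 = 3 + 1 from rfl, pow_succ, hy3, one_mul]
        rw [this]
        exact mul_mem hy' hy'
  have hfsurj : Function.Surjective f := by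
    refine ((Nat.bijective_iff_injective_and_card f).2 ⟨hfinj, ?_⟩).2
    rw [show Nat.card ↥(T : Subgroup G) = 9 from hT, Nat.card_eq_fintype_card]
    rfl
  have hfneg : ∀ a, f (-a) = (f a)⁻¹ := fun a => eq_inv_of_mul_eq_one_left (by rw [← hfadd, neg_add_cancel, hf0])
  set s := Finset.univ.filter fun a => ((f a : ↥(T : Subgroup G)) : G) ∈ O with hs
  have hQs : Q = s.image f := Finset.ext fun a => by
    obtain ⟨b, rfl⟩ := hfsurj a
    simp [Q, hs, hfinj.eq_iff]
  have hsum : f (∑ a ∈ s, a) = 1 := by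
    rw [← hprod, hQs, Finset.prod_image fun a _ b _ h => hfinj h]
    induction s using Finset.induction with
    | empty => simpa using hf0
    | insert a t ha ih => rw [Finset.sum_insert ha, Finset.prod_insert ha, hfadd, ih]
  have hs0 : ∑ a ∈ s, a = 0 := hfinj (hsum.trans hf0.symm)
  have hsneg : ∀ a ∈ s, -a ∉ s := fun a ha hn => by
    have h1 := (Finset.mem_filter.1 ha).2
    have h2 := (Finset.mem_filter.1 hn).2
    rw [hfneg, Subgroup.coe_inv] at h2
    exact hneg _ h1 h2
  -- the size of the orbit is prime to three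
  have h3' : ¬ 3 ∣ s.card := by
    have hdiv : O.card ∣ Nat.card ↥N / 9 := by
      set K := (Subgroup.centralizer ({x} : Set G)).subgroupOf N
      have hK : O.card = K.index := by
        rw [Subgroup.index_eq_card]
        let g : ↥N ⧸ K → O := Quotient.lift (fun n : ↥N => (⟨(n : G) * x * (n : G)⁻¹, (hO _).2 ⟨n, n.2, rfl⟩⟩ : O))
          fun a b h => by
            have h1 : a⁻¹ * b ∈ K := QuotientGroup.leftRel_apply.1 h
            have h' : (a : G)⁻¹ * b ∈ Subgroup.centralizer ({x} : Set G) := h1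
            refine Subtype.ext ?_
            show (a : G) * x * (a : G)⁻¹ = b * x * (b : G)⁻¹
            calc (a : G) * x * (a : G)⁻¹ = a * (x * ((a : G)⁻¹ * b)) * (b : G)⁻¹ := by group
              _ = a * ((a : G)⁻¹ * b * x) * (b : G)⁻¹ := by rw [Subgroup.mem_centralizer_singleton_iff.1 h']
              _ = b * x * (b : G)⁻¹ := by group
        have hg : Function.Bijective g := by
          constructor
          · intro a b
            induction a using Quotient.inductionOn with
            | h a =>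
              induction b using Quotient.inductionOn with
              | h b =>
                intro h
                have h' : (a : G) * x * (a : G)⁻¹ = b * x * (b : G)⁻¹ := congrArg Subtype.val h
                refine Quotient.sound (QuotientGroup.leftRel_apply.2 (Subgroup.mem_centralizer_singleton_iff.2 ?_))
                show (a : G)⁻¹ * b * x = x * ((a : G)⁻¹ * b)
                calc (a : G)⁻¹ * b * x = (a : G)⁻¹ * (b * x * (b : G)⁻¹) * b := by group
                  _ = (a : G)⁻¹ * (a * x * (a : G)⁻¹) * b := by rw [h']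
                  _ = x * ((a : G)⁻¹ * b) := by group
          · rintro ⟨z, hz⟩
            obtain ⟨n, hn, rfl⟩ := (hO z).1 hz
            exact ⟨QuotientGroup.mk ⟨n, hn⟩, rfl⟩
        rw [Nat.card_eq_of_bijective g hg, Nat.card_eq_finsetCard]
      have hTK : (T : Subgroup G).subgroupOf N ≤ K := fun a ha =>
        Subgroup.mem_centralizer_singleton_iff.2 (hcomm a ha x hxT)
      have hTc : Nat.card ↥((T : Subgroup G).subgroupOf N) = 9 := by
        rw [Nat.card_congr (Subgroup.subgroupOfEquivOfLe Subgroup.le_normalizer).toEquiv]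
        exact hT
      have h1 := Subgroup.card_mul_index K
      obtain ⟨c, hc⟩ := Subgroup.card_dvd_of_le hTK
      rw [hc, hTc, mul_assoc] at h1
      rw [hK, ← h1, Nat.mul_div_cancel_left _ (by norm_num)]
      exact dvd_mul_left _ _
    have h3 : ¬ 3 ∣ Nat.card ↥N / 9 := by
      intro h
      have hdvd : 9 ∣ Nat.card ↥N := hT ▸ Subgroup.card_dvd_of_le Subgroup.le_normalizer
      have h27 : 27 ∣ Nat.card G := by
        refine dvd_trans ?_ (Subgroup.card_subgroup_dvd_card N)
        omega
      have := T.card_eq_multiplicity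
      rw [hT] at this
      have hle := (Nat.prime_three.pow_dvd_iff_le_factorization (Nat.card_pos (α := G)).ne').1
        (show 3 ^ 3 ∣ Nat.card G by simpa using h27)
      have : 3 ^ 3 ≤ 3 ^ (Nat.card G).factorization 3 := Nat.pow_le_pow_right (by norm_num) hle
      omega
    have hsO : s.card = O.card := by
      refine Finset.card_bij (fun a _ => ((f a : ↥(T : Subgroup G)) : G)) (fun a ha => (Finset.mem_filter.1 ha).2)
        (fun a _ b _ h => hfinj (Subtype.ext h)) fun z hz => ?_
      obtain ⟨a, ha⟩ := hfsurj ⟨z, hOT z hz⟩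
      exact ⟨a, Finset.mem_filter.2 ⟨Finset.mem_univ _, by rw [ha]; exact hz⟩, by rw [ha]⟩
    exact fun h => h3 (h.trans (hsO ▸ hdiv))
  exact h3' (sum_zero s hsneg hs0)

end Cfsg.Agent.MTwentyTwo.ByOrder
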