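import Cfsg.Agent.Lib.Spor.MTwentyTwoOrder.Columns
import Cfsg.Agent.Lib.Spor.MTwentyTwoOrder.Real
import Cfsg.Agent.Lib.Char.PowerCongr
import Cfsg.Agent.Lib.Char.BSW.Eqs

/-!
Values of characters at elements of small order in a simple group of the order of the Mathieu group of degree
twenty-two.
-/

set_option autoImplicit false
set_option linter.unusedSectionVars false
set_option linter.style.haveILetI false

namespace Cfsg.Agent.MTwentyTwo.ByOrder

open Cfsg Cfsg.Agent.Char Cfsg.Agent.Small.Order459648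
open Cfsg.Agent.MTwelve.OrderFront (val_one natAbs_lt class_dvd mult_int one_add_sq_le int_value)
open scoped ComplexConjugate

universe u

variable {G : Type u} [Group G] [Fintype G] [IsSimpleGroup G]

theorem na (hG : Nat.card G = 443520) : ¬ IsMulCommutative G :=
  Lead.BlockDeg.not_comm (p := 11) (m := 40320) (by norm_num) (by rw [hG]) (by norm_num)

theorem comm_top (hG : Nat.card G = 443520) : commutator G = ⊤ :=
  perfect (na hG)

/-- A value which is rational is taken at all powers generating the same subgroup. -/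
theorem pow_int {χ : IrrCharacter G} {g : G} {z : ℤ} (hz : (χ : G → ℂ) g = z) {k : ℕ}
    (hk : k.Coprime (orderOf g)) : (χ : G → ℂ) (g ^ k) = z := by
  obtain ⟨u, hu⟩ := ZMod.unitsMap_surjective (orderOf_dvd_natCard g) (ZMod.unitOfCoprime k hk)
  haveI : NeZero (Nat.card G) := ⟨Nat.card_pos.ne'⟩
  set k' := (u : ZMod (Nat.card G)).val
  have hk' : k'.Coprime (Nat.card G) := ZMod.val_coe_unit_coprime u
  have he : g ^ k' = g ^ k := by
    rw [pow_eq_pow_iff_modEq, ← ZMod.natCast_eq_natCast_iff]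
    have h1 := congrArg (fun v : (ZMod (orderOf g))ˣ => (v : ZMod (orderOf g))) hu
    simp only [ZMod.coe_unitOfCoprime, ZMod.unitsMap_val] at h1
    rw [← h1]
    simp [k', ZMod.natCast_val]
  obtain ⟨hm, hφ⟩ := char_galois (irr_isCharacter χ.2) g
  obtain ⟨φ, hφk⟩ := exists_embedding_of_power (n := Nat.card G) Nat.card_pos.ne' hk'
  have h2 := hφ φ k' hφk
  rw [he] at h2
  rw [← h2]
  have : (⟨(χ : G → ℂ) g, hm⟩ : cyc (Nat.card G)) = (z : cyc (Nat.card G)) := Subtype.ext (by simpa using hz)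
  rw [this, map_intCast]

/-- An integral value at an element is congruent to the value at its `p`-th power. -/
theorem int_congr {p : ℕ} (hp : p.Prime) {χ : IrrCharacter G} {g : G} {z w : ℤ} (hz : (χ : G → ℂ) g = z)
    (hw : (χ : G → ℂ) (g ^ p) = w) : (p : ℤ) ∣ z - w := by
  haveI : Fact p.Prime := ⟨hp⟩
  obtain ⟨γ, hγ⟩ := char_pow_congr (irr_isCharacter χ.2) hp 1 g
  rw [pow_one, hz, hw] at hγ
  have hp0 : (p : ℂ) ≠ 0 := Nat.cast_ne_zero.2 hp.ne_zero
  obtain ⟨n, hn⟩ := isIntegral_rat_cast_imp (q := ((z ^ p - w : ℤ) : ℚ) / p) (by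
    have : ((((z ^ p - w : ℤ) : ℚ) / p : ℚ) : ℂ) = (γ : ℂ) := by
      push_cast
      rw [div_eq_iff hp0, mul_comm, ← hγ]
    rw [this]
    exact γ.2)
  have h1 : (p : ℤ) ∣ z ^ p - w := by
    rw [eq_div_iff (Nat.cast_ne_zero.2 hp.ne_zero)] at hn
    exact ⟨n, by rw [mul_comm]; exact_mod_cast hn.symm⟩
  have h2 : (p : ℤ) ∣ z ^ p - z := by
    rw [← ZMod.intCast_zmod_eq_zero_iff_dvd]
    push_cast
    rw [ZMod.pow_card, sub_self]
  have := dvd_sub h1 h2
  rwa [show z ^ p - w - (z ^ p - z) = z - w by ring] at this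

/-- At an element of prime order an integral value is congruent to the degree. -/
theorem int_congr_deg {p : ℕ} (hp : p.Prime) {χ : IrrCharacter G} {g : G} (hg : orderOf g = p) {z : ℤ}
    (hz : (χ : G → ℂ) g = z) : (p : ℤ) ∣ (charDegree (χ : G → ℂ) : ℤ) - z := by
  have h := int_congr hp hz (w := (charDegree (χ : G → ℂ) : ℤ)) (by rw [← hg, pow_orderOf_eq_one]; exact val_one χ)
  rwa [← dvd_neg, neg_sub] at h

/-- The properties of a value allowed by the search. -/
theorem mem_rng_val (hG : Nat.card G = 443520) {χ : IrrCharacter G} (hne : χ ≠ oneChar) {g : G} (hg : g ≠ 1)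
    {z : ℤ} (hz : (χ : G → ℂ) g = z) {m : ℕ} (hm : 0 < m) (hdvd : (m : ℤ) ∣ (charDegree (χ : G → ℂ) : ℤ) - z) :
    z ∈ rng (charDegree (χ : G → ℂ)) (cc g) m := by
  refine mem_rng hm (natAbs_lt (na hG) hne hg hz) hdvd ?_ (class_dvd χ hz rfl hG)
  have := one_add_sq_le hne hz
  rw [cc]
  omega

/-- A character vanishes where the prime dividing its degree once divides the order. -/
theorem vanish (hG : Nat.card G = 443520) {p : ℕ} (hp : p = 5 ∨ p = 7 ∨ p = 11) {χ : IrrCharacter G}
    (hd : p ∣ charDegree (χ : G → ℂ)) {g : G} (hg : p ∣ orderOf g) : (χ : G → ℂ) g = 0 := by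
  have hpp : p.Prime := by rcases hp with rfl | rfl | rfl <;> norm_num
  refine BSW.defect_zero_vanish hpp ?_ hg
  have hfac : (Nat.card G).factorization p ≤ 1 := by
    by_contra h
    have h2 := (hpp.pow_dvd_iff_le_factorization Nat.card_pos.ne').2 (show 2 ≤ (Nat.card G).factorization p by omega)
    rw [hG] at h2
    rcases hp with rfl | rfl | rfl <;> norm_num at h2
  rw [← charDegree_eq_deg]
  exact (pow_dvd_pow p hfac).trans (by rwa [pow_one])

/-- Elements of order three are conjugate to their inverses. -/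
theorem three_real (hG : Nat.card G = 443520) {x : G} (hx : orderOf x = 3) : IsConj x x⁻¹ := by
  haveI : Fact (Nat.Prime 3) := ⟨Nat.prime_three⟩
  obtain ⟨T, hT⟩ := (IsPGroup.of_card (n := 1) (by rw [Nat.card_zpowers, hx, pow_one]) :
    IsPGroup 3 (Subgroup.zpowers x)).exists_le_sylow
  refine real_of_sylow_nine (comm_top hG) T ?_ (hT (Subgroup.mem_zpowers x)) hx
  rw [T.card_eq_multiplicity, hG, show (443520 : ℕ) = 3 ^ 2 * 49280 from rfl,
    Nat.factorization_mul (by norm_num) (by norm_num), Nat.factorization_pow, Finsupp.add_apply,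
    Finsupp.smul_apply, Nat.prime_three.factorization_self,
    Nat.factorization_eq_zero_of_not_dvd (by norm_num : ¬ 3 ∣ 49280)]
  rfl

/-- The values at an element of order three. -/
theorem three_value (hG : Nat.card G = 443520) (χ : IrrCharacter G) {x : G} (hx : orderOf x = 3) :
    ∃ z : ℤ, (χ : G → ℂ) x = z ∧ (3 : ℤ) ∣ (charDegree (χ : G → ℂ) : ℤ) - z ∧
      0 ≤ (charDegree (χ : G → ℂ) : ℤ) + 2 * z := by
  have hx3 : x ^ 3 = 1 := hx ▸ pow_orderOf_eq_one x
  have h2 : (χ : G → ℂ) (x ^ 2) = (χ : G → ℂ) x := by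
    rw [eq_inv_of_mul_eq_one_left (show x ^ 2 * x = 1 by rw [← pow_succ]; exact hx3)]
    obtain ⟨c, hc⟩ := isConj_iff.1 (three_real hG hx)
    rw [← hc, isClassFunction_character (irr_isCharacter χ.2) x c]
  obtain ⟨z, hz⟩ := int_value χ (g := x) fun k hk => by
    have hk3 : ¬ 3 ∣ k := fun h => by
      have h3 : Nat.gcd 3 (Nat.card G) = 1 := Nat.Coprime.coprime_dvd_left h hk
      rw [hG] at h3
      norm_num at h3
    rw [pow_eq_pow_mod k hx3]
    rcases (show k % 3 = 1 ∨ k % 3 = 2 by omega) with e | e <;> rw [e]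
    · rw [pow_one]
    · exact h2
  refine ⟨z, hz, int_congr_deg Nat.prime_three hx hz, ?_⟩
  refine (mult_int (irr_isCharacter χ.2) (n := 3) (by norm_num) hx3 (ζ := 1) (one_pow _) ?_).2
  simp only [Finset.sum_range_succ, Finset.sum_range_zero, one_pow, one_mul, pow_zero, pow_one, val_one, h2, hz]
  push_cast
  ring

end Cfsg.Agent.MTwentyTwo.ByOrder
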