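import Mathlib

/-!
Numerical facts for the Sylow subgroup of order eleven of a group of the order of the Mathieu group of degree
twenty-two.
-/

set_option autoImplicit false
set_option maxRecDepth 100000

namespace Cfsg.Agent.MTwentyTwo.ByOrder

/-- the cases of the count of Sylow subgroups which are possible by arithmetic -/
def optOk (i e k : ℕ) : Bool :=
  (i == 733 && e == 5) || i == 1 || (e == 2 && (k % 2 == 0 || k == 63)) ||
    ((e == 5 || e == 10) && ([6, 12, 28, 56, 72, 144].contains k))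

theorem sylow_table : ((List.range 3666).all fun i => [2, 5, 10].all fun e =>
    (40320 % ((11 * i + 1) * e) != 0) || i == 0 || optOk i e (40320 / ((11 * i + 1) * e))) = true := by
  decide +kernel

theorem sylow_options {i e k : ℕ} (hi : i ≠ 0) (he : e = 2 ∨ e = 5 ∨ e = 10) (h : (11 * i + 1) * e * k = 40320) :
    (i = 733 ∧ e = 5) ∨ i = 1 ∨ (e = 2 ∧ (2 ∣ k ∨ k = 63)) ∨
      ((e = 5 ∨ e = 10) ∧ (k ∈ [6, 12, 28, 56, 72] ∨ k = 144)) := by
  have hk : k ≠ 0 := fun e' => by rw [e', mul_zero] at h; omega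
  have hpos : 0 < (11 * i + 1) * e := Nat.pos_of_ne_zero fun e' => by rw [e', zero_mul] at h; omega
  have hle : (11 * i + 1) * e ≤ 40320 := h ▸ Nat.le_mul_of_pos_right _ (Nat.pos_of_ne_zero hk)
  have hlt : i < 3666 := by
    have : 11 * i + 1 ≤ (11 * i + 1) * e := Nat.le_mul_of_pos_right _ (by omega)
    omega
  have hq : 40320 / ((11 * i + 1) * e) = k := by rw [← h, Nat.mul_div_cancel_left _ hpos]
  have hm : 40320 % ((11 * i + 1) * e) = 0 := by rw [← h, Nat.mul_mod_right]
  have ht := List.all_eq_true.1 (List.all_eq_true.1 sylow_table i (List.mem_range.2 hlt)) e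
    (by simpa using he)
  rw [hq, hm] at ht
  simp [optOk, hi, List.contains_iff_mem] at ht
  simp only [List.mem_cons, List.not_mem_nil, or_false, Nat.dvd_iff_mod_eq_zero]
  omega

/-- the possible degrees of the characters of degree prime to eleven -/
def dEven : List ℕ := (List.range 667).filter fun d => decide (2 ≤ d) && (40320 % d == 0)

theorem two_degree : ∀ d ∈ dEven, ∀ g ∈ dEven, ∀ a ∈ ([1, -1] : List ℤ), ∀ δ ∈ ([1, -1] : List ℤ),
    ((d : ℤ) - a) % 11 = 0 → ((g : ℤ) - δ * 2) % 11 = 0 → δ * g = 1 + a * d → d = 10 ∨ d = 21 := by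
  decide +kernel

theorem odd_degree : ∀ d ∈ dEven, d % 11 ∈ [1, 10, 5, 6] → d % 2 = 1 → d ∈ [5, 21, 45, 105] := by
  decide +kernel

/-- the values of absolute value less than the degree, congruent to it -/
def valRange (d : ℕ) : List ℤ := (List.range (2 * d)).map fun i : ℕ => (i : ℤ) - (d : ℤ)

theorem mem_valRange {d : ℕ} {z : ℤ} (h : z.natAbs < d) : z ∈ valRange d :=
  List.mem_map.2 ⟨(z + d).toNat, List.mem_range.2 (by omega), by omega⟩

theorem odd_invol : ∀ d ∈ [5, 21, 45, 105], ∀ z ∈ valRange d, z.natAbs < d → ((d : ℤ) - z) % 44 = 0 →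
    (8064 * z) % (d : ℤ) ≠ 0 := by
  decide +kernel

theorem odd_three : ∀ d ∈ [5, 21, 45, 105], ∀ z ∈ valRange d, z.natAbs < d → ((d : ℤ) - z) % 33 = 0 →
    0 ≤ (d : ℤ) + 2 * z → (896 * z) % (d : ℤ) ≠ 0 := by
  decide +kernel

theorem small_invol : ∀ d ∈ [10, 21], ∀ z ∈ valRange d, z.natAbs < d → ((d : ℤ) - z) % 44 ≠ 0 := by
  decide +kernel

theorem small_three : ∀ d ∈ [10, 21], ∀ z ∈ valRange d, z.natAbs < d → ((d : ℤ) - z) % 33 = 0 →
    ¬ 0 ≤ (d : ℤ) + 2 * z := by
  decide +kernel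

end Cfsg.Agent.MTwentyTwo.ByOrder
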