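import Cfsg.Agent.Lib.Spor.MTwentyTwoOrder.Vals
import Cfsg.Agent.Lib.Spor.MTwentyTwoOrder.SylowArith
import Cfsg.Agent.Lib.Spor.MTwelve.OrderFront.Eleven
import Cfsg.Agent.Lib.Spor.MTwelve.OrderFront.Generic

/-!
A simple group of the order of the Mathieu group of degree twenty-two has a self-centralising Sylow subgroup of
order eleven, with automiser of order five.
-/

set_option autoImplicit false
set_option linter.unusedSectionVars false
set_option linter.style.haveILetI false

namespace Cfsg.Agent.MTwentyTwo.ByOrder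

open Cfsg Cfsg.Agent.Char Cfsg.Agent.Small.Order459648 Cfsg.Agent.Char.PrimeSylowCount
open Cfsg.Agent.MTwelve.OrderFront (val_one class_dvd mult_int natAbs_lt modEq_cent cent_twelve)
open scoped ComplexConjugate

universe u

variable {G : Type u} [Group G] [Fintype G] [IsSimpleGroup G]

theorem deg_mem (hG : Nat.card G = 443520) {χ : IrrCharacter G} (hne : χ ≠ oneChar)
    (h11 : ¬ 11 ∣ charDegree (χ : G → ℂ)) : charDegree (χ : G → ℂ) ∈ dEven := by
  have hd : charDegree (χ : G → ℂ) ∣ 11 * 40320 := by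
    rw [show 11 * 40320 = Nat.card G from hG.symm]; exact deg_dvd_card χ.2
  have hd' : charDegree (χ : G → ℂ) ∣ 40320 :=
    (((show Nat.Prime 11 by norm_num).coprime_iff_not_dvd.2 h11).symm).dvd_of_dvd_mul_left hd
  have h1 := one_lt_degree (na hG) hne
  have h := MTwelve.OrderFront.one_add_sq_le (g := (1 : G)) hne (val_one χ)
  have hC : Nat.card (Subgroup.centralizer ({1} : Set G)) ≤ 443520 := hG ▸ Subgroup.card_le_card_group _
  refine List.mem_filter.2 ⟨List.mem_range.2 ?_, by simp [Nat.mod_eq_zero_of_dvd hd']; omega⟩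
  by_contra hb
  have : (667 : ℤ) * 667 ≤ (charDegree (χ : G → ℂ) : ℤ) * (charDegree (χ : G → ℂ) : ℤ) :=
    mul_le_mul (by omega) (by omega) (by norm_num) (by omega)
  omega

/-- a primitive cube root of unity -/
noncomputable def cw : ℂ := Complex.exp (2 * Real.pi * Complex.I / 3)

theorem cw_prim : IsPrimitiveRoot cw 3 := by
  simpa [cw] using Complex.isPrimitiveRoot_exp 3 (by norm_num)

theorem cw_cube : cw ^ 3 = 1 := cw_prim.pow_eq_one

theorem cw_sum : 1 + cw + cw ^ 2 = 0 := by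
  have := cw_prim.geom_sum_eq_zero (by norm_num)
  simpa [Finset.sum_range_succ] using this

/-- The data of the principal block. -/
structure Blk (P : Sylow 11 G) [Fact (Nat.Prime 11)] (e : ℕ) (M : Ideal AlgInt) (X Y : Finset (IrrCharacter G))
    (a : IrrCharacter G → ℤ) (δ : ℤ) : Prop where
  modular : IsPModular 11 M
  frob : FrobSylow P e
  pp : PrimePrincipal M P e X Y a δ
  one_mem : (oneChar : IrrCharacter G) ∈ X
  one_sign : a oneChar = 1

local instance fact_eleven : Fact (Nat.Prime 11) := ⟨by norm_num⟩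

variable {P : Sylow 11 G} {e : ℕ} {M : Ideal AlgInt} {X Y : Finset (IrrCharacter G)}
  {a : IrrCharacter G → ℤ} {δ : ℤ}

/-- The split of a character of the block at the product with an element of order two or three. -/
theorem Blk.split (B : Blk P e M X Y a δ) (hP : Nat.card P = 11) {χ : IrrCharacter G} (hχ : χ ∈ X ∨ χ ∈ Y)
    {y : G} (hy : y ∈ (P : Subgroup G)) (hy1 : y ≠ 1) {q : ℕ} (hq : q = 2 ∨ q = 3) {v : G} (hv : v ^ q = 1)
    (hc : v * y = y * v) {z : ℤ} (hz : (χ : G → ℂ) v = z) (hz2 : q = 3 → (χ : G → ℂ) (v ^ 2) = z) :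
    ((11 * q : ℕ) : ℤ) ∣ (charDegree (χ : G → ℂ) : ℤ) - z := by
  have hcy : Commute y v := hc.symm
  have hy11 : y ^ 11 = 1 := by
    rw [← hP]; exact congrArg Subtype.val (pow_card_eq_one' (x := (⟨y, hy⟩ : ↥(P : Subgroup G))))
  have hqp : q.Prime := by rcases hq with rfl | rfl <;> norm_num
  have hconst : ∀ i j : ℕ, ¬ 11 ∣ i → (χ : G → ℂ) (y ^ i * v ^ j) = (χ : G → ℂ) (y ^ i) := by
    intro i j hi
    have hyi : y ^ i ≠ 1 := fun h => by
      have ho : orderOf y = 11 := orderOf_eq_prime hy11 hy1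
      exact hi (ho ▸ orderOf_dvd_of_pow_eq_one h)
    have hm : v ^ j ∈ Subgroup.centralizer ({y ^ i} : Set G) :=
      Subgroup.mem_centralizer_singleton_iff.2 (hcy.symm.pow_pow j i).eq
    refine B.frob.principal_const B.modular ((B.pp.mem_iff χ).2 hχ) (y := ⟨y ^ i, pow_mem hy i⟩) hyi
      ⟨v ^ j, hm⟩ ?_
    rw [Subgroup.orderOf_mk]
    intro h11
    have h2 : orderOf (v ^ j) ∣ q := orderOf_dvd_of_pow_eq_one (by rw [← pow_mul, mul_comm, pow_mul, hv, one_pow])
    have := Nat.le_of_dvd hqp.pos (h11.trans h2)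
    rcases hq with rfl | rfl <;> omega
  have hg : (y * v) ^ (11 * q) = 1 := by
    rw [hcy.mul_pow, pow_mul, hy11, one_pow, one_mul, mul_comm 11, pow_mul, hv, one_pow]
  rcases hq with rfl | rfl
  · refine (mult_int (irr_isCharacter χ.2) (n := 11 * 2) (by norm_num) hg (ζ := -1) (by norm_num) ?_).1
    rw [show 11 * 2 = 11 + 11 from rfl, Finset.sum_range_add, ← Finset.sum_add_distrib, Finset.sum_range_succ']
    have hzero : ∀ i ∈ Finset.range 10, (-1 : ℂ) ^ (i + 1) * (χ : G → ℂ) ((y * v) ^ (i + 1)) +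
        (-1) ^ (11 + (i + 1)) * (χ : G → ℂ) ((y * v) ^ (11 + (i + 1))) = 0 := by
      intro i hi
      have hi' := Finset.mem_range.1 hi
      have h1 : ¬ 11 ∣ i + 1 := fun h => by have := Nat.le_of_dvd (by omega) h; omega
      rw [hcy.mul_pow, hcy.mul_pow, pow_add y 11, hy11, one_mul, hconst _ _ h1, hconst _ _ h1, pow_add (-1 : ℂ) 11]
      norm_num
    rw [Finset.sum_eq_zero hzero]
    simp only [pow_zero, one_mul, zero_add, add_zero, hcy.mul_pow, hy11, val_one]
    rw [show v ^ 11 = v by rw [show 11 = 2 * 5 + 1 from rfl, pow_succ, pow_mul, hv, one_pow, one_mul], hz]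
    push_cast
    norm_num
    ring
  · have hw : cw ^ (11 * 3) = 1 := by rw [mul_comm, pow_mul, cw_cube, one_pow]
    refine (mult_int (irr_isCharacter χ.2) (n := 11 * 3) (by norm_num) hg hw ?_).1
    rw [show 11 * 3 = 11 + 11 + 11 from rfl, Finset.sum_range_add, Finset.sum_range_add, ← Finset.sum_add_distrib,
      ← Finset.sum_add_distrib, Finset.sum_range_succ']
    have e11 : cw ^ 11 = cw ^ 2 := by rw [show 11 = 3 * 3 + 2 from rfl, pow_add, pow_mul, cw_cube, one_pow, one_mul]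
    have e22 : cw ^ (11 + 11) = cw := by
      rw [show 11 + 11 = 3 * 7 + 1 from rfl, pow_add, pow_mul, cw_cube, one_pow, one_mul, pow_one]
    have hzero : ∀ i ∈ Finset.range 10, cw ^ (i + 1) * (χ : G → ℂ) ((y * v) ^ (i + 1)) +
        cw ^ (11 + (i + 1)) * (χ : G → ℂ) ((y * v) ^ (11 + (i + 1))) +
          cw ^ (11 + 11 + (i + 1)) * (χ : G → ℂ) ((y * v) ^ (11 + 11 + (i + 1))) = 0 := by
      intro i hi
      have hi' := Finset.mem_range.1 hi
      have h1 : ¬ 11 ∣ i + 1 := fun h => by have := Nat.le_of_dvd (by omega) h; omega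
      rw [hcy.mul_pow, hcy.mul_pow, hcy.mul_pow, pow_add y (11 + 11), pow_add y 11 11, pow_add y 11, hy11,
        one_mul, one_mul, one_mul, hconst _ _ h1, hconst _ _ h1, hconst _ _ h1, pow_add cw (11 + 11), e22, pow_add cw 11, e11]
      linear_combination (cw ^ (i + 1) * (χ : G → ℂ) (y ^ (i + 1))) * cw_sum
    rw [Finset.sum_eq_zero hzero]
    simp only [pow_zero, one_mul, zero_add, add_zero, hcy.mul_pow, hy11, val_one]
    rw [pow_add y, hy11, one_mul, show v ^ 11 = v ^ 2 by
      rw [show 11 = 3 * 3 + 2 from rfl, pow_add, pow_mul, hv, one_pow, one_mul],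
      show v ^ (11 + 11) = v by rw [show 11 + 11 = 3 * 7 + 1 from rfl, pow_add, pow_mul, hv, one_pow, one_mul, pow_one],
      one_mul, hz, hz2 rfl, e11, e22]
    push_cast
    linear_combination (z : ℂ) * cw_sum

/-- An element of order five of the normaliser and an element of order `q` of the centraliser commute. -/
theorem exists_fixed (P : Sylow 11 G) {e k q : ℕ} [Fact q.Prime]
    (hk : Nat.card (Subgroup.centralizer ((P : Subgroup G) : Set G)) = 11 * k)
    (he : (Subgroup.centralizer ((P : Subgroup G) : Set G)).relIndex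
      (Subgroup.normalizer ((P : Subgroup G) : Set G)) = e) (h5e : 5 ∣ e) (hq11 : ¬ q ∣ 11)
    (hmod : q ^ k.factorization q % 5 ≠ 1) (hk0 : k ≠ 0) :
    ∃ (T : Subgroup G) (v f : G), Nat.card T = q ^ k.factorization q ∧
      T ≤ Subgroup.centralizer ((P : Subgroup G) : Set G) ∧
      v ∈ T ∧ orderOf v = q ∧ orderOf f = 5 ∧ f * v = v * f := by
  classical
  have : Fact (Nat.Prime 5) := ⟨by norm_num⟩
  set C := Subgroup.centralizer ((P : Subgroup G) : Set G)
  set N := Subgroup.normalizer ((P : Subgroup G) : Set G)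
  haveI : (C.subgroupOf N).Normal := Subgroup.normal_subgroupOf_centralizer_normalizer _
  set C' := C.subgroupOf N
  obtain ⟨T⟩ := (Sylow.nonempty : Nonempty (Sylow q C'))
  set T' : Subgroup N := (T : Subgroup C').map C'.subtype
  set H := Subgroup.normalizer (T' : Set N)
  have hsup : H ⊔ C' = ⊤ := Sylow.normalizer_sup_eq_top T
  have h5 : 5 ∣ Nat.card H := by
    let ψ : H →* N ⧸ C' := (QuotientGroup.mk' C').comp H.subtype
    have hsur : Function.Surjective ψ := by
      intro x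
      obtain ⟨n, rfl⟩ := QuotientGroup.mk'_surjective C' x
      have hn : n ∈ ((H ⊔ C' : Subgroup N) : Set N) := by rw [hsup]; exact Subgroup.mem_top n
      rw [Subgroup.mul_normal] at hn
      obtain ⟨a, ha, c, hc, rfl⟩ := Set.mem_mul.1 hn
      refine ⟨⟨a, ha⟩, (QuotientGroup.eq.2 ?_ : _)⟩
      simp only [Subgroup.subtype_apply, ← mul_assoc, inv_mul_cancel, one_mul, SetLike.mem_coe] at hc ⊢
      exact hc
    have h := Subgroup.card_dvd_of_surjective ψ hsur
    rw [← Subgroup.index_eq_card, show C'.index = e from he] at h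
    exact h5e.trans h
  obtain ⟨f, hf⟩ := exists_prime_orderOf_dvd_card' (G := H) 5 h5
  have hC' : Nat.card C' = 11 * k := by
    rw [Solv.card_subgroupOf (Subgroup.centralizer_le_normalizer _), hk]
  have hT : Nat.card T' = q ^ k.factorization q := by
    rw [Subgroup.card_map_of_injective C'.subtype_injective, T.card_eq_multiplicity, hC',
      Nat.factorization_mul (by norm_num) hk0, Finsupp.add_apply, Nat.factorization_eq_zero_of_not_dvd hq11,
      zero_add]
  set A : Subgroup G := T'.map N.subtype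
  have hA : Nat.card A = q ^ k.factorization q := by
    rw [Subgroup.card_map_of_injective N.subtype_injective, hT]
  have hAC : A ≤ C := by
    rintro _ ⟨x, ⟨c, -, rfl⟩, rfl⟩
    exact c.2
  have hfo : orderOf ((f : N) : G) = 5 := by rw [Subgroup.orderOf_coe, Subgroup.orderOf_coe, hf]
  have hnorm : ∀ x ∈ A, ((f : N) : G) * x * ((f : N) : G)⁻¹ ∈ A := by
    rintro _ ⟨x, hx, rfl⟩
    exact ⟨(f : N) * x * (f : N)⁻¹, (Subgroup.mem_normalizer_iff.1 f.2 x).1 hx, by simp⟩
  have hfix := modEq_cent (p := 5) (k := 1) (x := ((f : N) : G))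
    (by rw [pow_one, ← hfo, pow_orderOf_eq_one]) A hnorm
  set F := A ⊓ Subgroup.centralizer ({((f : N) : G)} : Set G)
  have hne : Nat.card F ≠ 1 := fun h => hmod (by
    rw [h, hA] at hfix
    exact (show _ % 5 = 1 % 5 from hfix))
  have hdvd : q ∣ Nat.card F := by
    obtain ⟨i, -, hi⟩ := (Nat.dvd_prime_pow (Fact.out : q.Prime)).1 (hA ▸ Subgroup.card_dvd_of_le (inf_le_left : F ≤ A))
    rcases i with _ | i
    · exact absurd (hi.trans (pow_zero q)) hne
    · rw [hi]; exact dvd_pow_self q (Nat.succ_ne_zero i)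
  obtain ⟨v, hv⟩ := exists_prime_orderOf_dvd_card' (G := F) q hdvd
  exact ⟨A, v, ((f : N) : G), hA, hAC, v.2.1, by rw [Subgroup.orderOf_coe, hv], hfo,
    (Subgroup.mem_centralizer_singleton_iff.1 v.2.2).symm⟩

/-- The Sylow subgroup of order eleven. -/
theorem exists_eleven (hG : Nat.card G = 443520) :
    ∃ P : Sylow 11 G, Nat.card P = 11 ∧ Nat.card (Subgroup.centralizer ((P : Subgroup G) : Set G)) = 11 ∧
      (Subgroup.centralizer ((P : Subgroup G) : Set G)).relIndex
        (Subgroup.normalizer ((P : Subgroup G) : Set G)) = 5 := by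
  classical
  obtain ⟨P, n, e, k, hP, hn, hk, hnek, hn1, hne1, he10, he1, he⟩ :=
    data (G := G) (p := 11) (m := 40320) (by rw [hG]) (by norm_num) (by norm_num)
  have hC : Nat.card (Subgroup.centralizer ((P : Subgroup G) : Set G)) = 11 * k := hk
  have hk0 : k ≠ 0 := by rintro rfl; simp at hnek
  obtain ⟨i, hi⟩ : ∃ i, n = 11 * i + 1 := ⟨n / 11, by omega⟩
  have hel : e = 2 ∨ e = 5 ∨ e = 10 := by
    have : e ≤ 10 := Nat.le_of_dvd (by norm_num) he10
    interval_cases e <;> simp_all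
  rcases sylow_options (i := i) (by omega) hel (hi ▸ hnek) with ⟨rfl, rfl⟩ | rfl | hcase
  · subst hi
    exact ⟨P, hP, by rw [hC]; omega, he⟩
  · exfalso
    have h := cent_twelve P hP (by rw [hn, hi])
    rw [show centCard 11 P = 11 * k from hk] at h
    have hk1 : k = 1 := by omega
    subst hk1 hi
    omega
  exfalso
  obtain ⟨y0, hy0⟩ := SmallOrderGraph.nonOne_nonempty P hP
  set y : G := (y0 : G)
  have hy : y ∈ (P : Subgroup G) := y0.2
  have hy1 : y ≠ 1 := mem_nonOne.1 hy0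
  obtain ⟨t, ht, het⟩ : ∃ t, 0 < t ∧ e * t + 1 = 11 := by
    rcases hel with rfl | rfl | rfl
    exacts [⟨5, by norm_num⟩, ⟨2, by norm_num⟩, ⟨1, by norm_num⟩]
  obtain ⟨M, hM⟩ := exists_pModular (show Nat.Prime 11 by norm_num)
  obtain ⟨X, Y, a, δ, h, h1X, hone, hYc⟩ := Solv.BReyn.exists_principal_one_mem hM hP he (by omega) ht het
  have B : Blk P e M X Y a δ := ⟨hM, he ▸ frobSylow_of_prime hP, h, h1X, hone⟩
  have hdX : ∀ χ ∈ X, charDegree (χ : G → ℂ) % 11 = 1 ∨ charDegree (χ : G → ℂ) % 11 = 10 := fun χ hχ => by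
    have h2 := (h.a_congr χ hχ).eq
    rcases h.a_sign χ hχ with e' | e' <;> rw [e'] at h2 <;> omega
  have hdY : ∀ θ ∈ Y, ¬ 11 ∣ charDegree (θ : G → ℂ) ∧
      (e ≠ 2 → charDegree (θ : G → ℂ) % 11 ∈ [1, 10, 5, 6]) := fun θ hθ => by
    have h2 := (h.congrY θ hθ).eq
    rcases h.sign with e' | e' <;> rw [e'] at h2 <;> rcases hel with rfl | rfl | rfl <;>
      refine ⟨by omega, fun he2 => ?_⟩ <;> simp only [List.mem_cons, List.not_mem_nil, or_false] <;> omega
  have hYne : ∀ θ ∈ Y, θ ≠ oneChar := fun θ hθ e1 => Finset.disjoint_left.1 h.disj h1X (by subst e1; exact hθ)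
  obtain ⟨θ, hθ⟩ : Y.Nonempty := Finset.card_pos.1 (by omega)
  have hrel : δ * (charDegree (θ : G → ℂ) : ℤ) = 1 + ∑ χ ∈ X.erase oneChar, a χ * (charDegree (χ : G → ℂ) : ℤ) := by
    have h2 := h.rel θ hθ 1 (by simp)
    rw [← Finset.add_sum_erase X _ h1X, hone] at h2
    simp only [val_one] at h2
    have h3 : ((δ * (charDegree (θ : G → ℂ) : ℤ) : ℤ) : ℂ) =
        ((1 + ∑ χ ∈ X.erase oneChar, a χ * (charDegree (χ : G → ℂ) : ℤ) : ℤ) : ℂ) := by
      push_cast at h2 ⊢
      simp only [oneChar, charDegree] at h2 ⊢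
      simpa using h2
    exact_mod_cast h3
  have hXd : ∀ χ ∈ X.erase oneChar, charDegree (χ : G → ℂ) ∈ dEven := fun χ hχ =>
    deg_mem hG (Finset.mem_erase.1 hχ).1 fun h11 => by
      have := hdX χ (Finset.mem_erase.1 hχ).2
      omega
  have hYd : charDegree (θ : G → ℂ) ∈ dEven := deg_mem hG (hYne θ hθ) (hdY θ hθ).1
  -- the facts at an element of order two or three centralising the Sylow subgroup
  have hadm2 : ∀ v ∈ Subgroup.centralizer ((P : Subgroup G) : Set G), orderOf v = 2 →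
      ∀ χ : IrrCharacter G, χ ≠ oneChar → (χ ∈ X ∨ χ ∈ Y) → ∃ z : ℤ, (χ : G → ℂ) v = z ∧
        z.natAbs < charDegree (χ : G → ℂ) ∧ ((charDegree (χ : G → ℂ) : ℤ) - z) % 44 = 0 := by
    intro v hvC hv χ hne hmem
    obtain ⟨z, hz, h4, hlt⟩ := SmallOrderGraph.invol_value (na hG) hne hv
    have h22 := B.split hP hmem hy hy1 (q := 2) (Or.inl rfl) (v := v) (by rw [← hv]; exact pow_orderOf_eq_one v)
      (Subgroup.mem_centralizer_iff.1 hvC y hy).symm hz (by norm_num)
    exact ⟨z, hz, hlt, by omega⟩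
  have hadm3 : ∀ v ∈ Subgroup.centralizer ((P : Subgroup G) : Set G), orderOf v = 3 →
      ∀ χ : IrrCharacter G, χ ≠ oneChar → (χ ∈ X ∨ χ ∈ Y) → ∃ z : ℤ, (χ : G → ℂ) v = z ∧
        z.natAbs < charDegree (χ : G → ℂ) ∧ ((charDegree (χ : G → ℂ) : ℤ) - z) % 33 = 0 ∧
        0 ≤ (charDegree (χ : G → ℂ) : ℤ) + 2 * z := by
    intro v hvC hv χ hne hmem
    obtain ⟨z, hz, -, hge⟩ := three_value hG χ hv
    have hlt := natAbs_lt (na hG) hne (show v ≠ 1 from fun e' => by rw [e', orderOf_one] at hv; omega) hz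
    have h33 := B.split hP hmem hy hy1 (q := 3) (Or.inr rfl) (v := v) (by rw [← hv]; exact pow_orderOf_eq_one v)
      (Subgroup.mem_centralizer_iff.1 hvC y hy).symm hz
      (fun _ => pow_int hz (by rw [hv]; norm_num))
    exact ⟨z, hz, hlt, by omega, hge⟩
  rcases hcase with ⟨rfl, hk2⟩ | ⟨he5, hk5⟩
  · -- automiser of order two
    obtain ⟨χ, hsing⟩ : ∃ χ, X.erase oneChar = {χ} :=
      Finset.card_eq_one.1 ((Finset.card_erase_of_mem h1X).trans (by rw [h.cardX]))
    obtain ⟨hne, hχX⟩ := Finset.mem_erase.1 (show χ ∈ X.erase oneChar by rw [hsing]; simp)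
    rw [hsing, Finset.sum_singleton] at hrel
    have hd : charDegree (χ : G → ℂ) = 10 ∨ charDegree (χ : G → ℂ) = 21 := by
      refine two_degree _ (hXd χ (by rw [hsing]; simp)) _ hYd (a χ) ?_ δ ?_ ?_ ?_ hrel
      · rcases h.a_sign χ hχX with h' | h' <;> simp [h']
      · rcases h.sign with h' | h' <;> simp [h']
      · exact Int.emod_eq_zero_of_dvd (Int.modEq_iff_dvd.1 (h.a_congr χ hχX).symm)
      · exact Int.emod_eq_zero_of_dvd (Int.modEq_iff_dvd.1 (h.congrY θ hθ).symm)
    have hdl : charDegree (χ : G → ℂ) ∈ [10, 21] := by simpa using hd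
    rcases hk2 with h2 | h63
    · obtain ⟨v, hvC, hv⟩ := MTwelve.OrderFront.exists_invol _ (hC ▸ dvd_mul_of_dvd_right h2 11)
      obtain ⟨z, -, hlt, h44⟩ := hadm2 v hvC hv χ hne (Or.inl hχX)
      exact small_invol _ hdl z (mem_valRange hlt) hlt h44
    · haveI : Fact (Nat.Prime 3) := ⟨Nat.prime_three⟩
      obtain ⟨v, hv⟩ := exists_prime_orderOf_dvd_card' (G := Subgroup.centralizer ((P : Subgroup G) : Set G)) 3
        (by rw [hC, h63]; norm_num)
      obtain ⟨z, -, hlt, h33, hge⟩ := hadm3 v v.2 (by rw [Subgroup.orderOf_coe, hv]) χ hne (Or.inl hχX)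
      exact small_three _ hdl z (mem_valRange hlt) hlt h33 hge
  -- automiser of order five or ten: all degrees of the block are even
  suffices heven : ∀ χ : IrrCharacter G, χ ≠ oneChar → (χ ∈ X ∨ χ ∈ Y) → charDegree (χ : G → ℂ) % 2 = 0 by
    have h1 : (2 : ℤ) ∣ δ * (charDegree (θ : G → ℂ) : ℤ) :=
      Dvd.dvd.mul_left (Int.natCast_dvd_natCast.2 (Nat.dvd_of_mod_eq_zero (heven θ (hYne θ hθ) (Or.inr hθ)))) _
    have h2 : (2 : ℤ) ∣ ∑ χ ∈ X.erase oneChar, a χ * (charDegree (χ : G → ℂ) : ℤ) :=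
      Finset.dvd_sum fun χ hχ => Dvd.dvd.mul_left (Int.natCast_dvd_natCast.2 (Nat.dvd_of_mod_eq_zero
        (heven χ (Finset.mem_erase.1 hχ).1 (Or.inl (Finset.mem_erase.1 hχ).2)))) _
    omega
  intro χ hne hmem
  by_contra hodd
  have hdl : charDegree (χ : G → ℂ) ∈ [5, 21, 45, 105] := by
    refine odd_degree _ ?_ ?_ (by omega)
    · rcases hmem with hX | hY
      · exact hXd χ (Finset.mem_erase.2 ⟨hne, hX⟩)
      · exact deg_mem hG hne (hdY χ hY).1
    · rcases hmem with hX | hY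
      · rcases hdX χ hX with e' | e' <;> rw [e'] <;> simp
      · exact (hdY χ hY).2 (by rcases he5 with rfl | rfl <;> norm_num)
  have h5e : 5 ∣ e := by rcases he5 with rfl | rfl <;> norm_num
  have key : ∀ (v f : G) (m q : ℕ), v ∈ Subgroup.centralizer ((P : Subgroup G) : Set G) → orderOf f = 5 →
      f * v = v * f → m ∣ Nat.card (Subgroup.centralizer ({v} : Set G)) → 443520 / (55 * m) = q → 55 * m ∣ 443520 →
      Nat.Coprime 55 m → ∀ z : ℤ, (χ : G → ℂ) v = z → ((q : ℤ) * z) % (charDegree (χ : G → ℂ) : ℤ) = 0 := by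
    intro v f m q hvC hf hfv hm hq hdiv hco z hz
    set H := Subgroup.centralizer ({v} : Set G) with hH
    have m1 : ∀ x : G, x * v = v * x → orderOf x ∣ Nat.card H := fun x hx =>
      H.orderOf_dvd_natCard (Subgroup.mem_centralizer_singleton_iff.2 hx)
    have h11 : 11 ∣ Nat.card H := by
      have hoy : orderOf y = 11 := by
        have h' := (P : Subgroup G).orderOf_dvd_natCard hy
        rw [show Nat.card (P : Subgroup G) = 11 from hP] at h'
        exact ((Nat.dvd_prime (by norm_num)).1 h').resolve_left fun h' => hy1 (orderOf_eq_one_iff.1 h')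
      exact hoy ▸ m1 y (Subgroup.mem_centralizer_iff.1 hvC y hy)
    have h55 : 55 ∣ Nat.card H := Nat.Coprime.mul_dvd_of_dvd_of_dvd (by norm_num : Nat.Coprime 5 11) (hf ▸ m1 f hfv) h11
    have hall : 55 * m ∣ Nat.card H := Nat.Coprime.mul_dvd_of_dvd_of_dvd hco h55 hm
    have hHG : Nat.card H ∣ 443520 := hG ▸ Subgroup.card_subgroup_dvd_card H
    have hqd : (((443520 / Nat.card H : ℕ) : ℤ)) ∣ (q : ℤ) := by
      obtain ⟨c, hc⟩ := hall
      rw [← hq, Int.natCast_dvd_natCast, hc, ← Nat.div_div_eq_div_mul]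
      exact Nat.div_dvd_of_dvd ((Nat.dvd_div_iff_mul_dvd hdiv).2 (hc ▸ hHG))
    exact Int.emod_eq_zero_of_dvd ((class_dvd χ hz rfl hG).trans (mul_dvd_mul_right hqd z))
  rcases hk5 with hk5 | h144
  · haveI : Fact (Nat.Prime 2) := ⟨Nat.prime_two⟩
    have hfac : 2 ^ k.factorization 2 % 5 ≠ 1 := by
      have hl : k.factorization 2 = 1 ∨ k.factorization 2 = 2 ∨ k.factorization 2 = 3 := by
        have h1 : 1 ≤ k.factorization 2 := (Nat.prime_two.pow_dvd_iff_le_factorization hk0).1 (by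
          simp only [List.mem_cons, List.not_mem_nil, or_false] at hk5
          rcases hk5 with rfl | rfl | rfl | rfl | rfl <;> norm_num)
        have h4 : ¬ 4 ≤ k.factorization 2 := fun h4 => by
          have h16 := (Nat.prime_two.pow_dvd_iff_le_factorization hk0).2 h4
          simp only [List.mem_cons, List.not_mem_nil, or_false] at hk5
          rcases hk5 with rfl | rfl | rfl | rfl | rfl <;> norm_num at h16
        omega
      rcases hl with e' | e' | e' <;> rw [e'] <;> norm_num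
    obtain ⟨T, v, f, -, hTC, hvT, hv, hf, hfv⟩ := exists_fixed P hC he h5e (q := 2) (by norm_num) hfac hk0
    obtain ⟨z, hz, hlt, h44⟩ := hadm2 v (hTC hvT) hv χ hne hmem
    refine odd_invol _ hdl z (mem_valRange hlt) hlt h44 (key v f 1 8064 (hTC hvT) hf hfv (one_dvd _) ?_ ?_ ?_ z hz) <;>
      norm_num
  · haveI : Fact (Nat.Prime 3) := ⟨Nat.prime_three⟩
    have hfac : k.factorization 3 = 2 := by
      rw [h144, show 144 = 3 ^ 2 * 16 from rfl, Nat.factorization_mul (by norm_num) (by norm_num),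
        Nat.factorization_pow, Finsupp.add_apply, Finsupp.smul_apply, Nat.prime_three.factorization_self,
        Nat.factorization_eq_zero_of_not_dvd (by norm_num : ¬ 3 ∣ 16)]
      rfl
    obtain ⟨T, v, f, hTc, hTC, hvT, hv, hf, hfv⟩ :=
      exists_fixed P hC he h5e (q := 3) (by norm_num) (by rw [hfac]; norm_num) hk0
    rw [hfac] at hTc
    have hm : 9 ∣ Nat.card (Subgroup.centralizer ({v} : Set G)) := by
      rw [show 9 = Nat.card T by rw [hTc]; rfl]
      refine Subgroup.card_dvd_of_le fun x hx => Subgroup.mem_centralizer_singleton_iff.2 ?_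
      haveI := IsPGroup.isMulCommutative_of_card_eq_prime_sq (p := 3) (G := T) hTc
      exact congrArg Subtype.val (mul_comm' (⟨x, hx⟩ : T) ⟨v, hvT⟩)
    obtain ⟨z, hz, hlt, h33, hge⟩ := hadm3 v (hTC hvT) hv χ hne hmem
    refine odd_three _ hdl z (mem_valRange hlt) hlt h33 hge (key v f 9 896 (hTC hvT) hf hfv hm ?_ ?_ ?_ z hz) <;>
      norm_num

end Cfsg.Agent.MTwentyTwo.ByOrder
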