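import Cfsg.Agent.Lib.Spor.MTwentyTwoOrder.Sols

/-!
The boolean conditions on degrees and values used for the recognition of the Mathieu group of degree twenty-two
by its order.
-/

set_option autoImplicit false

namespace Cfsg.Agent.MTwentyTwo.ByOrder

/-- twice the averaged value at an element of prime order `p` of a character of degree `d` -/
def cfp (p d : ℕ) : ℤ :=
  bif d % p == 1 then 2 else bif d % p + 1 == p then -2 else
  bif p == 11 then (bif d % p == 5 then -1 else bif d % p == 6 then 1 else 0) else
  bif p == 7 then (bif d % p == 3 then -1 else bif d % p == 4 then 1 else 0) else 0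

/-- the product of two vectors -/
def dot : List ℤ → List ℤ → ℤ
  | x :: xs, y :: ys => x * y + dot xs ys
  | _, _ => 0

/-- the relation at an element prime to `p` -/
def lin (p : ℕ) : List ℕ → List ℤ → ℤ
  | d :: ds, x :: xs => cfp p d * x + lin p ds xs
  | _, _ => 0

/-- the number of products, doubled -/
def pl (p : ℕ) : List ℕ → List ℤ → List ℤ → ℤ
  | d :: ds, x :: xs, y :: ys => cfp p d * x * y * ((443520 / d : ℕ) : ℤ) + pl p ds xs ys
  | _, _, _ => 0

/-- a value allowed at an element with centraliser of order `C` -/
def chk (d C : ℕ) (z : ℤ) : Bool :=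
  decide (z.natAbs < d) && decide (z * z < (C : ℤ)) && ((((443520 / C : ℕ) : ℤ) * z) % (d : ℤ) == 0)

/-- the allowed values congruent to the degree modulo `m` -/
def rng (d C m : ℕ) : List ℤ :=
  ((List.range (2 * d / m + 1)).map fun j : ℕ => (d : ℤ) - (m : ℤ) * ((j : ℤ) + 1)).filter (chk d C)

theorem mem_rng {d C m : ℕ} {z : ℤ} (hm : 0 < m) (h1 : z.natAbs < d) (h2 : (m : ℤ) ∣ (d : ℤ) - z)
    (h3 : z * z < (C : ℤ)) (h4 : (d : ℤ) ∣ ((443520 / C : ℕ) : ℤ) * z) : z ∈ rng d C m := by
  obtain ⟨q, hq⟩ := h2
  have hm' : (0 : ℤ) < m := by exact_mod_cast hm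
  have hq0 : 0 < q := by
    rcases lt_or_ge 0 q with h | h
    · exact h
    · have : (m : ℤ) * q ≤ 0 := mul_nonpos_of_nonneg_of_nonpos hm'.le h
      omega
  obtain ⟨j, rfl⟩ : ∃ j : ℕ, q = (j : ℤ) + 1 := ⟨(q - 1).toNat, by omega⟩
  refine List.mem_filter.2 ⟨List.mem_map.2 ⟨j, List.mem_range.2 ?_, by omega⟩, ?_⟩
  · have hjm : j * m ≤ 2 * d := by
      have : (m : ℤ) * ((j : ℤ) + 1) < 2 * d := by omega
      have h5 : ((j * m : ℕ) : ℤ) ≤ ((2 * d : ℕ) : ℤ) := by push_cast; nlinarith
      exact_mod_cast h5
    exact Nat.lt_succ_of_le ((Nat.le_div_iff_mul_le hm).2 hjm)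
  · simp only [chk, Bool.and_eq_true, decide_eq_true_eq, beq_iff_eq]
    exact ⟨⟨h1, h3⟩, Int.emod_eq_zero_of_dvd h4⟩

/-- the allowed values at an element of order five or seven -/
def rngP (p d C : ℕ) : List ℤ := bif d % p == 0 then [0] else rng d C p

/-- the allowed values at an element of order `m` -/
def rngE (m d C : ℕ) : List ℤ := bif m == 5 || m == 7 then rngP m d C else rng d C m

/-- a list of degrees with the trivial character and the doubled exceptional one -/
def fullD : List ℕ → List ℕ
  | [a, b, c, e, g] => [1, a, b, c, e, g, g]
  | _ => []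

/-- a list of values with the trivial character and the doubled exceptional one -/
def fullV : List ℤ → List ℤ
  | [a, b, c, e, g] => [1, a, b, c, e, g, g]
  | _ => []

/-- candidates for the columns of the eleven-block, given the allowed values -/
def colsOf (r : List ℕ) (C : ℕ) (f : ℕ → List ℤ) : List (List ℤ) :=
  match r with
  | [a, b, c, e, g] =>
    (sols (C : ℤ) [(f a, cfp 11 a, 1), (f b, cfp 11 b, 1), (f c, cfp 11 c, 1), (f g, 2 * cfp 11 g, 2),
      (f e, cfp 11 e, 1)] 2 1).map fun v =>
      match v with
      | [va, vb, vc, w, ve] => [va, vb, vc, ve, w]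
      | _ => []
  | _ => []

/-- degrees of the non-exceptional characters -/
def dX : List ℕ := [10, 12, 21, 32, 45, 56, 120, 144, 210, 252, 320, 384, 560]

/-- degrees of the exceptional characters -/
def dY : List ℕ := [5, 6, 16, 28, 60, 72, 105, 126, 160, 192, 280, 336]

/-- the possible rows of degrees -/
def rowsAll : List (List ℕ) :=
  dX.flatMap fun a => dX.flatMap fun b => bif decide (b < a) then [] else dX.flatMap fun c =>
    bif decide (c < b) then [] else dX.flatMap fun e => bif decide (e < c) then [] else
      dY.filterMap fun g =>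
        bif decide (1 + (a * a + b * b + c * c + e * e) + 2 * (g * g) ≤ 443520) &&
          (lin 11 [1, a, b, c, e, g, g] [1, (a : ℤ), b, c, e, g, g] == 0) then some [a, b, c, e, g] else none

/-- orders of centralisers of central involutions -/
def cA : List ℕ := [128, 384, 640, 896, 1152, 1920, 2688, 4480, 5760, 8064, 13440, 40320]

/-- orders of centralisers of elements of order five -/
def cFive : List ℕ :=
  [5, 10, 30, 35, 60, 80, 105, 160, 180, 210, 280, 360, 480, 560, 630, 960, 1260, 1680, 3360, 10080, 20160]

/-- orders of centralisers of elements of order seven -/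
def cSeven : List ℕ :=
  [7, 28, 35, 56, 84, 105, 224, 280, 420, 448, 672, 840, 1260, 2240, 3360, 6720, 10080]

/-- orders of centralisers of elements of order five or seven -/
def cS (p : ℕ) : List ℕ := bif p == 5 then cFive else cSeven

/-- the divisors of `40320` divisible by `m` -/
def cDiv (m : ℕ) : List ℕ := ((List.range (40320 / m)).map fun j => m * (j + 1)).filter fun C => 40320 % C == 0

/-- a column with the centraliser order -/
abbrev Col : Type := ℕ × List ℤ

/-- the columns of central involutions -/
def aColsC (r : List ℕ) : List Col :=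
  cA.flatMap fun C => ((colsOf r C fun d => rng d C 4).filter fun v =>
    pl 11 (fullD r) (fullV v) (fullV v) == 0).map fun v => (C, v)

/-- the columns of elements of order five or seven with rational values -/
def qColsC (p : ℕ) (r : List ℕ) : List Col :=
  (cS p).flatMap fun C => (colsOf r C fun d => rngP p d C).map fun v => (C, v)

/-- the columns of elements of order three -/
def bColsC (Cs : List ℕ) (r : List ℕ) : List Col :=
  Cs.flatMap fun C => ((colsOf r C fun d => rng d C 3).filter fun v =>
    decide (0 ≤ pl 11 (fullD r) (fullV v) (fullV v)) &&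
      (pl 11 (fullD r) (fullV v) (fullV v) % (2 * ((C : ℤ) * C)) == 0)).map fun v => (C, v)

/-- the columns of involutions commuting with elements of order `p` -/
def uColsC (Cs : List ℕ) (p : ℕ) (r : List ℕ) : List Col :=
  Cs.flatMap fun E => ((colsOf r E fun d => rng d E (bif d % p == 0 then 4 * p else 4)).filter fun v =>
    pl 11 (fullD r) (fullV v) (fullV v) == 0).map fun v => (E, v)

/-- the bound from orthogonality -/
def orthOk (C : ℕ) (V : List ℤ) (D : ℕ) (W : List ℤ) : Bool :=
  decide (dot V W * dot V W ≤ ((C : ℤ) - dot V V) * ((D : ℤ) - dot W W))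

/-- two classes are compatible -/
def okk (r : List ℕ) (A B : Col) : Bool :=
  decide (0 ≤ pl 11 (fullD r) (fullV A.2) (fullV B.2)) &&
    (pl 11 (fullD r) (fullV A.2) (fullV B.2) % (2 * ((A.1 : ℤ) * B.1)) == 0) &&
      orthOk A.1 (fullV A.2) B.1 (fullV B.2)

/-- two classes of involutions are compatible -/
def okz (r : List ℕ) (A B : Col) : Bool :=
  (pl 11 (fullD r) (fullV A.2) (fullV B.2) == 0) && orthOk A.1 (fullV A.2) B.1 (fullV B.2)

/-- the four pairs of a degree and a value -/
def prof : List ℕ → List ℤ → List (ℕ × ℤ)
  | [a, b, c, e, _], [va, vb, vc, ve, _] => [(a, va), (b, vb), (c, vc), (e, ve)]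
  | _, _ => []

/-- the pairs prime to `p` are distinct -/
def single (p : ℕ) (r : List ℕ) (v : List ℤ) : Bool :=
  decide (((prof r v).filter fun x => x.1 % p != 0).Nodup)

/-- the sums over a group of `m` characters of degree `d` -/
def sumRng (p d m C : ℕ) : List ℤ :=
  ((List.range (2 * (m * d) / p + 1)).map fun j : ℕ => ((m * d : ℕ) : ℤ) - (p : ℤ) * (j : ℤ)).filter fun s =>
    decide (s * s ≤ ((m * C : ℕ) : ℤ)) && ((((443520 / C : ℕ) : ℤ) * s) % (d : ℤ) == 0)

/-- the slots for the sums over the groups -/
def weakSlots (p C : ℕ) (L : List (ℕ × ℤ)) : List Slot :=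
  L.dedup.map fun x => (bif L.count x == 1 then rng x.1 C p else sumRng p x.1 (L.count x) C, cfp 11 x.1,
    ((12 / L.count x : ℕ) : ℤ))

/-- the sums of values at an element of order `p` can exist -/
def weakOk (p : ℕ) (r : List ℕ) (v : List ℤ) (C : ℕ) : Bool :=
  match r with
  | [_, _, _, _, g] =>
    !(sols (12 * (C : ℤ)) ((rngP p g C, 2 * cfp 11 g, 24) ::
      weakSlots p C ((prof r v).filter fun x => x.1 % p != 0)) 2 12).isEmpty
  | _ => false

/-- the possibilities at an element of order `p` -/
def qs (p : ℕ) (r : List ℕ) (Q : List Col) (a : Col) : List (ℕ × Option (List ℤ)) :=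
  bif single p r a.2 then (Q.filter fun b => okk r a b).map fun b => (b.1, some b.2)
  else ((cS p).filter fun C => weakOk p r a.2 C).map fun C => (C, none)

/-- a further list of characters: degree and multiplicity -/
abbrev Ext : Type := List (ℕ × ℕ)

/-- the values repeated by the multiplicities -/
def expand : Ext → List ℤ → List ℤ
  | (_, m) :: xs, z :: zs => List.replicate m z ++ expand xs zs
  | _, _ => []

/-- the degrees repeated by the multiplicities -/
def extDegs : Ext → List ℕ
  | (d, m) :: xs => List.replicate m d ++ extDegs xs
  | [] => []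

/-- compatibility of extended columns for the block -/
def pairOk (p : ℕ) (D : List ℕ) (A B : Col) : Bool :=
  decide (0 ≤ pl p D A.2 B.2) && (pl p D A.2 B.2 % (2 * ((A.1 : ℤ) * B.1)) == 0)

/-- a column is compatible with itself and with the columns chosen before -/
def joins (p : ℕ) (D : List ℕ) (acc : List Col) (A : Col) : Bool :=
  pairOk p D A A && acc.all fun B => pairOk p D B A && orthOk B.1 B.2 A.1 A.2

/-- a choice of compatible extensions exists -/
def choose' (p : ℕ) (D : List ℕ) : List (List Col) → List Col → Bool
  | o :: os, acc => o.any fun A => joins p D acc A && choose' p D os (acc ++ [A])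
  | [], _ => true

/-- the degrees and values of the further characters at the involution are distinct -/
def distinctAt (ex : Ext) (z : List ℤ) : Bool := decide ((ex.map Prod.fst).zip z).Nodup

/-- the further elements which can be used: those of orders five and seven need distinct values at the
involution, so that their values are rational -/
def restFor (ex : Ext) (z : List ℤ) (els : List (ℕ × List ℤ × ℕ)) : List (ℕ × List ℤ × ℕ) :=
  bif distinctAt ex z then els else els.filter fun el => el.2.2 != 5 && el.2.2 != 7

/-- the possible values on the further characters at an element of order `m` -/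
def extSols (p : ℕ) (D : List ℕ) (ex : Ext) (el : ℕ × List ℤ × ℕ) : List (List ℤ) :=
  sols (el.1 : ℤ) (ex.map fun x => (rngE el.2.2 x.1 el.1, (x.2 : ℤ) * cfp p x.1, (x.2 : ℤ)))
    (lin p D el.2.1) (dot el.2.1 el.2.1)

/-- the extended columns of one element of order `m` -/
def extOpts (p : ℕ) (D : List ℕ) (ex : Ext) (el : ℕ × List ℤ × ℕ) : List Col :=
  (extSols p D ex el).map fun z => (el.1, el.2.1 ++ expand ex z)

/-- the extension of the block of `p` exists; the first element is an involution -/
def extOk (p : ℕ) (r : List ℕ) (exts : List Ext) : List (ℕ × List ℤ × ℕ) → Bool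
  | [] => true
  | e0 :: rest => exts.any fun ex => (extSols p (fullD r) ex e0).any fun z =>
      joins p (fullD r ++ extDegs ex) [] (e0.1, e0.2.1 ++ expand ex z) &&
        (p != 7 || pl p (fullD r ++ extDegs ex) (e0.2.1 ++ expand ex z) (e0.2.1 ++ expand ex z) == 0) &&
          choose' p (fullD r ++ extDegs ex) ((restFor ex z rest).map fun el => extOpts p (fullD r) ex el)
            [(e0.1, e0.2.1 ++ expand ex z)]

/-- values at a product with an involution -/
def mixRng (p d C : ℕ) (vu vx : ℤ) : List ℤ :=
  bif d % p == 0 then [0] else
    ((List.range (2 * d + 1)).map fun j : ℕ => (j : ℤ) - (d : ℤ)).filter fun z =>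
      decide (z * z < (C : ℤ)) && ((z - vu) % (p : ℤ) == 0) && ((z - vx) % 2 == 0)

/-- the product with the involution can exist -/
def mixOk (p : ℕ) (r : List ℕ) (C : ℕ) (u x : List ℤ) : Bool :=
  match r, u, x with
  | [a, b, c, e, g], [ua, ub, uc, ue, ug], [xa, xb, xc, xe, xg] =>
    !(sols (C : ℤ) [(mixRng p a C ua xa, cfp 11 a, 1), (mixRng p b C ub xb, cfp 11 b, 1),
      (mixRng p c C uc xc, cfp 11 c, 1), (mixRng p g C ug xg, 2 * cfp 11 g, 2),
      (mixRng p e C ue xe, cfp 11 e, 1)] 2 1).isEmpty
  | _, _, _ => false

/-- an involution commuting with the element of order `p` can exist -/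
def invOk (p : ℕ) (r : List ℕ) (U : Option (List Col)) (a : Col) (X : ℕ × Option (List ℤ)) : Bool :=
  match U with
  | none => true
  | some U => bif X.1 % 2 == 1 then true else U.any fun u =>
      (((u.1 == a.1) && (u.2 == a.2)) || okz r a u) &&
        match X.2 with
        | some x => mixOk p r X.1 u.2 x
        | none => true

/-- multisets of size `n` from a list -/
def combos : ℕ → List ℕ → List (List ℕ)
  | 0, _ => [[]]
  | n + 1, L => L.tails.flatMap fun t =>
    match t with
    | [] => []
    | x :: _ => (combos n t).map (x :: ·)

/-- degrees of characters outside the eleven-block -/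
def dEleven : List ℕ :=
  ((List.range 61).map fun d => 11 * d).filter fun d => decide (0 < d) && (40320 % (d / 11) == 0)

/-- the degrees fit into the group and satisfy the relation of `p` -/
def fits (p : ℕ) (r : List ℕ) (ex : Ext) : Bool :=
  decide (((fullD r ++ extDegs ex).map fun d => d * d).sum ≤ 443520) &&
    (lin p (fullD r ++ extDegs ex) ((fullD r ++ extDegs ex).map fun d : ℕ => (d : ℤ)) == 0)

/-- the number of degrees congruent to plus or minus one -/
def nPm (p : ℕ) (D : List ℕ) : ℕ := (D.filter fun d => d % p == 1 || d % p + 1 == p).length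

/-- the extensions of the block of five -/
def extFiveC (r : List ℕ) : List Ext :=
  bif (fullD r).any (fun d => d % 5 == 2 || d % 5 == 3) || decide (5 < nPm 5 (fullD r)) then [] else
    ((combos (5 - nPm 5 (fullD r)) (dEleven.filter fun d => d % 5 == 1 || d % 5 == 4)).map
      fun l => l.map fun d => (d, 1)).filter (fits 5 r)

/-- the extensions of the block of seven -/
def extSevenC (r : List ℕ) : List Ext :=
  bif (fullD r).any (fun d => d % 7 == 2 || d % 7 == 5) || decide (3 < nPm 7 (fullD r)) then [] else
    let kx := (fullD r).filter fun d => d % 7 == 3 || d % 7 == 4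
    let base := (combos (3 - nPm 7 (fullD r)) (dEleven.filter fun d => d % 7 == 1 || d % 7 == 6)).map
      fun l => l.map fun d => (d, 1)
    match kx with
    | [] => (base.flatMap fun b => (dEleven.filter fun d => d % 7 == 3 || d % 7 == 4).map
        fun g => b ++ [(g, 2)]).filter (fits 7 r)
    | [x, y] => bif x == y then base.filter (fits 7 r) else []
    | _ => []

/-- the certified data of a row of degrees -/
structure RowData where
  /-- the degrees -/
  row : List ℕ
  /-- columns of central involutions -/
  acols : List Col
  /-- rational columns at elements of order five -/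
  qFive : List Col
  /-- rational columns at elements of order seven -/
  qSeven : List Col
  /-- extensions of the block of five -/
  extFive : List Ext
  /-- extensions of the block of seven -/
  extSeven : List Ext
  /-- involutions commuting with elements of order five -/
  uFive : Option (List Col)
  /-- involutions commuting with elements of order seven -/
  uSeven : Option (List Col)
  /-- columns of elements of order three -/
  bcols : Option (List Col)

/-- the column with its element order -/
def el (a : Col) (m : ℕ) : ℕ × List ℤ × ℕ := (a.1, fullV a.2, m)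

/-- an optional further element -/
def elOpt (X : ℕ × Option (List ℤ)) (m : ℕ) : List (ℕ × List ℤ × ℕ) :=
  match X.2 with
  | some x => [el (X.1, x) m]
  | none => []

/-- the extra test with an element of order three -/
def threeOk (R : RowData) (a : Col) (q y : ℕ × Option (List ℤ)) : Bool :=
  match R.bcols with
  | none => true
  | some B => bif q.1 == 5 then B.any fun b => okk R.row a b &&
      extOk 5 R.row R.extFive (el a 4 :: el b 3 :: elOpt y 7) else true

/-- all conditions on a central involution and elements of orders five and seven -/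
def combo (R : RowData) (a : Col) (q y : ℕ × Option (List ℤ)) : Bool :=
  ((q.1 % 7 == 0) == (y.1 % 5 == 0)) &&
    (bif q.1 == 5 then extOk 5 R.row R.extFive (el a 4 :: elOpt y 7) else true) &&
      (bif y.1 == 7 then extOk 7 R.row R.extSeven (el a 4 :: elOpt q 5) else true) &&
        invOk 7 R.row R.uSeven a y && invOk 5 R.row R.uFive a q && threeOk R a q y

/-- the surviving central involutions -/
def allowed (R : RowData) (a : Col) (q y : ℕ × Option (List ℤ)) : Bool :=
  q.1 == 5 && y.1 == 7 &&
    ((R.row == [21, 45, 45, 210, 280] && a.1 == 384 && a.2 == [5, -3, -3, 2, -8]) ||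
      (R.row == [21, 120, 210, 210, 280] && ((a.1 == 1152 && a.2 == [-3, 0, 6, 6, 16]) ||
        (a.1 == 2688 && (a.2 == [-7, 8, 14, -14, 0] || a.2 == [-7, 8, -14, 14, 0])))))

/-- nothing else survives -/
def rowOk (R : RowData) : Bool :=
  R.acols.all fun a => (qs 5 R.row R.qFive a).all fun q => (qs 7 R.row R.qSeven a).all fun y =>
    !combo R a q y || allowed R a q y

/-- the data contains all possibilities -/
def dataOk (R : RowData) : Bool :=
  (aColsC R.row).all (fun c => R.acols.contains c) && (R.acols.isEmpty ||
    ((qColsC 5 R.row).all (fun c => R.qFive.contains c) && (qColsC 7 R.row).all (fun c => R.qSeven.contains c) &&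
      (extFiveC R.row).all (fun c => R.extFive.contains c) &&
        (extSevenC R.row).all (fun c => R.extSeven.contains c) &&
      (match R.uFive with
        | some U => (uColsC (cDiv 10) 5 R.row).all fun c => U.contains c
        | none => true) &&
      (match R.uSeven with
        | some U => (uColsC (cDiv 14) 7 R.row).all fun c => U.contains c
        | none => true) &&
      (match R.bcols with
        | some B => (bColsC (cDiv 9) R.row).all fun c => B.contains c
        | none => true)))

/-- the certified data is complete and leaves only the allowed possibilities -/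
def certOk (R : RowData) : Bool := dataOk R && rowOk R

end Cfsg.Agent.MTwentyTwo.ByOrder
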