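import Cfsg.Agent.Lib.Spor.MTwentyTwoOrder.Five

/-!
The elementary subgroup of order sixteen whose normaliser has index seventy-seven.
-/

set_option autoImplicit false
set_option linter.unusedSectionVars false
set_option linter.style.haveILetI false

namespace Cfsg.Agent.MTwentyTwo.ByOrder

open Cfsg
open scoped Pointwise

universe u

variable {G : Type u} [Group G] [Fintype G] {H : Cls G}

include H in
theorem four_le_rad {y : G} (hy : orderOf y = 3) : four y ≤ rad y := by
  obtain ⟨S, -, -, hV⟩ := exists_sg (H := H) hy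
  refine fun x hx => Subgroup.subset_closure ⟨Subgroup.mem_centralizer_iff.2 fun b hb => ?_, by
    rw [show 64 = 2 * 32 from rfl, pow_mul, pow_two, hV.sq x hx, one_pow]⟩
  have h1 := hV.sq _ (mul_mem hx hb)
  calc b * x = (x * b * (x * b)) * b * x := by rw [h1, one_mul]
    _ = x * b * (x * (b * b) * x) := by group
    _ = x * b := by rw [hV.sq b hb, mul_one, hV.sq x hx, mul_one]

include H in
/-- The shape of the two-part. -/
theorem rad_form {t y : G} (h : Pair t y) :
    ∃ (S : Subgroup G) (z : G), Duo S y z ∧ four z ≤ rad y ∧ rad y = four y ⊔ four z := by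
  classical
  obtain ⟨Q, hQ⟩ := h.exists_core (H := H)
  obtain ⟨S, hS, hyS⟩ := H.exists_nine h.three
  obtain ⟨f, hf, -⟩ := exists_count (H := H) h hQ hS hyS
  obtain ⟨hduo, -, -, hnum⟩ := hf (card_rad (H := H) h)
  obtain ⟨i, hI⟩ := Finset.card_eq_one.1 hnum
  have hi : four (f i) ≤ rad y := by
    have : i ∈ ({i} : Finset (Fin 3)) := by simp
    rw [← hI] at this
    exact (Finset.mem_filter.1 this).2
  obtain ⟨hrad, -, -⟩ := hQ.rad_eq (H := H) h
  obtain ⟨hc, -, -⟩ := (hduo i).dbl (H := H) (hi.trans (hrad.le.trans inf_le_right))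
  exact ⟨S, f i, hduo i, hi, (Subgroup.eq_of_le_of_card_ge (sup_le (four_le_rad (H := H) h.three) hi)
    (by rw [hc, card_rad (H := H) h])).symm⟩

include H in
theorem rad_stable {t y : G} (h : Pair t y) {c : G} (hc : Commute c t) :
    c ∈ Subgroup.normalizer (rad y : Set G) := by
  obtain ⟨S, z, hd, hz, hrad⟩ := rad_form (H := H) h
  obtain ⟨Q, hQ⟩ := h.exists_core (H := H)
  refine hQ.gen _ (fun q hq => ?_) (rad_normal (H := H) h.three (Or.inl (by group)))
    (fun r _ hr => rad_normal (H := H) h.three (Or.inr hr)) c hc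
  rw [hrad]
  exact hQ.dbl_normal (H := H) h hd hz q hq

include H in
theorem rad_conj_eq {y : G} (hy : orderOf y = 3) (g : G) : rad (g * y * g⁻¹) = MulAut.conj g • rad y := by
  ext x
  rw [rad_conj (y := y) (g := g) (fun z => four_conj (H := H) hy g z),
    Subgroup.mem_pointwise_smul_iff_inv_smul_mem, MulAut.smul_def]
  simp

include H in
theorem rad_inv {y : G} (hy : orderOf y = 3) : rad y⁻¹ = rad y := by
  rw [rad, rad, four_inv (H := H) hy]

include H in
theorem rad_unique {t y y' : G} (h : Pair t y) (h' : Pair t y') : rad y' = rad y := by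
  obtain ⟨Q, hQ⟩ := h.exists_core (H := H)
  obtain ⟨c, hc, e⟩ := hQ.sylow y' h'.three h'.comm
  have hn := normal_iff_smul.1 (rad_stable (H := H) h hc)
  rcases e with e | e
  · rw [e, rad_conj_eq (H := H) h.three, hn]
  · rw [e, show c * y⁻¹ * c⁻¹ = (c * y * c⁻¹)⁻¹ by group, rad_inv (H := H) (three_conj_order h.three c),
      rad_conj_eq (H := H) h.three, hn]

include H in
/-- The orbit of the four-group leaves the two four-groups. -/
theorem exists_step {t y : G} (h : Pair t y) {S : Subgroup G} {z : G} (hd : Duo S y z) (hz : four z ≤ rad y)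
    (hrad : rad y = four y ⊔ four z) :
    ∃ v ∈ four y, v ≠ 1 ∧ ∃ n ∈ Subgroup.normalizer (rad y : Set G),
      n * v * n⁻¹ ∈ rad y ∧ n * v * n⁻¹ ∉ four y ∧ n * v * n⁻¹ ∉ four z := by
  obtain ⟨Q, hQ⟩ := h.exists_core (H := H)
  obtain ⟨hradQ, -, hnorm⟩ := hQ.rad_eq (H := H) h
  obtain ⟨q, hq, hqn⟩ := SetLike.exists_of_lt (lt_of_le_of_ne (hradQ.le.trans inf_le_left) fun e => by
    have := card_rad (H := H) h
    rw [e, hQ.card] at this
    omega)
  have hqN : q ∈ Subgroup.normalizer (rad y : Set G) := by rw [hrad]; exact hQ.dbl_normal (H := H) h hd hz q hq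
  obtain ⟨x, hx, hxn⟩ : ∃ x ∈ four y, q * x * q⁻¹ ∉ four y := by
    by_contra hc
    push Not at hc
    exact hqn (hnorm q hq (normal_of_conj hc))
  have hle := four_le_rad (H := H) h.three
  have ht := h.mem_four (H := H)
  have hmem : ∀ a ∈ four y, q * a * q⁻¹ ∈ rad y := fun a ha =>
    (Subgroup.mem_normalizer_iff.1 hqN a).1 (hle ha)
  by_cases hxz : q * x * q⁻¹ ∈ four z
  · have e : q * (t * x) * q⁻¹ = t * (q * x * q⁻¹) := by
      calc q * (t * x) * q⁻¹ = (q * t) * x * q⁻¹ := by group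
        _ = t * (q * x * q⁻¹) := by rw [(hQ.le q hq).eq]; group
    refine ⟨t * x, mul_mem ht hx, fun e1 => hxn ?_, q, hqN, hmem _ (mul_mem ht hx), ?_, ?_⟩
    · rw [show x = t⁻¹ by exact (inv_eq_of_mul_eq_one_right e1).symm]
      have : Commute q t⁻¹ := (hQ.le q hq).inv_right
      rw [mul_inv_eq_iff_eq_mul.2 this.eq]
      exact inv_mem ht
    · rw [e]
      exact fun hh => hxn (((four y).mul_mem_cancel_left ht).1 hh)
    · rw [e]
      exact fun hh => h.ne_one (hd.disjoint (H := H) ht (((four z).mul_mem_cancel_right hxz).1 hh))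
  · exact ⟨x, hx, fun e => hxn (by rw [e]; simp [one_mem]), q, hqN, hmem x hx, hxn, hxz⟩

include H in
theorem exists_block : ∃ E : Subgroup G, Nat.card E = 16 ∧ (∀ x ∈ E, x * x = 1) ∧
    Nat.card (Subgroup.normalizer (E : Set G)) = 5760 ∧
    (∀ t ∈ E, t ≠ 1 → ∀ c : G, Commute c t → c ∈ Subgroup.normalizer (E : Set G)) ∧
    (∀ g : G, g ∉ Subgroup.normalizer (E : Set G) → ∀ x ∈ E, g * x * g⁻¹ ∈ E → x = 1) ∧
    ∀ x ∈ E, x ≠ 1 → ∃ y', Pair x y' ∧ rad y' = E := by
  classical
  haveI : Fact (Nat.Prime 3) := ⟨Nat.prime_three⟩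
  obtain ⟨y, hy⟩ := exists_prime_orderOf_dvd_card' (G := G) 3 (by rw [H.card]; norm_num)
  obtain ⟨t, h⟩ := exists_pair_of_three (H := H) hy
  obtain ⟨S, z, hd, hz, hrad⟩ := rad_form (H := H) h
  obtain ⟨Q, hQ⟩ := h.exists_core (H := H)
  obtain ⟨hradQ, -, -⟩ := hQ.rad_eq (H := H) h
  obtain ⟨hEc, hEsq, -⟩ := hd.dbl (H := H) (hz.trans (hradQ.le.trans inf_le_right))
  rw [← hrad] at hEc hEsq
  set E := rad y with hE
  set N := Subgroup.normalizer (E : Set G) with hN
  have hzo := hd.three'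
  obtain ⟨t', h'⟩ := exists_pair_of_three (H := H) hzo
  have hradz : rad z = E := by
    refine (Subgroup.eq_of_le_of_card_ge ?_ (by rw [card_rad (H := H) h', hEc])).symm
    rw [hrad]
    refine sup_le (fun x hx => Subgroup.subset_closure ⟨Subgroup.mem_centralizer_iff.2 fun b hb =>
      (Subgroup.mem_centralizer_iff.1 ((hz.trans (hradQ.le.trans inf_le_right)) hb) x hx).symm, ?_⟩)
      (four_le_rad (H := H) hzo)
    rw [show 64 = 2 * 32 from rfl, pow_mul, pow_two, hEsq x (four_le_rad (H := H) hy hx), one_pow]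
  have hV := hd.nine.exists_four (H := H) hd.left fun e => hd.indep' (e ▸ one_mem _)
  have hW := hd.nine.exists_four (H := H) hd.right fun e => hd.indep (e ▸ one_mem _)
  have hSN : ∀ k ∈ S, k ∈ N := fun k hk =>
    rad_normal (H := H) hy (Or.inl (mul_inv_eq_iff_eq_mul.2 (hd.nine.comm k hk y hd.left).eq))
  -- the orbit
  let O : G → Prop := fun x => ∃ n ∈ N, n * t * n⁻¹ = x
  have hOt : O t := ⟨1, one_mem _, by group⟩
  have hOconj : ∀ n ∈ N, ∀ x, O x → O (n * x * n⁻¹) := by
    rintro n hn _ ⟨m, hm, rfl⟩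
    exact ⟨n * m, mul_mem hn hm, by group⟩
  have hOback : ∀ n ∈ N, ∀ x, O (n * x * n⁻¹) → O x := fun n hn x hx => by
    have := hOconj _ (inv_mem hn) _ hx
    rwa [show n⁻¹ * (n * x * n⁻¹) * n⁻¹⁻¹ = x by group] at this
  have hOV : ∀ x ∈ four y, x ≠ 1 → O x := fun x hx hx1 => by
    rcases hV.trans z hd.right hd.indep t (h.mem_four (H := H)) h.ne_one x hx hx1 with rfl | rfl | rfl
    · exact hOt
    · exact hOconj _ (hSN z hd.right) _ hOt
    · simpa using hOconj _ (inv_mem (hSN z hd.right)) _ hOt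
  -- the nine further elements
  set R := ((Finset.univ.filter fun x : G => x ∈ E) \ (Finset.univ.filter fun x : G => x ∈ four y)) \
    (Finset.univ.filter fun x : G => x ∈ four z) with hR
  have hRmem : ∀ x, x ∈ R ↔ x ∈ E ∧ x ∉ four y ∧ x ∉ four z := fun x => by simp [hR, and_assoc]
  have hR9 : R.card = 9 := by
    rw [hR, Finset.card_sdiff, Finset.card_sdiff_of_subset (fun x hx => by
      simp only [Finset.mem_filter, Finset.mem_univ, true_and] at hx ⊢
      exact four_le_rad (H := H) hy hx), card_filter, card_filter, hEc, hV.card]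
    rw [show (Finset.univ.filter fun x : G => x ∈ four z) ∩ ((Finset.univ.filter fun x : G => x ∈ E) \
      (Finset.univ.filter fun x : G => x ∈ four y)) = (Finset.univ.filter fun x : G => x ∈ four z).erase 1 from ?_,
      Finset.card_erase_of_mem (by simp [one_mem]), card_filter, hW.card]
    ext x
    simp only [Finset.mem_inter, Finset.mem_filter, Finset.mem_univ, true_and, Finset.mem_sdiff, Finset.mem_erase]
    exact ⟨fun ⟨h1, _, h3⟩ => ⟨fun e => h3 (e ▸ one_mem _), h1⟩,
      fun ⟨h1, h2⟩ => ⟨h2, hz h2, fun h3 => h1 (hd.disjoint (H := H) h3 h2)⟩⟩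
  have hSV : ∀ k ∈ S, k ∈ Subgroup.normalizer (four y : Set G) := fun k hk =>
    four_normal (H := H) hy (Or.inl (mul_inv_eq_iff_eq_mul.2 (hd.nine.comm k hk y hd.left).eq))
  have hSW : ∀ k ∈ S, k ∈ Subgroup.normalizer (four z : Set G) := fun k hk =>
    four_normal (H := H) hzo (Or.inl (mul_inv_eq_iff_eq_mul.2 (hd.nine.comm k hk z hd.right).eq))
  have hfree : ∀ k ∈ S, ∀ x ∈ R, k * x * k⁻¹ = x → k = 1 := by
    intro k hk x hx e
    obtain ⟨hxE, hxV, hxW⟩ := (hRmem x).1 hx
    by_contra hk1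
    have hkx : Commute k x := mul_inv_eq_iff_eq_mul.1 e
    have hx64 : x ^ 64 = 1 := by rw [show 64 = 2 * 32 from rfl, pow_mul, pow_two, hEsq x hxE, one_pow]
    by_cases hky : k ∈ Subgroup.zpowers y
    · exact hxV (pow_four (H := H) hy (of_zpowers hy hky hk1 hkx).symm hx64)
    by_cases hkz : k ∈ Subgroup.zpowers z
    · exact hxW (pow_four (H := H) hzo (of_zpowers hzo hkz hk1 hkx).symm hx64)
    have hdy := hd.nine.duo hd.left hk hy hky
    have hdz := hd.nine.duo hd.right hk hzo hkz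
    exact hxV (third_disjoint (H := H) hd hdy hdz (hz.trans (hradQ.le.trans inf_le_right)) (hrad ▸ hxE) hkx ▸ one_mem _)
  have hOR : ∀ u ∈ R, O u → ∀ x ∈ R, O x := by
    intro u hu hOu x hx
    have hsub : (Finset.univ.filter fun k : G => k ∈ S).image (fun k => k * u * k⁻¹) ⊆ R := by
      intro w hw
      obtain ⟨k, hk, rfl⟩ := Finset.mem_image.1 hw
      replace hk := (Finset.mem_filter.1 hk).2
      obtain ⟨h1, h2, h3⟩ := (hRmem u).1 hu
      exact (hRmem _).2 ⟨(Subgroup.mem_normalizer_iff.1 (hSN k hk) u).1 h1,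
        fun e => h2 ((Subgroup.mem_normalizer_iff.1 (hSV k hk) u).2 e),
        fun e => h3 ((Subgroup.mem_normalizer_iff.1 (hSW k hk) u).2 e)⟩
    have heq := Finset.eq_of_subset_of_card_le hsub (by
      rw [Finset.card_image_of_injOn, card_filter, hd.nine.card, hR9]
      intro a ha b hb e
      simp only [Finset.coe_filter, Finset.mem_univ, true_and] at ha hb
      refine inv_mul_eq_one.1 (hfree (a⁻¹ * b) (mul_mem (inv_mem ha) hb) u hu ?_)
      calc a⁻¹ * b * u * (a⁻¹ * b)⁻¹ = a⁻¹ * (b * u * b⁻¹) * a := by group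
        _ = a⁻¹ * (a * u * a⁻¹) * a := congrArg (fun w => a⁻¹ * w * a) e.symm
        _ = u := by group)
    rw [← heq] at hx
    obtain ⟨k, hk, rfl⟩ := Finset.mem_image.1 hx
    exact hOconj k (hSN k (Finset.mem_filter.1 hk).2) u hOu
  obtain ⟨v, hv, hv1, n, hn, hn1, hn2, hn3⟩ := exists_step (H := H) h hd hz hrad
  have hR' := hOR _ ((hRmem _).2 ⟨hn1, hn2, hn3⟩) (hOconj n hn v (hOV v hv hv1))
  obtain ⟨w, hw, hw1, m, hm, hm1, hm2, hm3⟩ := exists_step (H := H) h' hd.symm
    (show four y ≤ rad z by rw [hradz]; exact four_le_rad (H := H) hy) (by rw [hradz, hrad, sup_comm])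
  rw [hradz] at hm hm1
  have hOw : O w := hOback m hm w (hR' _ ((hRmem _).2 ⟨hm1, hm3, hm2⟩))
  have hall : ∀ x ∈ E, x ≠ 1 → O x := by
    intro x hx hx1
    by_cases hxV : x ∈ four y
    · exact hOV x hxV hx1
    by_cases hxW : x ∈ four z
    · rcases hW.trans y hd.left hd.indep' w hw hw1 x hxW hx1 with rfl | rfl | rfl
      · exact hOw
      · exact hOconj _ (hSN y hd.left) _ hOw
      · simpa using hOconj _ (inv_mem (hSN y hd.left)) _ hOw
    · exact hR' x ((hRmem x).2 ⟨hx, hxV, hxW⟩)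
  have hP : ∀ x ∈ E, x ≠ 1 → ∃ y', Pair x y' ∧ rad y' = E := by
    intro x hx hx1
    obtain ⟨n, hn, rfl⟩ := hall x hx hx1
    refine ⟨n * y * n⁻¹, ⟨?_, three_conj_order hy n, h.comm.map (MulAut.conj n)⟩, ?_⟩
    · rw [← MulAut.conj_apply, ← MulEquiv.coe_toMonoidHom, orderOf_injective _ (MulAut.conj n).injective, h.two]
    · rw [rad_conj_eq (H := H) hy, normal_iff_smul.1 hn]
  have hstab : ∀ x ∈ E, x ≠ 1 → ∀ c : G, Commute c x → c ∈ N := fun x hx hx1 c hc => by
    obtain ⟨y', hp, he⟩ := hP x hx hx1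
    rw [hN, ← he]
    exact rad_stable (H := H) hp hc
  refine ⟨E, hEc, hEsq, ?_, hstab, fun g hg x hx hgx => ?_, hP⟩
  · have hCN : Subgroup.centralizer ({t} : Set G) ≤ N := fun c hc => rad_stable (H := H) h (mem_cent.1 hc)
    rw [card_orbit N (Subgroup.centralizer ({t} : Set G)) hCN (fun n => n * t * n⁻¹) fun a _ b _ => ?_,
      show ((Finset.univ.filter fun x : G => x ∈ N).image fun n => n * t * n⁻¹) =
        (Finset.univ.filter fun x : G => x ∈ E).erase 1 from ?_,
      Finset.card_erase_of_mem (by simp [one_mem]), card_filter, hEc,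
      show Nat.card (Subgroup.centralizer ({t} : Set G)) = 384 from H.invol t h.two]
    · ext x
      simp only [Finset.mem_image, Finset.mem_filter, Finset.mem_univ, true_and, Finset.mem_erase]
      constructor
      · rintro ⟨n, hn, rfl⟩
        refine ⟨fun e => h.ne_one ?_, (Subgroup.mem_normalizer_iff.1 hn t).1
          (four_le_rad (H := H) hy (h.mem_four (H := H)))⟩
        calc t = n⁻¹ * (n * t * n⁻¹) * n := by group
          _ = 1 := by rw [e]; group
      · exact fun hx => hall x hx.2 hx.1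
    · rw [mem_cent]
      constructor
      · intro e
        refine mul_inv_eq_iff_eq_mul.1 ?_
        calc a⁻¹ * b * t * (a⁻¹ * b)⁻¹ = a⁻¹ * (b * t * b⁻¹) * a := by group
          _ = a⁻¹ * (a * t * a⁻¹) * a := congrArg (fun w => a⁻¹ * w * a) e.symm
          _ = t := by group
      · intro hc
        calc a * t * a⁻¹ = a * (a⁻¹ * b * t * (a⁻¹ * b)⁻¹) * a⁻¹ := by rw [mul_inv_eq_iff_eq_mul.2 hc.eq]
          _ = b * t * b⁻¹ := by group
  · by_contra hx1
    obtain ⟨y1, hp1, he1⟩ := hP x hx hx1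
    have hne : g * x * g⁻¹ ≠ 1 := fun e => hx1 (by
      calc x = g⁻¹ * (g * x * g⁻¹) * g := by group
        _ = 1 := by rw [e]; group)
    obtain ⟨y2, hp2, he2⟩ := hP _ hgx hne
    have hp3 : Pair (g * x * g⁻¹) (g * y1 * g⁻¹) := ⟨hp2.two, three_conj_order hp1.three g, hp1.comm.map (MulAut.conj g)⟩
    have := rad_unique (H := H) hp2 hp3
    rw [rad_conj_eq (H := H) hp1.three, he1, he2] at this
    exact hg (normal_iff_smul.2 this)

end Cfsg.Agent.MTwentyTwo.ByOrder
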