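import Cfsg.Agent.Lib.Spor.MTwentyTwoOrder.Data

/-!
A part of the certificate for the recognition of the Mathieu group of degree twenty-two by its order.
-/

set_option autoImplicit false
set_option maxRecDepth 20000

namespace Cfsg.Agent.MTwentyTwo.ByOrder

theorem certOk_row88 : certOk row88 = true := by decide +kernel

theorem certOk_row89 : certOk row89 = true := by decide +kernel

theorem certOk_row90 : certOk row90 = true := by decide +kernel

theorem certOk_row91 : certOk row91 = true := by decide +kernel

theorem certOk_row92 : certOk row92 = true := by decide +kernel

theorem dataOk_row93 : dataOk row93 = true := by decide +kernel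

theorem rowOk_row93 : rowOk row93 = true := by decide +kernel

theorem certOk_row93 : certOk row93 = true := by simp [certOk, dataOk_row93, rowOk_row93]

theorem certOk_row94 : certOk row94 = true := by decide +kernel

theorem certOk_row95 : certOk row95 = true := by decide +kernel

theorem dataOk_row96 : dataOk row96 = true := by decide +kernel

theorem rowOk_row96 : rowOk row96 = true := by decide +kernel

theorem certOk_row96 : certOk row96 = true := by simp [certOk, dataOk_row96, rowOk_row96]

theorem certOk_row97 : certOk row97 = true := by decide +kernel

/-- The rows of this part -/
def partEight : List RowData :=
  [row88, row89, row90, row91, row92, row93, row94, row95, row96, row97]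

theorem partEight_ok : partEight.all certOk = true := by
  simp only [partEight, List.all_cons, List.all_nil, Bool.and_true,
    certOk_row88, certOk_row89, certOk_row90, certOk_row91, certOk_row92, certOk_row93, certOk_row94,
    certOk_row95, certOk_row96, certOk_row97]

end Cfsg.Agent.MTwentyTwo.ByOrder
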