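import Cfsg.Agent.Lib.Spor.MTwentyTwoOrder.Data

/-!
A part of the certificate for the recognition of the Mathieu group of degree twenty-two by its order.
-/

set_option autoImplicit false
set_option maxRecDepth 20000

namespace Cfsg.Agent.MTwentyTwo.ByOrder

theorem certOk_row50 : certOk row50 = true := by decide +kernel

theorem certOk_row51 : certOk row51 = true := by decide +kernel

theorem certOk_row52 : certOk row52 = true := by decide +kernel

theorem certOk_row53 : certOk row53 = true := by decide +kernel

theorem certOk_row54 : certOk row54 = true := by decide +kernel

theorem certOk_row55 : certOk row55 = true := by decide +kernel

theorem certOk_row56 : certOk row56 = true := by decide +kernel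

theorem certOk_row57 : certOk row57 = true := by decide +kernel

theorem certOk_row58 : certOk row58 = true := by decide +kernel

theorem certOk_row59 : certOk row59 = true := by decide +kernel

theorem certOk_row60 : certOk row60 = true := by decide +kernel

theorem certOk_row61 : certOk row61 = true := by decide +kernel

theorem certOk_row62 : certOk row62 = true := by decide +kernel

theorem certOk_row63 : certOk row63 = true := by decide +kernel

theorem certOk_row64 : certOk row64 = true := by decide +kernel

theorem certOk_row65 : certOk row65 = true := by decide +kernel

theorem certOk_row66 : certOk row66 = true := by decide +kernel

theorem certOk_row67 : certOk row67 = true := by decide +kernel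

theorem certOk_row68 : certOk row68 = true := by decide +kernel

theorem certOk_row69 : certOk row69 = true := by decide +kernel

theorem certOk_row70 : certOk row70 = true := by decide +kernel

theorem certOk_row71 : certOk row71 = true := by decide +kernel

theorem certOk_row72 : certOk row72 = true := by decide +kernel

theorem certOk_row73 : certOk row73 = true := by decide +kernel

/-- The rows of this part -/
def partFive : List RowData :=
  [row50, row51, row52, row53, row54, row55, row56, row57, row58, row59, row60, row61, row62, row63, row64,
    row65, row66, row67, row68, row69, row70, row71, row72, row73]

theorem partFive_ok : partFive.all certOk = true := by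
  simp only [partFive, List.all_cons, List.all_nil, Bool.and_true,
    certOk_row50, certOk_row51, certOk_row52, certOk_row53, certOk_row54, certOk_row55, certOk_row56,
    certOk_row57, certOk_row58, certOk_row59, certOk_row60, certOk_row61, certOk_row62, certOk_row63,
    certOk_row64, certOk_row65, certOk_row66, certOk_row67, certOk_row68, certOk_row69, certOk_row70,
    certOk_row71, certOk_row72, certOk_row73]

end Cfsg.Agent.MTwentyTwo.ByOrder
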