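import Cfsg.Agent.Lib.Spor.MTwentyTwoOrder.Data

/-!
A part of the certificate for the recognition of the Mathieu group of degree twenty-two by its order.
-/

set_option autoImplicit false
set_option maxRecDepth 20000

namespace Cfsg.Agent.MTwentyTwo.ByOrder

theorem certOk_row39 : certOk row39 = true := by decide +kernel

theorem certOk_row40 : certOk row40 = true := by decide +kernel

theorem certOk_row41 : certOk row41 = true := by decide +kernel

theorem certOk_row42 : certOk row42 = true := by decide +kernel

theorem certOk_row43 : certOk row43 = true := by decide +kernel

theorem certOk_row44 : certOk row44 = true := by decide +kernel

theorem dataOk_row45 : dataOk row45 = true := by decide +kernel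

theorem rowOk_row45 : rowOk row45 = true := by decide +kernel

theorem certOk_row45 : certOk row45 = true := by simp [certOk, dataOk_row45, rowOk_row45]

theorem certOk_row46 : certOk row46 = true := by decide +kernel

theorem certOk_row47 : certOk row47 = true := by decide +kernel

theorem certOk_row48 : certOk row48 = true := by decide +kernel

theorem certOk_row49 : certOk row49 = true := by decide +kernel

/-- The rows of this part -/
def partFour : List RowData :=
  [row39, row40, row41, row42, row43, row44, row45, row46, row47, row48, row49]

theorem partFour_ok : partFour.all certOk = true := by
  simp only [partFour, List.all_cons, List.all_nil, Bool.and_true,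
    certOk_row39, certOk_row40, certOk_row41, certOk_row42, certOk_row43, certOk_row44, certOk_row45,
    certOk_row46, certOk_row47, certOk_row48, certOk_row49]

end Cfsg.Agent.MTwentyTwo.ByOrder
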