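import Cfsg.Agent.Lib.Spor.MTwentyTwoOrder.Data

/-!
A part of the certificate for the recognition of the Mathieu group of degree twenty-two by its order.
-/

set_option autoImplicit false
set_option maxRecDepth 20000

namespace Cfsg.Agent.MTwentyTwo.ByOrder

theorem certOk_row98 : certOk row98 = true := by decide +kernel

theorem certOk_row99 : certOk row99 = true := by decide +kernel

theorem certOk_row100 : certOk row100 = true := by decide +kernel

theorem certOk_row101 : certOk row101 = true := by decide +kernel

theorem dataOk_row102 : dataOk row102 = true := by decide +kernel

theorem rowOk_row102 : rowOk row102 = true := by decide +kernel

theorem certOk_row102 : certOk row102 = true := by simp [certOk, dataOk_row102, rowOk_row102]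

theorem certOk_row103 : certOk row103 = true := by decide +kernel

theorem certOk_row104 : certOk row104 = true := by decide +kernel

theorem certOk_row105 : certOk row105 = true := by decide +kernel

theorem certOk_row106 : certOk row106 = true := by decide +kernel

theorem certOk_row107 : certOk row107 = true := by decide +kernel

theorem certOk_row108 : certOk row108 = true := by decide +kernel

theorem certOk_row109 : certOk row109 = true := by decide +kernel

theorem certOk_row110 : certOk row110 = true := by decide +kernel

theorem certOk_row111 : certOk row111 = true := by decide +kernel

theorem certOk_row112 : certOk row112 = true := by decide +kernel

theorem certOk_row113 : certOk row113 = true := by decide +kernel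

theorem certOk_row114 : certOk row114 = true := by decide +kernel

/-- The rows of this part -/
def partNine : List RowData :=
  [row98, row99, row100, row101, row102, row103, row104, row105, row106, row107, row108, row109, row110,
    row111, row112, row113, row114]

theorem partNine_ok : partNine.all certOk = true := by
  simp only [partNine, List.all_cons, List.all_nil, Bool.and_true,
    certOk_row98, certOk_row99, certOk_row100, certOk_row101, certOk_row102, certOk_row103, certOk_row104,
    certOk_row105, certOk_row106, certOk_row107, certOk_row108, certOk_row109, certOk_row110, certOk_row111,
    certOk_row112, certOk_row113, certOk_row114]

end Cfsg.Agent.MTwentyTwo.ByOrder
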