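import Cfsg.Agent.Lib.Spor.MTwentyTwoOrder.Data

/-!
A part of the certificate for the recognition of the Mathieu group of degree twenty-two by its order.
-/

set_option autoImplicit false
set_option maxRecDepth 20000

namespace Cfsg.Agent.MTwentyTwo.ByOrder

theorem certOk_row78 : certOk row78 = true := by decide +kernel

theorem certOk_row79 : certOk row79 = true := by decide +kernel

theorem certOk_row80 : certOk row80 = true := by decide +kernel

theorem dataOk_row81 : dataOk row81 = true := by decide +kernel

theorem rowOk_row81 : rowOk row81 = true := by decide +kernel

theorem certOk_row81 : certOk row81 = true := by simp [certOk, dataOk_row81, rowOk_row81]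

theorem certOk_row82 : certOk row82 = true := by decide +kernel

theorem certOk_row83 : certOk row83 = true := by decide +kernel

theorem certOk_row84 : certOk row84 = true := by decide +kernel

theorem certOk_row85 : certOk row85 = true := by decide +kernel

theorem certOk_row86 : certOk row86 = true := by decide +kernel

theorem certOk_row87 : certOk row87 = true := by decide +kernel

/-- The rows of this part -/
def partSeven : List RowData :=
  [row78, row79, row80, row81, row82, row83, row84, row85, row86, row87]

theorem partSeven_ok : partSeven.all certOk = true := by
  simp only [partSeven, List.all_cons, List.all_nil, Bool.and_true,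
    certOk_row78, certOk_row79, certOk_row80, certOk_row81, certOk_row82, certOk_row83, certOk_row84,
    certOk_row85, certOk_row86, certOk_row87]

end Cfsg.Agent.MTwentyTwo.ByOrder
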