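import Cfsg.Agent.Lib.Spor.MTwentyTwoOrder.Data

/-!
A part of the certificate for the recognition of the Mathieu group of degree twenty-two by its order.
-/

set_option autoImplicit false
set_option maxRecDepth 20000

namespace Cfsg.Agent.MTwentyTwo.ByOrder

theorem certOk_row74 : certOk row74 = true := by decide +kernel

theorem certOk_row75 : certOk row75 = true := by decide +kernel

theorem certOk_row76 : certOk row76 = true := by decide +kernel

theorem dataOk_row77 : dataOk row77 = true := by decide +kernel

theorem rowOk_row77 : rowOk row77 = true := by decide +kernel

theorem certOk_row77 : certOk row77 = true := by simp [certOk, dataOk_row77, rowOk_row77]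

/-- The rows of this part -/
def partSix : List RowData :=
  [row74, row75, row76, row77]

theorem partSix_ok : partSix.all certOk = true := by
  simp only [partSix, List.all_cons, List.all_nil, Bool.and_true,
    certOk_row74, certOk_row75, certOk_row76, certOk_row77]

end Cfsg.Agent.MTwentyTwo.ByOrder
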