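import Cfsg.Agent.Lib.Spor.MTwentyTwoOrder.Data

/-!
A part of the certificate for the recognition of the Mathieu group of degree twenty-two by its order.
-/

set_option autoImplicit false
set_option maxRecDepth 20000

namespace Cfsg.Agent.MTwentyTwo.ByOrder

theorem certOk_row115 : certOk row115 = true := by decide +kernel

theorem certOk_row116 : certOk row116 = true := by decide +kernel

theorem certOk_row117 : certOk row117 = true := by decide +kernel

theorem certOk_row118 : certOk row118 = true := by decide +kernel

theorem certOk_row119 : certOk row119 = true := by decide +kernel

theorem certOk_row120 : certOk row120 = true := by decide +kernel

theorem certOk_row121 : certOk row121 = true := by decide +kernel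

theorem certOk_row122 : certOk row122 = true := by decide +kernel

theorem certOk_row123 : certOk row123 = true := by decide +kernel

theorem certOk_row124 : certOk row124 = true := by decide +kernel

theorem certOk_row125 : certOk row125 = true := by decide +kernel

theorem certOk_row126 : certOk row126 = true := by decide +kernel

theorem certOk_row127 : certOk row127 = true := by decide +kernel

theorem certOk_row128 : certOk row128 = true := by decide +kernel

theorem certOk_row129 : certOk row129 = true := by decide +kernel

theorem certOk_row130 : certOk row130 = true := by decide +kernel

theorem certOk_row131 : certOk row131 = true := by decide +kernel

theorem certOk_row132 : certOk row132 = true := by decide +kernel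

theorem certOk_row133 : certOk row133 = true := by decide +kernel

theorem certOk_row134 : certOk row134 = true := by decide +kernel

theorem certOk_row135 : certOk row135 = true := by decide +kernel

theorem certOk_row136 : certOk row136 = true := by decide +kernel

theorem certOk_row137 : certOk row137 = true := by decide +kernel

theorem certOk_row138 : certOk row138 = true := by decide +kernel

theorem certOk_row139 : certOk row139 = true := by decide +kernel

theorem certOk_row140 : certOk row140 = true := by decide +kernel

theorem certOk_row141 : certOk row141 = true := by decide +kernel

/-- The rows of this part -/
def partTen : List RowData :=
  [row115, row116, row117, row118, row119, row120, row121, row122, row123, row124, row125, row126, row127,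
    row128, row129, row130, row131, row132, row133, row134, row135, row136, row137, row138, row139, row140,
    row141]

theorem partTen_ok : partTen.all certOk = true := by
  simp only [partTen, List.all_cons, List.all_nil, Bool.and_true,
    certOk_row115, certOk_row116, certOk_row117, certOk_row118, certOk_row119, certOk_row120, certOk_row121,
    certOk_row122, certOk_row123, certOk_row124, certOk_row125, certOk_row126, certOk_row127, certOk_row128,
    certOk_row129, certOk_row130, certOk_row131, certOk_row132, certOk_row133, certOk_row134, certOk_row135,
    certOk_row136, certOk_row137, certOk_row138, certOk_row139, certOk_row140, certOk_row141]

end Cfsg.Agent.MTwentyTwo.ByOrder
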