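import Cfsg.Agent.Lib.Spor.MTwentyTwoOrder.Data

/-!
A part of the certificate for the recognition of the Mathieu group of degree twenty-two by its order.
-/

set_option autoImplicit false
set_option maxRecDepth 20000

namespace Cfsg.Agent.MTwentyTwo.ByOrder

theorem certOk_row27 : certOk row27 = true := by decide +kernel

theorem certOk_row28 : certOk row28 = true := by decide +kernel

theorem certOk_row29 : certOk row29 = true := by decide +kernel

theorem certOk_row30 : certOk row30 = true := by decide +kernel

theorem certOk_row31 : certOk row31 = true := by decide +kernel

theorem certOk_row32 : certOk row32 = true := by decide +kernel

theorem certOk_row33 : certOk row33 = true := by decide +kernel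

theorem certOk_row34 : certOk row34 = true := by decide +kernel

theorem certOk_row35 : certOk row35 = true := by decide +kernel

theorem certOk_row36 : certOk row36 = true := by decide +kernel

theorem certOk_row37 : certOk row37 = true := by decide +kernel

theorem dataOk_row38 : dataOk row38 = true := by decide +kernel

theorem rowOk_row38 : rowOk row38 = true := by decide +kernel

theorem certOk_row38 : certOk row38 = true := by simp [certOk, dataOk_row38, rowOk_row38]

/-- The rows of this part -/
def partThree : List RowData :=
  [row27, row28, row29, row30, row31, row32, row33, row34, row35, row36, row37, row38]

theorem partThree_ok : partThree.all certOk = true := by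
  simp only [partThree, List.all_cons, List.all_nil, Bool.and_true,
    certOk_row27, certOk_row28, certOk_row29, certOk_row30, certOk_row31, certOk_row32, certOk_row33,
    certOk_row34, certOk_row35, certOk_row36, certOk_row37, certOk_row38]

end Cfsg.Agent.MTwentyTwo.ByOrder
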