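import Cfsg.Agent.Lib.Spor.MTwentyTwoOrder.Data

/-!
A part of the certificate for the recognition of the Mathieu group of degree twenty-two by its order.
-/

set_option autoImplicit false
set_option maxRecDepth 20000

namespace Cfsg.Agent.MTwentyTwo.ByOrder

theorem certOk_row13 : certOk row13 = true := by decide +kernel

theorem certOk_row14 : certOk row14 = true := by decide +kernel

theorem certOk_row15 : certOk row15 = true := by decide +kernel

theorem certOk_row16 : certOk row16 = true := by decide +kernel

theorem certOk_row17 : certOk row17 = true := by decide +kernel

theorem certOk_row18 : certOk row18 = true := by decide +kernel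

theorem certOk_row19 : certOk row19 = true := by decide +kernel

theorem certOk_row20 : certOk row20 = true := by decide +kernel

theorem certOk_row21 : certOk row21 = true := by decide +kernel

theorem certOk_row22 : certOk row22 = true := by decide +kernel

theorem certOk_row23 : certOk row23 = true := by decide +kernel

theorem certOk_row24 : certOk row24 = true := by decide +kernel

theorem dataOk_row25 : dataOk row25 = true := by decide +kernel

theorem rowOk_row25 : rowOk row25 = true := by decide +kernel

theorem certOk_row25 : certOk row25 = true := by simp [certOk, dataOk_row25, rowOk_row25]

theorem dataOk_row26 : dataOk row26 = true := by decide +kernel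

theorem rowOk_row26 : rowOk row26 = true := by decide +kernel

theorem certOk_row26 : certOk row26 = true := by simp [certOk, dataOk_row26, rowOk_row26]

/-- The rows of this part -/
def partTwo : List RowData :=
  [row13, row14, row15, row16, row17, row18, row19, row20, row21, row22, row23, row24, row25, row26]

theorem partTwo_ok : partTwo.all certOk = true := by
  simp only [partTwo, List.all_cons, List.all_nil, Bool.and_true,
    certOk_row13, certOk_row14, certOk_row15, certOk_row16, certOk_row17, certOk_row18, certOk_row19,
    certOk_row20, certOk_row21, certOk_row22, certOk_row23, certOk_row24, certOk_row25, certOk_row26]

end Cfsg.Agent.MTwentyTwo.ByOrder
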