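import Cfsg.Agent.Lib.Spor.MTwentyTwoOrder.CheckOne
import Cfsg.Agent.Lib.Spor.MTwentyTwoOrder.CheckTwo
import Cfsg.Agent.Lib.Spor.MTwentyTwoOrder.CheckThree
import Cfsg.Agent.Lib.Spor.MTwentyTwoOrder.CheckFour
import Cfsg.Agent.Lib.Spor.MTwentyTwoOrder.CheckFive
import Cfsg.Agent.Lib.Spor.MTwentyTwoOrder.CheckSix
import Cfsg.Agent.Lib.Spor.MTwentyTwoOrder.CheckSeven
import Cfsg.Agent.Lib.Spor.MTwentyTwoOrder.CheckEight
import Cfsg.Agent.Lib.Spor.MTwentyTwoOrder.CheckNine
import Cfsg.Agent.Lib.Spor.MTwentyTwoOrder.CheckTen

/-!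
The complete certificate for the recognition of the Mathieu group of degree twenty-two by its order.
-/

set_option autoImplicit false
set_option maxRecDepth 20000

namespace Cfsg.Agent.MTwentyTwo.ByOrder

/-- All rows of degrees are in the certified list. -/
theorem rowsAll_certified : rowsAll.all (fun r => certRows.any fun R => R.row == r) = true := by decide +kernel

/-- All rows of the list are certified. -/
theorem certRows_ok : certRows.all certOk = true := by
  have hsplit : certRows = partOne ++ partTwo ++ partThree ++ partFour ++ partFive ++ partSix ++ partSeven ++ partEight ++ partNine ++ partTen := rfl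
  rw [hsplit]
  simp only [List.all_append, partOne_ok, partTwo_ok, partThree_ok, partFour_ok, partFive_ok, partSix_ok, partSeven_ok, partEight_ok, partNine_ok, partTen_ok, Bool.and_self]

/-- The certified data of a possible row. -/
theorem exists_rowData {r : List ℕ} (hr : r ∈ rowsAll) : ∃ R ∈ certRows, R.row = r ∧ certOk R = true := by
  obtain ⟨R, hR, hrow⟩ := List.any_eq_true.1 (List.all_eq_true.1 rowsAll_certified r hr)
  exact ⟨R, hR, by simpa using hrow, List.all_eq_true.1 certRows_ok R hR⟩

end Cfsg.Agent.MTwentyTwo.ByOrder
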