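import Cfsg.Agent.Lib.Spor.MTwentyTwoOrder.Primes

/-!
The extension of the eleven-block to the blocks of five and seven.
-/

set_option autoImplicit false
set_option linter.unusedSectionVars false
set_option linter.style.haveILetI false
set_option maxRecDepth 100000

namespace Cfsg.Agent.MTwentyTwo.ByOrder

open Cfsg Cfsg.Agent.Char Cfsg.Agent.Small.Order459648
open Cfsg.Agent.MTwelve.OrderFront (val_one int_value natAbs_lt)
open scoped ComplexConjugate

universe u

variable {G : Type u} [Group G] [Fintype G] [IsSimpleGroup G]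

theorem sq_sum_eq : ∀ D : List ℕ, dot (D.map fun d : ℕ => (d : ℤ)) (D.map fun d : ℕ => (d : ℤ)) =
    (((D.map fun d => d * d).sum : ℕ) : ℤ)
  | [] => by simp [dot]
  | d :: D => by
    simp only [List.map_cons, dot, List.sum_cons, sq_sum_eq D]
    push_cast
    ring

/-- a sorted list of a set of characters -/
theorem exists_sorted (s : Finset (IrrCharacter G)) :
    ∃ l : List (IrrCharacter G), l.Nodup ∧ (∀ χ, χ ∈ l ↔ χ ∈ s) ∧ l.length = s.card ∧
      (degs l).Pairwise (· ≤ ·) := by
  classical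
  let le : IrrCharacter G → IrrCharacter G → Bool :=
    fun a b => decide (charDegree (a : G → ℂ) ≤ charDegree (b : G → ℂ))
  have hp := List.mergeSort_perm s.toList le
  refine ⟨s.toList.mergeSort le, hp.nodup_iff.2 s.nodup_toList, fun χ => by rw [hp.mem_iff, Finset.mem_toList],
    by rw [hp.length_eq, Finset.length_toList], ?_⟩
  have h : (s.toList.mergeSort le).Pairwise (fun a b => le a b = true) :=
    List.pairwise_mergeSort (fun a b c h1 h2 => by simp [le] at h1 h2 ⊢; omega)
      (fun a b => by simp [le]; omega) _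
  rw [degs, List.pairwise_map]
  exact h.imp fun h => by simpa [le] using h

theorem eleven_table : ((List.range 667).all fun d => d == 0 || d % 11 != 0 || 443520 % d != 0 ||
    dEleven.contains d) = true := by
  decide +kernel

theorem eleven_sorted : dEleven.Pairwise (· < ·) := by decide +kernel

namespace Front

variable (F : Front G)

include F in
theorem mem_eleven {χ : IrrCharacter G} (h : 11 ∣ charDegree (χ : G → ℂ)) : charDegree (χ : G → ℂ) ∈ dEleven := by
  have hd : charDegree (χ : G → ℂ) ∣ 443520 := F.card ▸ deg_dvd_card χ.2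
  have hne : χ ≠ oneChar := fun e => by rw [e, deg_one] at h; norm_num at h
  have h1 := MTwelve.OrderFront.one_add_sq_le (g := (1 : G)) hne (val_one χ)
  have hC : Nat.card (Subgroup.centralizer ({1} : Set G)) ≤ 443520 := F.card ▸ Subgroup.card_le_card_group _
  have hlt : charDegree (χ : G → ℂ) < 667 := by
    by_contra hb
    have : (667 : ℤ) * 667 ≤ (charDegree (χ : G → ℂ) : ℤ) * (charDegree (χ : G → ℂ) : ℤ) :=
      mul_le_mul (by omega) (by omega) (by norm_num) (by omega)
    omega
  have ht := List.all_eq_true.1 eleven_table _ (List.mem_range.2 hlt)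
  have h0 : charDegree (χ : G → ℂ) ≠ 0 := (deg_pos χ.2).ne'
  simpa [h0, Nat.mod_eq_zero_of_dvd h, Nat.mod_eq_zero_of_dvd hd] using ht

theorem eleven_of_notMem {χ : IrrCharacter G} (h : χ ∉ F.L) : 11 ∣ charDegree (χ : G → ℂ) :=
  not_not.1 fun h11 => h (F.L_cover χ (F.B.mem_iff.2 h11))

/-- the number of characters of the list with a property -/
theorem filter_count (T : Finset (IrrCharacter G)) (q : ℕ → Bool)
    (hq : ∀ χ ∈ F.L, q (charDegree (χ : G → ℂ)) = true ↔ χ ∈ T) :
    open scoped Classical in ((fullD F.row).filter q).length = (T ∩ F.L.toFinset).card := by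
  classical
  rw [← F.degs_L, degs, List.filter_map, List.length_map,
    ← List.toFinset_card_of_nodup (F.L_nodup.filter _)]
  refine congrArg Finset.card (Finset.ext fun χ => ?_)
  simp only [List.mem_toFinset, List.mem_filter, Function.comp_apply, Finset.mem_inter]
  exact ⟨fun ⟨h1, h2⟩ => ⟨(hq χ h1).1 h2, h1⟩, fun ⟨h1, h2⟩ => ⟨h2, (hq χ h2).2 h1⟩⟩

end Front

/-- The characters of the block of `p` outside the eleven-block. -/
structure Rep {p : ℕ} [Fact p.Prime] (F : Front G) (B : PBlk p G) (ex : Ext) : Type u where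
  /-- the groups of characters with the same values -/
  Ls : List (List (IrrCharacter G))
  rep : List.Forall₂ (fun (x : ℕ × ℕ) (l : List (IrrCharacter G)) =>
    l.length = x.2 ∧ 0 < x.2 ∧ ∀ χ ∈ l, charDegree (χ : G → ℂ) = x.1) ex Ls
  nodup : (F.L ++ Ls.flatten).Nodup
  cover : ∀ χ ∈ B.S, χ ∈ F.L ++ Ls.flatten
  const : ∀ l ∈ Ls, ∀ χ ∈ l, ∀ χ' ∈ l, ∀ g : G, ¬ p ∣ orderOf g → (χ : G → ℂ) g = (χ' : G → ℂ) g
  mem : ∀ l ∈ Ls, ∀ χ ∈ l, χ ∈ B.S ∧ 11 ∣ charDegree (χ : G → ℂ)

theorem flatten_singles : ∀ l : List (IrrCharacter G), (l.map fun χ => [χ]).flatten = l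
  | [] => rfl
  | χ :: l => by simp [flatten_singles l]

theorem degs_flatten : ∀ {ex : Ext} {Ls : List (List (IrrCharacter G))},
    List.Forall₂ (fun (x : ℕ × ℕ) (l : List (IrrCharacter G)) =>
      l.length = x.2 ∧ 0 < x.2 ∧ ∀ χ ∈ l, charDegree (χ : G → ℂ) = x.1) ex Ls →
      degs Ls.flatten = extDegs ex := by
  intro ex Ls h
  induction h with
  | nil => rfl
  | @cons x l ex' Ls' hx _ ih =>
    obtain ⟨hlen, -, hd⟩ := hx
    obtain ⟨d, m⟩ := x
    simp only [degs, List.flatten_cons, List.map_append, extDegs] at ih ⊢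
    rw [ih]
    congr 1
    exact List.eq_replicate_iff.2 ⟨by rw [List.length_map]; exact hlen, fun b hb => by
      obtain ⟨χ, hχ, rfl⟩ := List.mem_map.1 hb
      exact hd χ hχ⟩

theorem vals_flatten : ∀ {ex : Ext} {Ls : List (List (IrrCharacter G))} {zs : List ℤ} {g : G},
    List.Forall₂ (fun (x : ℕ × ℕ) (l : List (IrrCharacter G)) =>
      l.length = x.2 ∧ 0 < x.2 ∧ ∀ χ ∈ l, charDegree (χ : G → ℂ) = x.1) ex Ls →
    List.Forall₂ (fun (l : List (IrrCharacter G)) (z : ℤ) => ∀ χ ∈ l, (χ : G → ℂ) g = (z : ℂ)) Ls zs →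
      Vals Ls.flatten g (expand ex zs) := by
  intro ex Ls zs g h
  induction h generalizing zs with
  | nil => intro hz; cases hz; exact .nil
  | @cons x l ex' Ls' hx _ ih =>
    intro hz
    cases hz with
    | @cons _ z _ zs' hl hr =>
      obtain ⟨hlen, -, -⟩ := hx
      obtain ⟨d, m⟩ := x
      simp only [List.flatten_cons, expand]
      refine vals_append ?_ (ih hr)
      refine List.forall₂_iff_get.2 ?_
      refine ⟨by simpa using hlen, fun i h1 h2 => ?_⟩
      simp only [List.get_eq_getElem, List.getElem_replicate]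
      exact hl _ (List.getElem_mem h1)

namespace Front

variable (F : Front G)

theorem fits_of_rep {p : ℕ} [Fact p.Prime] {B : PBlk p G} {ex : Ext} (E : Rep F B ex) :
    fits p F.row ex = true := by
  have hD : degs (F.L ++ E.Ls.flatten) = fullD F.row ++ extDegs ex := by
    rw [← degs_flatten E.rep, ← F.degs_L]
    exact List.map_append
  have h1 := vals_one (F.L ++ E.Ls.flatten)
  have hlin := B.lin_zero E.nodup E.cover (g := 1) (by simp [(Fact.out : p.Prime).ne_one]) h1
  have hn := dot_le E.nodup h1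
  rw [hD] at hlin hn
  rw [sq_sum_eq] at hn
  have hC : cc (1 : G) ≤ 443520 := F.card ▸ Subgroup.card_le_card_group _
  have hn' : ((fullD F.row ++ extDegs ex).map fun d => d * d).sum ≤ 443520 :=
    le_trans (by exact_mod_cast hn) hC
  simp only [fits, decide_eq_true hn', Bool.true_and, beq_iff_eq]
  exact hlin

theorem exists_rep_five [Fact (Nat.Prime 5)] (B : PBlk 5 G) : ∃ ex ∈ extFiveC F.row, Nonempty (Rep F B ex) := by
  classical
  have hpar : B.e = 4 ∧ B.t = 1 := by
    rcases B.par with ⟨h, -⟩ | ⟨h, -⟩ | ⟨-, h⟩ <;> first | exact h | norm_num at h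
  have hmod : ∀ χ ∈ B.S, charDegree (χ : G → ℂ) % 5 = 1 ∨ charDegree (χ : G → ℂ) % 5 = 4 := fun χ hχ => by
    rcases B.mem_S.1 hχ with h | h
    · have := (B.cfp_X h).1; omega
    · have := (B.cfp_Y h).1; rw [hpar.1] at this; omega
  have hq : ∀ χ ∈ F.L, (charDegree (χ : G → ℂ) % 5 == 1 || charDegree (χ : G → ℂ) % 5 + 1 == 5) = true ↔
      χ ∈ B.S := fun χ _ => by
    constructor
    · intro h
      refine B.mem_iff.2 fun h5 => ?_
      simp [Nat.mod_eq_zero_of_dvd h5] at h
    · intro h
      rcases hmod χ h with e | e <;> simp [e]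
  have hn : nPm 5 (fullD F.row) = (B.S ∩ F.L.toFinset).card := F.filter_count B.S _ hq
  have hcard : B.S.card = 5 := by
    show (B.X ∪ B.Y).card = 5
    rw [Finset.card_union_of_disjoint B.pp.disj, B.pp.cardX, B.cardY, hpar.1, hpar.2]
  obtain ⟨l, hnd, hmem, hlen, hsort⟩ := exists_sorted (B.S \ F.L.toFinset)
  have hl : ∀ χ ∈ l, χ ∈ B.S ∧ χ ∉ F.L := fun χ hχ => by simpa using (hmem χ).1 hχ
  have hsum : l.length + nPm 5 (fullD F.row) = 5 := by
    rw [hlen, hn, Finset.card_sdiff_add_card_inter, hcard]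
  have hbad : ((fullD F.row).any fun d => d % 5 == 2 || d % 5 == 3) = false := by
    rw [← F.degs_L]
    refine List.any_eq_false.2 fun d hd => ?_
    obtain ⟨χ, -, rfl⟩ := List.mem_map.1 hd
    by_cases hS : χ ∈ B.S
    · rcases hmod χ hS with e | e <;> simp [e]
    · simp [Nat.mod_eq_zero_of_dvd (not_not.1 fun h => hS (B.mem_iff.2 h))]
  let E : Rep F B ((degs l).map fun d => (d, 1)) :=
    { Ls := l.map fun χ => [χ]
      rep := by
        clear hnd hmem hlen hsort hl hsum
        induction l with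
        | nil => exact .nil
        | cons χ l ih => exact .cons ⟨rfl, Nat.one_pos, fun ψ hψ => by rw [List.mem_singleton.1 hψ]⟩ ih
      nodup := by
        rw [flatten_singles, List.nodup_append]
        exact ⟨F.L_nodup, hnd, fun a ha b hb e => (hl b hb).2 (e ▸ ha)⟩
      cover := fun χ hχ => by
        rw [flatten_singles, List.mem_append]
        by_cases h : χ ∈ F.L
        · exact Or.inl h
        · exact Or.inr ((hmem χ).2 (by simp [hχ, h]))
      const := fun m hm χ hχ χ' hχ' g _ => by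
        obtain ⟨ψ, -, rfl⟩ := List.mem_map.1 hm
        rw [List.mem_singleton.1 hχ, List.mem_singleton.1 hχ']
      mem := fun m hm χ hχ => by
        obtain ⟨ψ, hψ, rfl⟩ := List.mem_map.1 hm
        rw [List.mem_singleton.1 hχ]
        exact ⟨(hl ψ hψ).1, F.eleven_of_notMem (hl ψ hψ).2⟩ }
  refine ⟨_, ?_, ⟨E⟩⟩
  simp only [extFiveC, hbad, Bool.false_or, show decide (5 < nPm 5 (fullD F.row)) = false from
    decide_eq_false (by omega), cond_false]
  refine List.mem_filter.2 ⟨List.mem_map.2 ⟨degs l, mem_combos hsort (eleven_sorted.filter _) (fun d hd => ?_) ?_,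
    rfl⟩, F.fits_of_rep E⟩
  · obtain ⟨χ, hχ, rfl⟩ := List.mem_map.1 hd
    refine List.mem_filter.2 ⟨F.mem_eleven (F.eleven_of_notMem (hl χ hχ).2), ?_⟩
    rcases hmod χ (hl χ hχ).1 with e | e <;> simp [e]
  · rw [degs, List.length_map]; omega

theorem exists_rep_seven [Fact (Nat.Prime 7)] (B : PBlk 7 G) : ∃ ex ∈ extSevenC F.row, Nonempty (Rep F B ex) := by
  classical
  have hpar : B.e = 3 ∧ B.t = 2 := by
    rcases B.par with ⟨h, -⟩ | ⟨-, h⟩ | ⟨h, -⟩ <;> first | exact h | norm_num at h
  have hX : ∀ χ ∈ B.X, charDegree (χ : G → ℂ) % 7 = 1 ∨ charDegree (χ : G → ℂ) % 7 = 6 := fun χ hχ => by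
    have := (B.cfp_X hχ).1; omega
  have hY : ∀ χ ∈ B.Y, charDegree (χ : G → ℂ) % 7 = 3 ∨ charDegree (χ : G → ℂ) % 7 = 4 := fun χ hχ => by
    have := (B.cfp_Y hχ).1; rw [hpar.1] at this; omega
  have hS0 : ∀ χ : IrrCharacter G, χ ∉ B.S → charDegree (χ : G → ℂ) % 7 = 0 := fun χ h =>
    Nat.mod_eq_zero_of_dvd (not_not.1 fun h' => h (B.mem_iff.2 h'))
  have hqX : ∀ χ ∈ F.L, (charDegree (χ : G → ℂ) % 7 == 1 || charDegree (χ : G → ℂ) % 7 + 1 == 7) = true ↔
      χ ∈ B.X := fun χ _ => by
    simp only [Bool.or_eq_true, beq_iff_eq]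
    constructor
    · intro h
      by_contra hn
      by_cases hy : χ ∈ B.Y
      · have := hY χ hy; omega
      · have := hS0 χ (fun hs => (B.mem_S.1 hs).elim hn hy); omega
    · intro h; have := hX χ h; omega
  have hqY : ∀ χ ∈ F.L, (charDegree (χ : G → ℂ) % 7 == 3 || charDegree (χ : G → ℂ) % 7 == 4) = true ↔
      χ ∈ B.Y := fun χ _ => by
    simp only [Bool.or_eq_true, beq_iff_eq]
    constructor
    · intro h
      by_contra hn
      by_cases hx : χ ∈ B.X
      · have := hX χ hx; omega
      · have := hS0 χ (fun hs => (B.mem_S.1 hs).elim hx hn); omega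
    · exact hY χ
  have hn : nPm 7 (fullD F.row) = (B.X ∩ F.L.toFinset).card := F.filter_count B.X _ hqX
  have hk : ((fullD F.row).filter fun d => d % 7 == 3 || d % 7 == 4).length = (B.Y ∩ F.L.toFinset).card :=
    F.filter_count B.Y _ hqY
  obtain ⟨l, hnd, hmem, hlen, hsort⟩ := exists_sorted (B.X \ F.L.toFinset)
  have hl : ∀ χ ∈ l, χ ∈ B.X ∧ χ ∉ F.L := fun χ hχ => by simpa using (hmem χ).1 hχ
  have hsum : l.length + nPm 7 (fullD F.row) = 3 := by
    rw [hlen, hn, Finset.card_sdiff_add_card_inter, B.pp.cardX, hpar.1]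
  have hbad : ((fullD F.row).any fun d => d % 7 == 2 || d % 7 == 5) = false := by
    rw [← F.degs_L]
    refine List.any_eq_false.2 fun d hd => ?_
    obtain ⟨χ, -, rfl⟩ := List.mem_map.1 hd
    by_cases hS : χ ∈ B.S
    · rcases B.mem_S.1 hS with h | h
      · rcases hX χ h with e | e <;> simp [e]
      · rcases hY χ h with e | e <;> simp [e]
    · simp [hS0 χ hS]
  have hbase : (degs l).map (fun d => (d, 1)) ∈ (combos (3 - nPm 7 (fullD F.row))
      (dEleven.filter fun d => d % 7 == 1 || d % 7 == 6)).map (fun m => m.map fun d => (d, 1)) := by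
    refine List.mem_map.2 ⟨degs l, mem_combos hsort (eleven_sorted.filter _) (fun d hd => ?_) ?_, rfl⟩
    · obtain ⟨χ, hχ, rfl⟩ := List.mem_map.1 hd
      refine List.mem_filter.2 ⟨F.mem_eleven (F.eleven_of_notMem (hl χ hχ).2), ?_⟩
      rcases hX χ (hl χ hχ).1 with e | e <;> simp [e]
    · rw [degs, List.length_map]; omega
  have hrep1 : List.Forall₂ (fun (x : ℕ × ℕ) (m : List (IrrCharacter G)) =>
      m.length = x.2 ∧ 0 < x.2 ∧ ∀ χ ∈ m, charDegree (χ : G → ℂ) = x.1) ((degs l).map fun d => (d, 1))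
        (l.map fun χ => [χ]) := by
    clear hnd hmem hlen hsort hl hsum hbase
    induction l with
    | nil => exact .nil
    | cons χ l ih => exact .cons ⟨rfl, Nat.one_pos, fun ψ hψ => by rw [List.mem_singleton.1 hψ]⟩ ih
  have hflat : (l.map fun χ => [χ]).flatten = l := flatten_singles l
  obtain ⟨η, η', hne, hYe⟩ := Finset.card_eq_two.1 (B.cardY.trans hpar.2)
  have hηdeg : charDegree (η' : G → ℂ) = charDegree (η : G → ℂ) := by
    have h := B.pp.regY η' (by simp [hYe]) η (by simp [hYe]) 1 (by simp)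
    rw [val_one, val_one] at h
    exact_mod_cast h
  have hdec : decide (3 < nPm 7 (fullD F.row)) = false := decide_eq_false (by omega)
  by_cases hin : η ∈ F.L
  · have h11 : η' ∈ F.L := by
      refine F.L_cover _ (F.B.mem_iff.2 ?_)
      rw [hηdeg]
      exact F.B.not_dvd (F.L_mem hin)
    let E : Rep F B ((degs l).map fun d => (d, 1)) :=
      { Ls := l.map fun χ => [χ]
        rep := hrep1
        nodup := by
          rw [hflat, List.nodup_append]
          exact ⟨F.L_nodup, hnd, fun a ha b hb e => (hl b hb).2 (e ▸ ha)⟩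
        cover := fun χ hχ => by
          rw [hflat, List.mem_append]
          by_cases h : χ ∈ F.L
          · exact Or.inl h
          · refine Or.inr ((hmem χ).2 ?_)
            rcases B.mem_S.1 hχ with hx | hy
            · simp [hx, h]
            · rw [hYe] at hy
              rcases Finset.mem_insert.1 hy with rfl | hy
              · exact absurd hin h
              · exact absurd (Finset.mem_singleton.1 hy ▸ h11) h
        const := fun m hm χ hχ χ' hχ' g _ => by
          obtain ⟨ψ, -, rfl⟩ := List.mem_map.1 hm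
          rw [List.mem_singleton.1 hχ, List.mem_singleton.1 hχ']
        mem := fun m hm χ hχ => by
          obtain ⟨ψ, hψ, rfl⟩ := List.mem_map.1 hm
          rw [List.mem_singleton.1 hχ]
          exact ⟨B.mem_S.2 (Or.inl (hl ψ hψ).1), F.eleven_of_notMem (hl ψ hψ).2⟩ }
    refine ⟨_, ?_, ⟨E⟩⟩
    have hkx : (fullD F.row).filter (fun d => d % 7 == 3 || d % 7 == 4) =
        List.replicate 2 (charDegree (η : G → ℂ)) := by
      refine List.eq_replicate_iff.2 ⟨?_, fun d hd => ?_⟩
      · rw [hk, Finset.inter_eq_left.2 (fun χ hχ => by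
          rw [hYe] at hχ
          rcases Finset.mem_insert.1 hχ with rfl | hχ
          · exact List.mem_toFinset.2 hin
          · exact List.mem_toFinset.2 (Finset.mem_singleton.1 hχ ▸ h11)), B.cardY, hpar.2]
      · obtain ⟨hd1, hd2⟩ := List.mem_filter.1 hd
        rw [← F.degs_L] at hd1
        obtain ⟨χ, hχ, rfl⟩ := List.mem_map.1 hd1
        have := (hqY χ hχ).1 hd2
        rw [hYe] at this
        rcases Finset.mem_insert.1 this with rfl | h
        · rfl
        · rw [Finset.mem_singleton.1 h, hηdeg]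
    simp only [extSevenC, hbad, Bool.false_or, hdec, cond_false, hkx, List.replicate_succ, List.replicate_zero,
      beq_self_eq_true, cond_true]
    exact List.mem_filter.2 ⟨hbase, F.fits_of_rep E⟩
  · have hin' : η' ∉ F.L := fun h => hin (F.L_cover _ (F.B.mem_iff.2 (by rw [← hηdeg]; exact F.B.not_dvd (F.L_mem h))))
    have hηX : η ∉ B.X ∧ η' ∉ B.X :=
      ⟨fun h => Finset.disjoint_left.1 B.pp.disj h (by simp [hYe]),
        fun h => Finset.disjoint_left.1 B.pp.disj h (by simp [hYe])⟩
    let E : Rep F B (((degs l).map fun d => (d, 1)) ++ [(charDegree (η : G → ℂ), 2)]) :=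
      { Ls := (l.map fun χ => [χ]) ++ [[η, η']]
        rep := List.rel_append hrep1 (.cons ⟨rfl, by norm_num, fun χ hχ => by
          rcases List.mem_cons.1 hχ with rfl | hχ
          · rfl
          · rw [List.mem_singleton.1 hχ]; exact hηdeg⟩ .nil)
        nodup := by
          rw [List.flatten_append, hflat, List.nodup_append, List.nodup_append]
          simp only [List.flatten_cons, List.flatten_nil, List.append_nil]
          refine ⟨F.L_nodup, ⟨hnd, by simp [hne], fun a ha b hb e => ?_⟩, fun a ha b hb e => ?_⟩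
          · have hb' : b ∉ B.X := by
              rcases List.mem_cons.1 hb with rfl | hb
              · exact hηX.1
              · rw [List.mem_singleton.1 hb]; exact hηX.2
            exact hb' (e ▸ (hl a ha).1)
          · rcases List.mem_append.1 hb with hb | hb
            · exact (hl b hb).2 (e ▸ ha)
            · rcases List.mem_cons.1 hb with rfl | hb
              · exact hin (e ▸ ha)
              · rw [List.mem_singleton.1 hb] at e; exact hin' (e ▸ ha)
        cover := fun χ hχ => by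
          rw [List.flatten_append, hflat]
          simp only [List.flatten_cons, List.flatten_nil, List.append_nil, List.mem_append]
          by_cases h : χ ∈ F.L
          · exact Or.inl h
          · refine Or.inr ?_
            rcases B.mem_S.1 hχ with hx | hy
            · exact Or.inl ((hmem χ).2 (by simp [hx, h]))
            · rw [hYe] at hy
              exact Or.inr (by simpa using hy)
        const := fun m hm χ hχ χ' hχ' g hg => by
          rcases List.mem_append.1 hm with hm | hm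
          · obtain ⟨ψ, -, rfl⟩ := List.mem_map.1 hm
            rw [List.mem_singleton.1 hχ, List.mem_singleton.1 hχ']
          · rw [List.mem_singleton.1 hm] at hχ hχ'
            exact B.pp.regY χ (by simpa [hYe] using hχ) χ' (by simpa [hYe] using hχ') g hg
        mem := fun m hm χ hχ => by
          rcases List.mem_append.1 hm with hm | hm
          · obtain ⟨ψ, hψ, rfl⟩ := List.mem_map.1 hm
            rw [List.mem_singleton.1 hχ]
            exact ⟨B.mem_S.2 (Or.inl (hl ψ hψ).1), F.eleven_of_notMem (hl ψ hψ).2⟩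
          · rw [List.mem_singleton.1 hm] at hχ
            refine ⟨B.mem_S.2 (Or.inr (by simpa [hYe] using hχ)), F.eleven_of_notMem ?_⟩
            rcases List.mem_cons.1 hχ with rfl | hχ
            · exact hin
            · rw [List.mem_singleton.1 hχ]; exact hin' }
    refine ⟨_, ?_, ⟨E⟩⟩
    have hkx : (fullD F.row).filter (fun d => d % 7 == 3 || d % 7 == 4) = [] := by
      refine List.length_eq_zero_iff.1 ?_
      rw [hk, Finset.card_eq_zero, Finset.eq_empty_iff_forall_notMem]
      intro χ hχ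
      rw [Finset.mem_inter, hYe, List.mem_toFinset] at hχ
      rcases Finset.mem_insert.1 hχ.1 with rfl | h
      · exact hin hχ.2
      · exact hin' (Finset.mem_singleton.1 h ▸ hχ.2)
    simp only [extSevenC, hbad, Bool.false_or, hdec, cond_false, hkx]
    refine List.mem_filter.2 ⟨List.mem_flatMap.2 ⟨_, hbase, List.mem_map.2 ⟨_, List.mem_filter.2
      ⟨F.mem_eleven (F.eleven_of_notMem hin), ?_⟩, rfl⟩⟩, F.fits_of_rep E⟩
    rcases hY η (by simp [hYe]) with e | e <;> simp [e]

end Front

namespace Rep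

variable {F : Front G} {p : ℕ} [Fact p.Prime] {B : PBlk p G} {ex : Ext} (E : Rep F B ex)

/-- the code of the order in the searches -/
noncomputable def code (g : G) : ℕ := if orderOf g = 2 then 4 else orderOf g

theorem unique_group {a : G} : ∀ {ex : Ext} {Ls : List (List (IrrCharacter G))} {za : List ℤ},
    List.Forall₂ (fun (x : ℕ × ℕ) (l : List (IrrCharacter G)) =>
      l.length = x.2 ∧ 0 < x.2 ∧ ∀ χ ∈ l, charDegree (χ : G → ℂ) = x.1) ex Ls →
    List.Forall₂ (fun (l : List (IrrCharacter G)) (z : ℤ) => ∀ χ ∈ l, (χ : G → ℂ) a = (z : ℂ)) Ls za →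
    ((ex.map Prod.fst).zip za).Nodup →
    (∀ l ∈ Ls, ∀ χ ∈ l, ∃ z : ℤ, (χ : G → ℂ) a = z ∧ (charDegree (χ : G → ℂ), z) ∈ (ex.map Prod.fst).zip za) ∧
    ∀ l ∈ Ls, ∀ l' ∈ Ls, ∀ χ ∈ l, ∀ χ' ∈ l', charDegree (χ : G → ℂ) = charDegree (χ' : G → ℂ) →
      (χ : G → ℂ) a = (χ' : G → ℂ) a → l = l' := by
  intro ex Ls za h
  induction h generalizing za with
  | nil => intro _ _; exact ⟨fun l hl => (List.not_mem_nil hl).elim, fun l hl => (List.not_mem_nil hl).elim⟩
  | @cons x l0 ex' Ls' hx _ ih =>
    intro hz hnd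
    cases hz with
    | @cons _ z0 _ za' hl0 hr =>
      rw [List.map_cons, List.zip_cons_cons, List.nodup_cons] at hnd
      obtain ⟨i1, i2⟩ := ih hr hnd.2
      have hd : ∀ χ ∈ l0, charDegree (χ : G → ℂ) = x.1 := hx.2.2
      refine ⟨fun l hl χ hχ => ?_, fun l hl l' hl' χ hχ χ' hχ' he ha => ?_⟩
      · rcases List.mem_cons.1 hl with rfl | hl
        · exact ⟨z0, hl0 χ hχ, by simp [hd χ hχ]⟩
        · obtain ⟨z, h1, h2⟩ := i1 l hl χ hχ
          exact ⟨z, h1, by simp [h2]⟩
      · have key : ∀ m ∈ Ls', ∀ ψ ∈ m, ∀ χ ∈ l0, charDegree (ψ : G → ℂ) = charDegree (χ : G → ℂ) →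
            (ψ : G → ℂ) a = (χ : G → ℂ) a → False := fun m hm ψ hψ χ hχ he ha => by
          obtain ⟨z, h1, h2⟩ := i1 m hm ψ hψ
          rw [h1, hl0 χ hχ, Int.cast_inj] at ha
          rw [he, hd χ hχ, ha] at h2
          exact hnd.1 h2
        rcases List.mem_cons.1 hl with e1 | hl <;> rcases List.mem_cons.1 hl' with e2 | hl'
        · exact e1.trans e2.symm
        · exact (key l' hl' χ' hχ' χ (e1 ▸ hχ) he.symm ha.symm).elim
        · exact (key l hl χ hχ χ' (e2 ▸ hχ') he ha).elim
        · exact i2 l hl l' hl' χ hχ χ' hχ' he ha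

theorem exists_zs {g : G} : ∀ {Ls : List (List (IrrCharacter G))},
    (∀ l ∈ Ls, ∃ z : ℤ, ∀ χ ∈ l, (χ : G → ℂ) g = z) →
    ∃ zs : List ℤ, List.Forall₂ (fun (l : List (IrrCharacter G)) (z : ℤ) => ∀ χ ∈ l, (χ : G → ℂ) g = (z : ℂ)) Ls zs
  | [], _ => ⟨[], .nil⟩
  | l :: Ls, h => by
    obtain ⟨z, hz⟩ := h l (by simp)
    obtain ⟨zs, hzs⟩ := exists_zs (Ls := Ls) fun m hm => h m (by simp [hm])
    exact ⟨z :: zs, .cons hz hzs⟩

include E in
theorem extended {g : G} (hgp : ¬ p ∣ orderOf g) (hg11 : ¬ 11 ∣ orderOf g) (hg1 : g ≠ 1) {v : List ℤ}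
    (hv : F.Col g v) (hint : ∀ l ∈ E.Ls, ∀ χ ∈ l, ∃ z : ℤ, (χ : G → ℂ) g = z ∧
      z ∈ rngE (code g) (charDegree (χ : G → ℂ)) (cc g)) :
    ∃ zs, zs ∈ extSols p (fullD F.row) ex (el (cc g, v) (code g)) ∧
      List.Forall₂ (fun (l : List (IrrCharacter G)) (z : ℤ) => ∀ χ ∈ l, (χ : G → ℂ) g = (z : ℂ)) E.Ls zs ∧
      Vals (F.L ++ E.Ls.flatten) g (fullV v ++ expand ex zs) ∧
      degs (F.L ++ E.Ls.flatten) = fullD F.row ++ extDegs ex := by
  obtain ⟨zs, hzs⟩ := exists_zs (g := g) (Ls := E.Ls) fun l hl => by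
    cases l with
    | nil => exact ⟨0, fun χ h => (List.not_mem_nil h).elim⟩
    | cons χ l =>
      obtain ⟨z, hz, -⟩ := hint _ hl χ (by simp)
      exact ⟨z, fun ψ hψ => (E.const _ hl ψ hψ χ (by simp) g hgp).trans hz⟩
  have hV : Vals (F.L ++ E.Ls.flatten) g (fullV v ++ expand ex zs) :=
    vals_append (Front.Col.vals F hg11 hv) (vals_flatten E.rep hzs)
  have hD : degs (F.L ++ E.Ls.flatten) = fullD F.row ++ extDegs ex := by
    rw [← degs_flatten E.rep, ← F.degs_L]
    exact List.map_append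
  have hlin := B.lin_zero E.nodup E.cover hgp hV
  rw [hD] at hlin
  refine ⟨zs, mem_extSols ?_ ?_ hlin (dot_le E.nodup hV), hzs, hV, hD⟩
  · rw [← F.degs_L, degs, List.length_map]
    exact (Front.Col.vals F hg11 hv).length_eq
  · suffices key : ∀ {ex : Ext} {Ls : List (List (IrrCharacter G))} {zs : List ℤ},
        List.Forall₂ (fun (x : ℕ × ℕ) (l : List (IrrCharacter G)) =>
          l.length = x.2 ∧ 0 < x.2 ∧ ∀ χ ∈ l, charDegree (χ : G → ℂ) = x.1) ex Ls →
        List.Forall₂ (fun (l : List (IrrCharacter G)) (z : ℤ) => ∀ χ ∈ l, (χ : G → ℂ) g = (z : ℂ)) Ls zs →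
        (∀ l ∈ Ls, ∀ χ ∈ l, ∃ z : ℤ, (χ : G → ℂ) g = z ∧ z ∈ rngE (code g) (charDegree (χ : G → ℂ)) (cc g)) →
        List.Forall₂ (fun x z => z ∈ rngE (code g) x.1 (cc g)) ex zs from key E.rep hzs hint
    intro ex Ls zs h
    induction h generalizing zs with
    | nil => intro hz _; cases hz; exact .nil
    | @cons x l ex' Ls' hx _ ih =>
      intro hz hi
      cases hz with
      | @cons _ z _ zs' hl hr =>
        refine .cons ?_ (ih hr fun m hm => hi m (List.mem_cons_of_mem _ hm))
        obtain ⟨hlen, hpos, hd⟩ := hx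
        obtain ⟨χ, hχ⟩ := List.exists_mem_of_length_pos (l := l) (by omega)
        obtain ⟨z', hz', hmem⟩ := hi l (by simp) χ hχ
        have : z' = z := by exact_mod_cast hz'.symm.trans (hl χ hχ)
        rw [← this, ← hd χ hχ]
        exact hmem

include E in
/-- The test of the block passes. -/
theorem extOk_sound (hp : p = 5 ∨ p = 7) {exts : List Ext} (hex : ex ∈ exts) {a : G} (ha : orderOf a = 2)
    {va : List ℤ} (hva : F.Col a va) {gs : List (G × List ℤ)}
    (hgs : ∀ x ∈ gs, F.Col x.1 x.2 ∧ (orderOf x.1 = 3 ∨ orderOf x.1 = 5 ∨ orderOf x.1 = 7) ∧ orderOf x.1 ≠ p)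
    (hdist : gs.Pairwise fun x y => orderOf x.1 ≠ orderOf y.1) :
    extOk p F.row exts (el (cc a, va) 4 :: gs.map fun x => el (cc x.1, x.2) (code x.1)) = true := by
  have hp2 : ¬ p ∣ 2 := fun h => by have := Nat.le_of_dvd (by norm_num) h; omega
  have hap : ¬ p ∣ orderOf a := by rw [ha]; exact hp2
  have ha11 : ¬ 11 ∣ orderOf a := by rw [ha]; norm_num
  have ha1 : a ≠ 1 := fun e => by rw [e, orderOf_one] at ha; omega
  have hca : code a = 4 := by simp [code, ha]
  have hne11 : ∀ l ∈ E.Ls, ∀ χ ∈ l, χ ≠ oneChar := fun l hl χ hχ e => by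
    have h := (E.mem l hl χ hχ).2
    rw [e, Front.deg_one] at h
    norm_num at h
  obtain ⟨za, hza, hzav, hVa, hD⟩ := E.extended hap ha11 ha1 hva fun l hl χ hχ => by
    obtain ⟨z, hz, -, -⟩ := SmallOrderGraph.invol_value (na F.card) (hne11 l hl χ hχ) ha
    exact ⟨z, hz, by rw [hca]; exact Front.rng_invol (hne11 l hl χ hχ) ha hz F.card⟩
  rw [hca] at hza
  simp only [extOk]
  refine List.any_eq_true.2 ⟨ex, hex, List.any_eq_true.2 ⟨za, hza, ?_⟩⟩
  simp only [el, Bool.and_eq_true]
  have hpl : ∀ {g k : G} {V W : List ℤ}, ¬ p ∣ orderOf g → ¬ p ∣ orderOf k →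
      Vals (F.L ++ E.Ls.flatten) g V → Vals (F.L ++ E.Ls.flatten) k W →
      pairOk p (fullD F.row ++ extDegs ex) (cc g, V) (cc k, W) = true ∧
        (Odd B.e → orderOf g = 2 → orderOf k = 2 → pl p (fullD F.row ++ extDegs ex) V W = 0) := by
    intro g k V W hg hk hV hW
    obtain ⟨h1, h2, h3⟩ := B.pl_facts F.card E.nodup E.cover hg hk hV hW
    rw [hD] at h1 h2 h3
    exact ⟨by simp [pairOk, h1, Int.emod_eq_zero_of_dvd h2], h3⟩
  refine ⟨⟨?_, ?_⟩, ?_⟩
  · simp [joins, (hpl hap hap hVa hVa).1]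
  · rcases hp with rfl | rfl
    · rfl
    · have hodd : Odd B.e := by
        rcases B.par with ⟨h, -⟩ | ⟨-, h, -⟩ | ⟨h, -⟩ <;> first | (rw [h]; decide) | norm_num at h
      simp [(hpl hap hap hVa hVa).2 hodd ha ha]
  -- the further elements
  set gs' := gs.filter fun x => distinctAt ex za || (code x.1 != 5 && code x.1 != 7) with hgs'
  have hrest : restFor ex za (gs.map fun x => el (cc x.1, x.2) (code x.1)) =
      gs'.map fun x => el (cc x.1, x.2) (code x.1) := by
    rw [hgs', restFor]
    cases distinctAt ex za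
    · simp [List.filter_map, Function.comp_def, el]
    · simp
  simp only [el] at hrest ⊢
  rw [hrest, List.map_map]
  have hmem : ∀ x ∈ gs', ∃ A ∈ extOpts p (fullD F.row) ex (el (cc x.1, x.2) (code x.1)), A.1 = cc x.1 ∧
      Vals (F.L ++ E.Ls.flatten) x.1 A.2 := by
    intro x hx
    obtain ⟨hx0, hxd⟩ := List.mem_filter.1 hx
    obtain ⟨hcol, hord, hxp⟩ := hgs x hx0
    have hxp' : ¬ p ∣ orderOf x.1 := by
      rcases hp with rfl | rfl <;> rcases hord with e | e | e <;> rw [e] at hxp ⊢ <;> omega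
    have hx11 : ¬ 11 ∣ orderOf x.1 := by rcases hord with e | e | e <;> rw [e] <;> norm_num
    have hx1 : x.1 ≠ 1 := fun e => by rw [e, orderOf_one] at hord; omega
    obtain ⟨zs, hzs, -, hV, -⟩ := E.extended hxp' hx11 hx1 hcol fun l hl χ hχ => by
      have hne := hne11 l hl χ hχ
      rcases hord with e | e57
      · obtain ⟨z, hz, h3, -⟩ := three_value F.card χ e
        refine ⟨z, hz, ?_⟩
        have : code x.1 = 3 := by simp [code, e]
        rw [this]
        show z ∈ rng _ _ 3
        exact mem_rng_val F.card hne hx1 hz (by norm_num) h3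
      · set m := orderOf x.1 with hm
        have hmp : m.Prime := by rcases e57 with e | e <;> rw [e] <;> norm_num
        have hcode : code x.1 = m := by
          simp only [code, ← hm]
          rw [if_neg (by omega)]
        have hdd : ((ex.map Prod.fst).zip za).Nodup := by
          simp only [hcode, Bool.or_eq_true, Bool.and_eq_true, bne_iff_ne, ne_eq] at hxd
          rcases hxd with h | h
          · simpa [distinctAt] using h
          · omega
        obtain ⟨-, huniq⟩ := unique_group E.rep hzav hdd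
        obtain ⟨z, hz⟩ : ∃ z : ℤ, (χ : G → ℂ) x.1 = z := by
          refine int_value χ fun k hk => ?_
          have hψS : SmallOrderGraph.galConj χ hk ∈ B.S := by
            rw [B.mem_iff, SmallOrderGraph.charDegree_galConj]
            exact B.not_dvd (E.mem l hl χ hχ).1
          have hψL : SmallOrderGraph.galConj χ hk ∉ F.L := fun h => by
            refine F.B.not_dvd (F.L_mem h) ?_
            rw [SmallOrderGraph.charDegree_galConj]
            exact (E.mem l hl χ hχ).2
          obtain ⟨l', hl', hψ⟩ := List.mem_flatten.1 ((List.mem_append.1 (E.cover _ hψS)).resolve_left hψL)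
          have hak : a ^ k = a := by
            have hodd : k % 2 = 1 := by
              by_contra h
              have h2 : Nat.gcd 2 (Nat.card G) = 1 := Nat.Coprime.coprime_dvd_left (show 2 ∣ k by omega) hk
              rw [F.card] at h2
              norm_num at h2
            rw [pow_eq_pow_mod k (ha ▸ pow_orderOf_eq_one a), hodd, pow_one]
          have hll : l' = l := huniq l' hl' l hl _ hψ χ hχ (SmallOrderGraph.charDegree_galConj _ _)
            (by rw [SmallOrderGraph.galConj_apply, hak])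
          rw [← SmallOrderGraph.galConj_apply χ hk]
          exact E.const l hl _ (hll ▸ hψ) χ hχ x.1 hxp'
        refine ⟨z, hz, ?_⟩
        rw [hcode]
        have hb : (m == 5 || m == 7) = true := by rcases e57 with e | e <;> simp [e]
        simp only [rngE, hb, cond_true]
        by_cases hd : charDegree (χ : G → ℂ) % m = 0
        · have h0 := vanish F.card (p := m) (by omega) (Nat.dvd_of_mod_eq_zero hd) (g := x.1) (by rw [hm])
          rw [hz] at h0
          simp [rngP, hd, Int.cast_eq_zero.1 h0]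
        · have hb' : (charDegree (χ : G → ℂ) % m == 0) = false := by simpa using hd
          simp only [rngP, hb', cond_false]
          exact mem_rng_val F.card hne hx1 hz hmp.pos (int_congr_deg hmp hm.symm hz)
    exact ⟨_, List.mem_map.2 ⟨zs, hzs, rfl⟩, rfl, hV⟩
  choose! A hA hA1 hA2 using hmem
  have hsub : gs'.Pairwise fun x y => orderOf x.1 ≠ orderOf y.1 := hdist.sublist List.filter_sublist
  have hgs2 : ∀ x ∈ gs', ¬ p ∣ orderOf x.1 ∧ orderOf x.1 ≠ 2 := fun x hx => by
    obtain ⟨-, hord, hxp⟩ := hgs x (List.mem_filter.1 hx).1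
    exact ⟨by rcases hp with rfl | rfl <;> rcases hord with e | e | e <;> rw [e] at hxp ⊢ <;> omega, by omega⟩
  have hjoin : ∀ x, ∀ y, ¬ p ∣ orderOf x → ¬ p ∣ orderOf y → orderOf x ≠ orderOf y → ∀ {V W : List ℤ},
      Vals (F.L ++ E.Ls.flatten) x V → Vals (F.L ++ E.Ls.flatten) y W →
      pairOk p (fullD F.row ++ extDegs ex) (cc x, V) (cc y, W) = true ∧ orthOk (cc x) V (cc y) W = true :=
    fun x y hx hy hne V W hV hW => ⟨(hpl hx hy hV hW).1, orth E.nodup hV hW fun h => hne (orderOf_conj h)⟩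
  refine choose'_sound (As := gs'.map A) ?_ ?_ ?_ ?_
  · rw [List.forall₂_map_left_iff, List.forall₂_map_right_iff]
    exact List.forall₂_same.2 fun x hx => hA x hx
  · intro B' hB'
    obtain ⟨x, hx, rfl⟩ := List.mem_map.1 hB'
    have := (hpl (hgs2 x hx).1 (hgs2 x hx).1 (hA2 x hx) (hA2 x hx)).1
    rwa [← hA1 x hx] at this
  · intro B' hB' C hC
    obtain ⟨x, hx, rfl⟩ := List.mem_map.1 hB'
    rw [List.mem_singleton.1 hC]
    have := hjoin a x.1 hap (hgs2 x hx).1 (by rw [ha]; exact (hgs2 x hx).2.symm) hVa (hA2 x hx)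
    rwa [← hA1 x hx] at this
  · rw [List.pairwise_map]
    refine hsub.imp_of_mem fun {x y} hx hy hne => ?_
    have := hjoin x.1 y.1 (hgs2 x hx).1 (hgs2 y hy).1 hne (hA2 x hx) (hA2 y hy)
    rwa [← hA1 x hx, ← hA1 y hy] at this

end Rep

end Cfsg.Agent.MTwentyTwo.ByOrder
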