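import Cfsg.Agent.Lib.Spor.MTwentyTwoOrder.Tests
import Cfsg.Agent.Lib.Spor.MTwentyTwoOrder.Ext
import Cfsg.Agent.Lib.Spor.MTwentyTwoOrder.Check

/-!
The central involutions of a group of the order of the Mathieu group of degree twenty-two, and the centralisers
of its elements of orders five and seven.
-/

set_option autoImplicit false
set_option linter.unusedSectionVars false
set_option linter.style.haveILetI false
set_option maxRecDepth 100000

namespace Cfsg.Agent.MTwentyTwo.ByOrder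

open Cfsg Cfsg.Agent.Char Cfsg.Agent.Small.Order459648
open Cfsg.Agent.MTwelve.OrderFront (val_one)
open scoped ComplexConjugate

universe u

theorem mem_cDiv {m C : ℕ} (hm : 0 < m) (h : m ∣ C) (hC : C ∣ 40320) : C ∈ cDiv m := by
  obtain ⟨k, rfl⟩ := h
  have hk : 0 < k := Nat.pos_of_ne_zero fun e => by rw [e, mul_zero] at hC; simp at hC
  have hle : k ≤ 40320 / m := (Nat.le_div_iff_mul_le hm).2 (by
    rw [mul_comm]; exact Nat.le_of_dvd (by norm_num) hC)
  refine List.mem_filter.2 ⟨List.mem_map.2 ⟨k - 1, List.mem_range.2 (by omega), by rw [Nat.sub_add_cancel hk]⟩, ?_⟩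
  simp [Nat.mod_eq_zero_of_dvd hC]

theorem cA_table : ((cDiv 128).all fun C => cA.contains C) = true := by decide +kernel

variable {G : Type u} [Group G] [Fintype G] [IsSimpleGroup G]

namespace Front

variable (F : Front G)

theorem mem_aCols {a : G} (ha : orderOf a = 2) (h128 : 128 ∣ cc a) {v : List ℤ} (hv : F.Col a v) :
    (cc a, v) ∈ aColsC F.row := by
  have ha11 : ¬ 11 ∣ orderOf a := by rw [ha]; norm_num
  have hC : cc a ∈ cA := by
    have hd := F.cc_dvd ha11 fun e => by rw [e, orderOf_one] at ha; omega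
    exact List.contains_iff_mem.1 (List.all_eq_true.1 cA_table _ (mem_cDiv (by norm_num) h128 hd))
  refine List.mem_flatMap.2 ⟨cc a, hC, List.mem_map.2 ⟨v, List.mem_filter.2 ⟨F.invol_mem ha hv, ?_⟩, rfl⟩⟩
  simp [(F.pl_col ha11 ha11 hv hv).2.2 ha ha]

theorem mem_qCols {p : ℕ} (hp : p = 5 ∨ p = 7) {x : G} (hx : orderOf x = p) {v : List ℤ} (hv : F.Col x v) :
    (cc x, v) ∈ qColsC p F.row :=
  List.mem_flatMap.2 ⟨cc x, F.cc_mem_cS hp hx, List.mem_map.2 ⟨v, F.prime_mem hp hx hv, rfl⟩⟩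

theorem mem_uCols {p : ℕ} (hp : p = 5 ∨ p = 7) {x u : G} (hx : orderOf x = p) (hu : orderOf u = 2)
    (hc : u * x = x * u) {v : List ℤ} (hv : F.Col u v) : (cc u, v) ∈ uColsC (cDiv (2 * p)) p F.row := by
  have hu11 : ¬ 11 ∣ orderOf u := by rw [hu]; norm_num
  have hu1 : u ≠ 1 := fun e => by rw [e, orderOf_one] at hu; omega
  have hpp : p.Prime := by rcases hp with rfl | rfl <;> norm_num
  have h2 : 2 ∣ cc u := hu ▸ Subgroup.orderOf_dvd_natCard _ (Subgroup.mem_centralizer_singleton_iff.2 rfl)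
  have h5 : p ∣ cc u := hx ▸ Subgroup.orderOf_dvd_natCard _ (Subgroup.mem_centralizer_singleton_iff.2 hc.symm)
  have h2p : 2 * p ∣ cc u := Nat.Coprime.mul_dvd_of_dvd_of_dvd (by rcases hp with rfl | rfl <;> norm_num) h2 h5
  have key : ∀ χ : IrrCharacter G, χ ≠ oneChar → ∀ z : ℤ, (χ : G → ℂ) u = z →
      z ∈ rng (charDegree (χ : G → ℂ)) (cc u) (bif charDegree (χ : G → ℂ) % p == 0 then 4 * p else 4) := by
    intro χ hne z hz
    obtain ⟨z', hz', h4, -⟩ := SmallOrderGraph.invol_value (na F.card) hne hu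
    have : z' = z := by exact_mod_cast hz'.symm.trans hz
    subst this
    by_cases hd : charDegree (χ : G → ℂ) % p = 0
    · simp only [hd, beq_self_eq_true, cond_true]
      refine mem_rng_val F.card hne hu1 hz (by omega) ?_
      have hcm : Commute u x := hc
      have hgp : (u * x) ^ p = u := by
        rw [hcm.mul_pow, ← hx, pow_orderOf_eq_one, mul_one, hx, pow_eq_pow_mod p (hu ▸ pow_orderOf_eq_one u),
          show p % 2 = 1 by rcases hp with rfl | rfl <;> rfl, pow_one]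
      have ho : orderOf (u * x) = 2 * p := by
        rw [hcm.orderOf_mul_eq_mul_orderOf_of_coprime
          (by rw [hu, hx]; rcases hp with rfl | rfl <;> norm_num), hu, hx]
      have h0 := vanish F.card (p := p) (χ := χ) (g := u * x) (by omega) (Nat.dvd_of_mod_eq_zero hd)
        (by rw [ho]; exact dvd_mul_left _ _)
      have h1 := int_congr hpp (z := 0) (w := z') (g := u * x) (χ := χ) (by rw [h0]; simp) (by rw [hgp, hz])
      have hdp : (p : ℤ) ∣ (charDegree (χ : G → ℂ) : ℤ) := Int.natCast_dvd_natCast.2 (Nat.dvd_of_mod_eq_zero hd)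
      have hco : IsCoprime (4 : ℤ) (p : ℤ) := by
        rcases hp with rfl | rfl <;> exact Int.isCoprime_iff_gcd_eq_one.2 rfl
      push_cast
      exact hco.mul_dvd h4 (by simpa [sub_eq_add_neg] using dvd_add hdp h1)
    · have hb : (charDegree (χ : G → ℂ) % p == 0) = false := by simpa using hd
      simp only [hb, cond_false]
      exact mem_rng_val F.card hne hu1 hz (by norm_num) h4
  refine List.mem_flatMap.2 ⟨cc u, mem_cDiv (by omega) h2p (F.cc_dvd hu11 hu1),
    List.mem_map.2 ⟨v, List.mem_filter.2 ⟨F.mem_cols hu11 hv (fun i => key _ (F.c_ne i)) (key _ F.θ_ne), ?_⟩, rfl⟩⟩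
  simp [(F.pl_col hu11 hu11 hv hv).2.2 hu hu]

theorem mem_bCols {b : G} (hb : orderOf b = 3) {v : List ℤ} (hv : F.Col b v) :
    (cc b, v) ∈ bColsC (cDiv 9) F.row := by
  have hb11 : ¬ 11 ∣ orderOf b := by rw [hb]; norm_num
  haveI : Fact (Nat.Prime 3) := ⟨Nat.prime_three⟩
  obtain ⟨T, hT⟩ := (IsPGroup.of_card (n := 1) (by rw [Nat.card_zpowers, hb, pow_one]) :
    IsPGroup 3 (Subgroup.zpowers b)).exists_le_sylow
  have hTc : Nat.card T = 9 := by
    rw [T.card_eq_multiplicity, F.card, show (443520 : ℕ) = 3 ^ 2 * 49280 from rfl,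
      Nat.factorization_mul (by norm_num) (by norm_num), Nat.factorization_pow, Finsupp.add_apply,
      Finsupp.smul_apply, Nat.prime_three.factorization_self,
      Nat.factorization_eq_zero_of_not_dvd (by norm_num : ¬ 3 ∣ 49280)]
    rfl
  have h9 : 9 ∣ cc b := by
    rw [← hTc]
    refine Subgroup.card_dvd_of_le fun x hx => Subgroup.mem_centralizer_singleton_iff.2 ?_
    haveI := IsPGroup.isMulCommutative_of_card_eq_prime_sq (p := 3) (G := T) (by rw [hTc]; norm_num)
    exact congrArg Subtype.val (mul_comm' (⟨x, hx⟩ : T) ⟨b, hT (Subgroup.mem_zpowers b)⟩)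
  refine List.mem_flatMap.2 ⟨cc b, mem_cDiv (by norm_num) h9 (F.cc_dvd hb11 fun e => by
    rw [e, orderOf_one] at hb; omega), List.mem_map.2 ⟨v, List.mem_filter.2 ⟨F.three_mem hb hv, ?_⟩, rfl⟩⟩
  obtain ⟨h1, h2, -⟩ := F.pl_col hb11 hb11 hv hv
  simp [h1, h2]

/-- the data of the searches at an element of order `p` -/
def QData (p : ℕ) (a : G) (va : List ℤ) (x : G) (X : ℕ × Option (List ℤ)) : Prop :=
  orderOf x = p ∧ X.1 = cc x ∧ ∀ w, X.2 = some w → F.Col x w ∧ single p F.row va = true ∧ orderOf a = 2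

theorem mem_qs {p : ℕ} (hp : p = 5 ∨ p = 7) {R : RowData} {Q : List ByOrder.Col} (hR : R.row = F.row)
    (hQ : ∀ c ∈ qColsC p R.row, c ∈ Q) {a : G} (ha : orderOf a = 2) {va : List ℤ} (hva : F.Col a va) :
    ∃ x X, F.QData p a va x X ∧ X ∈ qs p R.row Q (cc a, va) := by
  haveI : Fact p.Prime := ⟨by rcases hp with rfl | rfl <;> norm_num⟩
  obtain ⟨x, hx⟩ := exists_prime_orderOf_dvd_card' (G := G) p
    (by rw [F.card]; rcases hp with rfl | rfl <;> norm_num)
  have hx11 : ¬ 11 ∣ orderOf x := by rw [hx]; rcases hp with rfl | rfl <;> norm_num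
  cases hs : single p F.row va
  · refine ⟨x, (cc x, none), ⟨hx, rfl, fun w h => by simp at h⟩, ?_⟩
    simp only [qs, hR, hs, cond_false]
    exact List.mem_map.2 ⟨cc x, List.mem_filter.2 ⟨F.cc_mem_cS hp hx, F.weakOk_sound hp ha hva hx⟩, rfl⟩
  · obtain ⟨w, hw⟩ := F.single_col hp ha hva hs (g := x) (by rw [hx]) hx11
    refine ⟨x, (cc x, some w), ⟨hx, rfl, fun w' h => ?_⟩, ?_⟩
    · simp only [Option.some.injEq] at h
      exact ⟨h ▸ hw, hs, ha⟩
    simp only [qs, hR, hs, cond_true]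
    refine List.mem_map.2 ⟨(cc x, w), List.mem_filter.2 ⟨hQ _ (hR ▸ F.mem_qCols hp hx hw), ?_⟩, rfl⟩
    refine F.okk_col (by rw [ha]; norm_num) hx11 hva hw fun h => ?_
    have := orderOf_conj h
    rw [ha, hx] at this
    omega

theorem invOk_sound {p : ℕ} (hp : p = 5 ∨ p = 7) {R : RowData} {U : Option (List ByOrder.Col)} (hR : R.row = F.row)
    (hU : ∀ L, U = some L → ∀ c ∈ uColsC (cDiv (2 * p)) p R.row, c ∈ L) {a : G} (ha : orderOf a = 2)
    {va : List ℤ} (hva : F.Col a va) {x : G} {X : ℕ × Option (List ℤ)} (hX : F.QData p a va x X) :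
    invOk p R.row U (cc a, va) X = true := by
  cases U with
  | none => rfl
  | some L =>
  obtain ⟨hx, hX1, hX2⟩ := hX
  simp only [invOk]
  by_cases hodd : X.1 % 2 = 1
  · simp [hodd]
  have hb : (X.1 % 2 == 1) = false := by simpa using hodd
  simp only [hb, cond_false]
  haveI : Fact (Nat.Prime 2) := ⟨Nat.prime_two⟩
  obtain ⟨⟨u, huC⟩, hu⟩ := exists_prime_orderOf_dvd_card' (G := Subgroup.centralizer ({x} : Set G)) 2
    (show 2 ∣ cc x by omega)
  rw [Subgroup.orderOf_mk] at hu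
  have hcm : u * x = x * u := Subgroup.mem_centralizer_singleton_iff.1 huC
  obtain ⟨uv, huv⟩ := F.invol_col hu
  refine List.any_eq_true.2 ⟨(cc u, uv), hU L rfl _ (hR ▸ F.mem_uCols hp hx hu hcm huv), ?_⟩
  have hu11 : ¬ 11 ∣ orderOf u := by rw [hu]; norm_num
  have ha11 : ¬ 11 ∣ orderOf a := by rw [ha]; norm_num
  simp only [Bool.and_eq_true, Bool.or_eq_true, beq_iff_eq]
  refine ⟨?_, ?_⟩
  · by_cases hcj : IsConj a u
    · refine Or.inl ⟨?_, Col.eq F huv (Col.conj F hva hcj)⟩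
      obtain ⟨c, rfl⟩ := isConj_iff.1 hcj
      show cc (c * a * c⁻¹) = cc a
      unfold cc
      rw [show Subgroup.centralizer ({c * a * c⁻¹} : Set G) =
        (Subgroup.centralizer ({a} : Set G)).map (MulAut.conj c).toMonoidHom from ?_,
        Subgroup.card_map_of_injective (MulAut.conj c).injective]
      ext g
      constructor
      · intro hg
        refine ⟨c⁻¹ * g * c, Subgroup.mem_centralizer_singleton_iff.2 ?_, by simp [mul_assoc]⟩
        have hg' := Subgroup.mem_centralizer_singleton_iff.1 hg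
        calc c⁻¹ * g * c * a = c⁻¹ * (g * (c * a * c⁻¹)) * c := by group
          _ = c⁻¹ * (c * a * c⁻¹ * g) * c := by rw [hg']
          _ = a * (c⁻¹ * g * c) := by group
      · rintro ⟨y, hy, rfl⟩
        refine Subgroup.mem_centralizer_singleton_iff.2 ?_
        simp only [MulEquiv.coe_toMonoidHom, MulAut.conj_apply]
        calc c * y * c⁻¹ * (c * a * c⁻¹) = c * (y * a) * c⁻¹ := by group
          _ = c * (a * y) * c⁻¹ := by rw [Subgroup.mem_centralizer_singleton_iff.1 hy]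
          _ = c * a * c⁻¹ * (c * y * c⁻¹) := by group
    · refine Or.inr ?_
      simp [okz, hR, (F.pl_col ha11 hu11 hva huv).2.2 ha hu, F.orth_col ha11 hu11 hva huv hcj]
  -- the product
  cases hX2' : X.2 with
  | none => rfl
  | some w =>
  obtain ⟨hw, hs, -⟩ := hX2 w hX2'
  simp only
  have hcu : Commute u x := hcm
  set g := u * x with hg
  have hog : orderOf g = 2 * p := by
    rw [hg, hcu.orderOf_mul_eq_mul_orderOf_of_coprime (by rw [hu, hx]; rcases hp with rfl | rfl <;> norm_num), hu, hx]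
  have hgp' : p ∣ orderOf g := by rw [hog]; exact dvd_mul_left _ _
  have hg11 : ¬ 11 ∣ orderOf g := by rw [hog]; rcases hp with rfl | rfl <;> norm_num
  obtain ⟨gv, hgv⟩ := F.single_col hp ha hva hs hgp' hg11
  have hpp : p.Prime := by rcases hp with rfl | rfl <;> norm_num
  have hgp : g ^ p = u := by
    rw [hg, hcu.mul_pow, ← hx, pow_orderOf_eq_one, mul_one, hx, pow_eq_pow_mod p (hu ▸ pow_orderOf_eq_one u),
      show p % 2 = 1 by rcases hp with rfl | rfl <;> rfl, pow_one]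
  have hg2 : g ^ 2 = x ^ 2 := by rw [hg, hcu.mul_pow, ← hu, pow_orderOf_eq_one, one_mul]
  have hle : cc g ≤ cc x := by
    refine Subgroup.card_le_of_le fun y hy => Subgroup.mem_centralizer_singleton_iff.2 ?_
    have h1 : Commute y g := Subgroup.mem_centralizer_singleton_iff.1 hy
    have h2 : x = g ^ (p + 1) := by
      rw [pow_succ, hgp, hg, ← mul_assoc, ← sq, ← hu, pow_orderOf_eq_one, one_mul]
    rw [h2]
    exact (h1.pow_right (p + 1)).eq
  have hC : cc g ≤ X.1 := hX1 ▸ hle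
  have hg1 : g ≠ 1 := fun e => by rw [e, orderOf_one] at hog; omega
  have hlin := F.B.lin_zero F.L_nodup F.L_cover hg11 (Col.vals F hg11 hgv)
  rw [F.degs_L] at hlin
  have hdot := dot_le F.L_nodup (Col.vals F hg11 hgv)
  obtain ⟨ga, gb, gc, ge, gg, rfl, g0, g1, g2, g3, g4⟩ := hgv
  obtain ⟨ua, ub, uc, ue, ug, rfl, u0, u1, u2, u3, u4⟩ := huv
  obtain ⟨xa, xb, xc, xe, xg, rfl, x0, x1, x2, x3, x4⟩ := hw
  have key : ∀ (χ : IrrCharacter G), χ ≠ oneChar → ∀ z zu zx : ℤ, (χ : G → ℂ) g = z → (χ : G → ℂ) u = zu →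
      (χ : G → ℂ) x = zx → z ∈ mixRng p (charDegree (χ : G → ℂ)) X.1 zu zx := by
    intro χ hne z zu zx hz hzu hzx
    by_cases hd : charDegree (χ : G → ℂ) % p = 0
    · have h0 := vanish F.card (p := p) (by omega) (Nat.dvd_of_mod_eq_zero hd) (g := g) hgp'
      rw [hz] at h0
      simp [mixRng, hd, Int.cast_eq_zero.1 h0]
    · have hb' : (charDegree (χ : G → ℂ) % p == 0) = false := by simpa using hd
      simp only [mixRng, hb', cond_false]
      have hlt := MTwelve.OrderFront.natAbs_lt (na F.card) hne hg1 hz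
      have hp2 : (p : ℤ) ∣ z - zu := int_congr hpp hz (by rw [hgp, hzu])
      have h22 : ((2 : ℕ) : ℤ) ∣ z - zx := int_congr Nat.prime_two hz (by
        rw [hg2, pow_int hzx (by rw [hx]; rcases hp with rfl | rfl <;> norm_num)])
      refine List.mem_filter.2 ⟨List.mem_map.2 ⟨(z + charDegree (χ : G → ℂ)).toNat,
        List.mem_range.2 (by omega), by omega⟩, ?_⟩
      have hsq : z * z < (X.1 : ℤ) := by
        have := MTwelve.OrderFront.one_add_sq_le hne hz
        change 1 + z * z ≤ (cc g : ℤ) at this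
        omega
      simp only [Bool.and_eq_true, decide_eq_true_eq, beq_iff_eq]
      exact ⟨⟨hsq, Int.emod_eq_zero_of_dvd hp2⟩, Int.emod_eq_zero_of_dvd h22⟩
  have hm0 := key _ (F.c_ne 0) ga ua xa g0 u0 x0
  have hm1 := key _ (F.c_ne 1) gb ub xb g1 u1 x1
  have hm2 := key _ (F.c_ne 2) gc uc xc g2 u2 x2
  have hm3 := key _ (F.c_ne 3) ge ue xe g3 u3 x3
  have hm4 := key _ F.θ_ne gg ug xg g4 u4 x4
  simp only [mixOk, hR, row]
  have h11 : cfp 11 1 = 2 := rfl
  simp only [row, fullD, fullV, lin, h11] at hlin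
  simp only [fullV, dot] at hdot
  have hmem : [ga, gb, gc, gg, ge] ∈ sols (X.1 : ℤ) [(mixRng p (F.d 0) X.1 ua xa, cfp 11 (F.d 0), 1),
      (mixRng p (F.d 1) X.1 ub xb, cfp 11 (F.d 1), 1), (mixRng p (F.d 2) X.1 uc xc, cfp 11 (F.d 2), 1),
      (mixRng p F.g0 X.1 ug xg, 2 * cfp 11 F.g0, 2), (mixRng p (F.d 3) X.1 ue xe, cfp 11 (F.d 3), 1)] 2 1 := by
    refine mem_sols (.cons ⟨hm0, by norm_num⟩ (.cons ⟨hm1, by norm_num⟩ (.cons ⟨hm2, by norm_num⟩
      (.cons ⟨hm4, by norm_num⟩ (.cons ⟨hm3, by norm_num⟩ .nil))))) ?_ ?_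
    · simp only [wlin]; linarith
    · have : (cc g : ℤ) ≤ (X.1 : ℤ) := by exact_mod_cast hC
      simp only [wsq]; linarith
  generalize sols (X.1 : ℤ) _ 2 1 = l at hmem ⊢
  cases l with
  | nil => exact (List.not_mem_nil hmem).elim
  | cons => rfl

theorem extOk_five {R : RowData} (hR : R.row = F.row) (hE : ∀ e ∈ extFiveC R.row, e ∈ R.extFive) {x : G}
    (hx : orderOf x = 5) (hC : cc x = 5) {a : G} (ha : orderOf a = 2) {va : List ℤ} (hva : F.Col a va)
    {gs : List (G × List ℤ)} (hgs : ∀ y ∈ gs, F.Col y.1 y.2 ∧ (orderOf y.1 = 3 ∨ orderOf y.1 = 7))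
    (hdist : gs.Pairwise fun y z => orderOf y.1 ≠ orderOf z.1) :
    extOk 5 R.row R.extFive (el (cc a, va) 4 :: gs.map fun y => el (cc y.1, y.2) (Rep.code y.1)) = true := by
  haveI : Fact (Nat.Prime 5) := ⟨by norm_num⟩
  obtain ⟨B, -⟩ := F.exists_pblk_prime (Or.inl rfl) hx hC
  obtain ⟨ex, hex, ⟨E⟩⟩ := F.exists_rep_five B
  rw [hR] at hE ⊢
  exact E.extOk_sound (Or.inl rfl) (hE _ hex) ha hva
    (fun y hy => ⟨(hgs y hy).1, by have := (hgs y hy).2; omega, by have := (hgs y hy).2; omega⟩) hdist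

theorem extOk_seven {R : RowData} (hR : R.row = F.row) (hE : ∀ e ∈ extSevenC R.row, e ∈ R.extSeven) {x : G}
    (hx : orderOf x = 7) (hC : cc x = 7) {a : G} (ha : orderOf a = 2) {va : List ℤ} (hva : F.Col a va)
    {gs : List (G × List ℤ)} (hgs : ∀ y ∈ gs, F.Col y.1 y.2 ∧ (orderOf y.1 = 3 ∨ orderOf y.1 = 5))
    (hdist : gs.Pairwise fun y z => orderOf y.1 ≠ orderOf z.1) :
    extOk 7 R.row R.extSeven (el (cc a, va) 4 :: gs.map fun y => el (cc y.1, y.2) (Rep.code y.1)) = true := by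
  haveI : Fact (Nat.Prime 7) := ⟨by norm_num⟩
  obtain ⟨B, -⟩ := F.exists_pblk_prime (Or.inr rfl) hx hC
  obtain ⟨ex, hex, ⟨E⟩⟩ := F.exists_rep_seven B
  rw [hR] at hE ⊢
  exact E.extOk_sound (Or.inr rfl) (hE _ hex) ha hva
    (fun y hy => ⟨(hgs y hy).1, by have := (hgs y hy).2; omega, by have := (hgs y hy).2; omega⟩) hdist

/-- The outcome of the searches. -/
def Outcome (a : G) (v : List ℤ) : Prop :=
  (F.row = [21, 45, 45, 210, 280] ∧ cc a = 384 ∧ v = [5, -3, -3, 2, -8]) ∨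
    (F.row = [21, 120, 210, 210, 280] ∧ ((cc a = 1152 ∧ v = [-3, 0, 6, 6, 16]) ∨
      (cc a = 2688 ∧ (v = [-7, 8, 14, -14, 0] ∨ v = [-7, 8, -14, 14, 0]))))

/-- A central involution and the centralisers of elements of orders five and seven. -/
theorem central_cases {a : G} (ha : orderOf a = 2) (h128 : 128 ∣ cc a) {va : List ℤ} (hva : F.Col a va) :
    F.Outcome a va ∧ ∃ x y : G, orderOf x = 5 ∧ cc x = 5 ∧ orderOf y = 7 ∧ cc y = 7 := by
  obtain ⟨R, -, hR, hcert⟩ := exists_rowData F.row_mem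
  simp only [certOk, dataOk, rowOk, Bool.and_eq_true, Bool.or_eq_true, List.all_eq_true] at hcert
  obtain ⟨⟨hA, hrest⟩, hrow⟩ := hcert
  have haR : (cc a, va) ∈ R.acols := List.contains_iff_mem.1 (hA _ (hR ▸ F.mem_aCols ha h128 hva))
  rcases hrest with hemp | ⟨⟨⟨⟨⟨⟨hQ5, hQ7⟩, hE5⟩, hE7⟩, hU5⟩, hU7⟩, hB⟩
  · rw [List.isEmpty_iff] at hemp
    rw [hemp] at haR
    exact (List.not_mem_nil haR).elim
  obtain ⟨x, q, hq, hqm⟩ := F.mem_qs (Q := R.qFive) (Or.inl rfl) hR
    (fun c hc => List.contains_iff_mem.1 (hQ5 c hc)) ha hva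
  obtain ⟨y, s, hs, hsm⟩ := F.mem_qs (Q := R.qSeven) (Or.inr rfl) hR
    (fun c hc => List.contains_iff_mem.1 (hQ7 c hc)) ha hva
  have hE5' : ∀ e ∈ extFiveC R.row, e ∈ R.extFive := fun e he => List.contains_iff_mem.1 (hE5 e he)
  have hE7' : ∀ e ∈ extSevenC R.row, e ∈ R.extSeven := fun e he => List.contains_iff_mem.1 (hE7 e he)
  have hopt5 : ∃ gs : List (G × List ℤ), (∀ g ∈ gs, F.Col g.1 g.2 ∧ orderOf g.1 = 7) ∧ gs.length ≤ 1 ∧
      elOpt s 7 = gs.map fun g => el (cc g.1, g.2) (Rep.code g.1) := by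
    cases h2 : s.2 with
    | none => exact ⟨[], by simp, by simp, by simp [elOpt, h2]⟩
    | some w => exact ⟨[(y, w)], by simp [(hs.2.2 w h2).1, hs.1], by simp, by
        simp [elOpt, h2, Rep.code, hs.1, hs.2.1]⟩
  have hopt7 : ∃ gs : List (G × List ℤ), (∀ g ∈ gs, F.Col g.1 g.2 ∧ orderOf g.1 = 5) ∧ gs.length ≤ 1 ∧
      elOpt q 5 = gs.map fun g => el (cc g.1, g.2) (Rep.code g.1) := by
    cases h2 : q.2 with
    | none => exact ⟨[], by simp, by simp, by simp [elOpt, h2]⟩
    | some w => exact ⟨[(x, w)], by simp [(hq.2.2 w h2).1, hq.1], by simp, by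
        simp [elOpt, h2, Rep.code, hq.1, hq.2.1]⟩
  have hpw : ∀ gs : List (G × List ℤ), gs.length ≤ 1 → gs.Pairwise fun g h => orderOf g.1 ≠ orderOf h.1 := by
    intro gs hgs
    match gs, hgs with
    | [], _ => exact List.Pairwise.nil
    | [g], _ => exact List.pairwise_singleton _ g
  have hcombo : combo R (cc a, va) q s = true := by
    simp only [combo, Bool.and_eq_true, beq_iff_eq]
    refine ⟨⟨⟨⟨⟨?_, ?_⟩, ?_⟩, F.invOk_sound (Or.inr rfl) hR ?_ ha hva hs⟩,
      F.invOk_sound (Or.inl rfl) hR ?_ ha hva hq⟩, ?_⟩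
    · have h := F.cross hq.1 hs.1
      rw [← hq.2.1, ← hs.2.1] at h
      rw [Bool.eq_iff_iff]
      simp only [beq_iff_eq, ← Nat.dvd_iff_mod_eq_zero]
      exact h
    · by_cases h5 : q.1 = 5
      · obtain ⟨gs, hgs, hlen, heq⟩ := hopt5
        simp only [h5, beq_self_eq_true, cond_true, heq]
        exact F.extOk_five hR hE5' hq.1 (hq.2.1.symm.trans h5) ha hva
          (fun g hg => ⟨(hgs g hg).1, Or.inr (hgs g hg).2⟩) (hpw gs hlen)
      · have : (q.1 == 5) = false := by simpa using h5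
        simp [this]
    · by_cases h7 : s.1 = 7
      · obtain ⟨gs, hgs, hlen, heq⟩ := hopt7
        simp only [h7, beq_self_eq_true, cond_true, heq]
        exact F.extOk_seven hR hE7' hs.1 (hs.2.1.symm.trans h7) ha hva
          (fun g hg => ⟨(hgs g hg).1, Or.inr (hgs g hg).2⟩) (hpw gs hlen)
      · have : (s.1 == 7) = false := by simpa using h7
        simp [this]
    · intro L hL c hc
      rw [hL] at hU7
      exact List.contains_iff_mem.1 (List.all_eq_true.1 hU7 c hc)
    · intro L hL c hc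
      rw [hL] at hU5
      exact List.contains_iff_mem.1 (List.all_eq_true.1 hU5 c hc)
    · cases hBc : R.bcols with
      | none => simp [threeOk, hBc]
      | some L =>
        by_cases h5 : q.1 = 5
        · haveI : Fact (Nat.Prime 3) := ⟨Nat.prime_three⟩
          obtain ⟨b, hb⟩ := exists_prime_orderOf_dvd_card' (G := G) 3 (by rw [F.card]; norm_num)
          obtain ⟨bv, hbv⟩ := F.three_col hb
          rw [hBc] at hB
          have hbm : (cc b, bv) ∈ L :=
            List.contains_iff_mem.1 (List.all_eq_true.1 hB _ (hR ▸ F.mem_bCols hb hbv))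
          obtain ⟨gs, hgs, hlen, heq⟩ := hopt5
          simp only [threeOk, hBc, h5, beq_self_eq_true, cond_true, List.any_eq_true]
          refine ⟨(cc b, bv), hbm, ?_⟩
          rw [Bool.and_eq_true]
          refine ⟨hR ▸ F.okk_col (by rw [ha]; norm_num) (by rw [hb]; norm_num) hva hbv fun h => ?_, ?_⟩
          · have := orderOf_conj h
            rw [ha, hb] at this
            omega
          have h3 : el (cc b, bv) 3 = el (cc ((b, bv) : G × List ℤ).1, bv) (Rep.code b) := by simp [Rep.code, hb]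
          have hl : el (cc b, bv) 3 :: elOpt s 7 =
              ((b, bv) :: gs).map fun g => el (cc g.1, g.2) (Rep.code g.1) := by
            rw [List.map_cons, heq, h3]
          rw [hl]
          refine F.extOk_five hR hE5' hq.1 (hq.2.1.symm.trans h5) ha hva (fun g hg => ?_) ?_
          · rcases List.mem_cons.1 hg with rfl | hg
            · exact ⟨hbv, Or.inl hb⟩
            · exact ⟨(hgs g hg).1, Or.inr (hgs g hg).2⟩
          · refine List.pairwise_cons.2 ⟨fun g hg => ?_, hpw gs hlen⟩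
            show orderOf b ≠ orderOf g.1
            rw [hb, (hgs g hg).2]
            omega
        · have : (q.1 == 5) = false := by simpa using h5
          simp [threeOk, hBc, this]
  have hall := hrow (cc a, va) haR q hqm s hsm
  simp only [hcombo, Bool.not_true, Bool.false_eq_true, false_or, allowed, Bool.and_eq_true, Bool.or_eq_true,
    beq_iff_eq] at hall
  obtain ⟨⟨h5, h7⟩, hcase⟩ := hall
  refine ⟨?_, x, y, hq.1, hq.2.1.symm.trans h5, hs.1, hs.2.1.symm.trans h7⟩
  rw [hR] at hcase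
  rcases hcase with ⟨⟨h1, h2⟩, h3⟩ | ⟨h1, h2⟩
  · exact Or.inl ⟨h1, h2, h3⟩
  · exact Or.inr ⟨h1, h2⟩

end Front

end Cfsg.Agent.MTwentyTwo.ByOrder
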