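import Cfsg.Agent.Lib.Spor.MTwentyTwoOrder.Data

/-!
A part of the certificate for the recognition of the Mathieu group of degree twenty-two by its order.
-/

set_option autoImplicit false
set_option maxRecDepth 20000

namespace Cfsg.Agent.MTwentyTwo.ByOrder

theorem dataOk_row0 : dataOk row0 = true := by decide +kernel

theorem rowOk_row0 : rowOk row0 = true := by decide +kernel

theorem certOk_row0 : certOk row0 = true := by simp [certOk, dataOk_row0, rowOk_row0]

theorem certOk_row1 : certOk row1 = true := by decide +kernel

theorem certOk_row2 : certOk row2 = true := by decide +kernel

theorem certOk_row3 : certOk row3 = true := by decide +kernel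

theorem certOk_row4 : certOk row4 = true := by decide +kernel

theorem certOk_row5 : certOk row5 = true := by decide +kernel

theorem certOk_row6 : certOk row6 = true := by decide +kernel

theorem certOk_row7 : certOk row7 = true := by decide +kernel

theorem certOk_row8 : certOk row8 = true := by decide +kernel

theorem certOk_row9 : certOk row9 = true := by decide +kernel

theorem dataOk_row10 : dataOk row10 = true := by decide +kernel

theorem rowOk_row10 : rowOk row10 = true := by decide +kernel

theorem certOk_row10 : certOk row10 = true := by simp [certOk, dataOk_row10, rowOk_row10]

theorem certOk_row11 : certOk row11 = true := by decide +kernel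

theorem certOk_row12 : certOk row12 = true := by decide +kernel

/-- The rows of this part -/
def partOne : List RowData :=
  [row0, row1, row2, row3, row4, row5, row6, row7, row8, row9, row10, row11, row12]

theorem partOne_ok : partOne.all certOk = true := by
  simp only [partOne, List.all_cons, List.all_nil, Bool.and_true,
    certOk_row0, certOk_row1, certOk_row2, certOk_row3, certOk_row4, certOk_row5, certOk_row6, certOk_row7,
    certOk_row8, certOk_row9, certOk_row10, certOk_row11, certOk_row12]

end Cfsg.Agent.MTwentyTwo.ByOrder
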