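import Cfsg.Agent.Lib.Spor.MTwentyTwoOrder.Table

/-!
The involutions and the elements of order three in a group of the order of the Mathieu group of degree twenty-two.
-/

set_option autoImplicit false
set_option linter.unusedSectionVars false
set_option linter.style.haveILetI false
set_option maxRecDepth 100000

namespace Cfsg.Agent.MTwentyTwo.ByOrder

open Cfsg Cfsg.Agent.Char Cfsg.Agent.Small.Order459648
open scoped ComplexConjugate

universe u

theorem nine_table : colsAll (fun d => rng d 9 3) 9 = [colN] := by decide +kernel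

theorem tri_colT : tri allD colT = 384 * 384 * 50 := by decide +kernel

variable {G : Type u} [Group G] [Fintype G] [IsSimpleGroup G]

theorem vals_unique {L : List (IrrCharacter G)} {g : G} : ∀ {V W : List ℤ}, Vals L g V → Vals L g W → V = W := by
  intro V W h
  induction h generalizing W with
  | nil => intro h'; cases h'; rfl
  | @cons χ z L' V' hz _ ih =>
    intro h'
    cases h' with
    | cons hw hr =>
      rw [ih hr]
      have := hz.symm.trans hw
      rw [Int.cast_inj.1 this]

theorem cc_conj {g k : G} (h : IsConj g k) : cc g = cc k := by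
  obtain ⟨c, rfl⟩ := isConj_iff.1 h
  unfold cc
  refine Nat.card_congr (Equiv.subtypeEquiv (MulAut.conj c).toEquiv fun x => ?_)
  simp only [Subgroup.mem_centralizer_singleton_iff, MulEquiv.toEquiv_eq_coe, MulEquiv.coe_toEquiv]
  rw [show c * g * c⁻¹ = MulAut.conj c g from rfl, ← map_mul, ← map_mul, (MulAut.conj c).injective.eq_iff]

/-- What is known about the group: one class of involutions and one of elements of order three. -/
structure Cls (G : Type u) [Group G] [Fintype G] : Prop where
  card : Nat.card G = 443520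
  five : ∀ x : G, orderOf x = 5 → cc x = 5
  seven : ∀ x : G, orderOf x = 7 → cc x = 7
  eleven : ∀ x : G, orderOf x = 11 → cc x = 11
  invol : ∀ x : G, orderOf x = 2 → cc x = 384
  invol_conj : ∀ x y : G, orderOf x = 2 → orderOf y = 2 → IsConj x y
  three : ∀ x : G, orderOf x = 3 → cc x = 36
  three_conj : ∀ x y : G, orderOf x = 3 → orderOf y = 3 → IsConj x y
  nine : ∀ x : G, orderOf x ≠ 9
  pairs : ∀ x : G, orderOf x = 2 → open scoped Classical in ((Finset.univ : Finset (G × G)).filter fun t =>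
    t.1 * x * t.1⁻¹ * (t.2 * x * t.2⁻¹) = x).card = 384 * 384 * 50

namespace Tbl

variable {F : Front G} (T : Tbl F)

include T in
theorem small_cc {g : G} (hg : g ≠ 1) (h5 : ¬ 5 ∣ orderOf g) (h7 : ¬ 7 ∣ orderOf g) (h11 : ¬ 11 ∣ orderOf g) :
    cc g ∣ 1152 ∧ orderOf g ∣ cc g := by
  refine ⟨?_, Subgroup.orderOf_dvd_natCard _ (Subgroup.mem_centralizer_singleton_iff.2 rfl)⟩
  have hno : ∀ {p : ℕ}, p.Prime → (∀ x : G, orderOf x = p → cc x = p) → ¬ p ∣ orderOf g → ¬ p ∣ cc g := by
    intro p hp hC hpg h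
    haveI : Fact p.Prime := ⟨hp⟩
    obtain ⟨⟨x, hx⟩, hxo⟩ := exists_prime_orderOf_dvd_card' (G := Subgroup.centralizer ({g} : Set G)) p h
    rw [Subgroup.orderOf_mk] at hxo
    have hgx : g ∈ Subgroup.centralizer ({x} : Set G) :=
      Subgroup.mem_centralizer_singleton_iff.2 (Subgroup.mem_centralizer_singleton_iff.1 hx).symm
    have h1 := Subgroup.orderOf_dvd_natCard _ hgx
    rw [show Nat.card (Subgroup.centralizer ({x} : Set G)) = p from hC x hxo] at h1
    rcases (Nat.dvd_prime hp).1 h1 with h2 | h2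
    · exact hg (orderOf_eq_one_iff.1 h2)
    · exact hpg (by rw [h2])
  have h := F.cc_dvd h11 hg
  have c5 : Nat.Coprime (cc g) 5 := (((show Nat.Prime 5 by norm_num).coprime_iff_not_dvd.2
    (hno (by norm_num) T.five h5))).symm
  have c7 : Nat.Coprime (cc g) 7 := (((show Nat.Prime 7 by norm_num).coprime_iff_not_dvd.2
    (hno (by norm_num) T.seven h7))).symm
  exact (Nat.Coprime.mul_right c5 c7).dvd_of_dvd_mul_left (show cc g ∣ 5 * 7 * 1152 from h)

end Tbl

theorem invol_list : ∀ C : Fin 1153, (C : ℕ) ∣ 1152 → 2 ∣ (C : ℕ) → (C : ℕ) ∈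
    [2, 4, 6, 8, 12, 16, 18, 24, 32, 36, 48, 64, 72, 96, 128, 144, 192, 288, 384, 576, 1152] := by
  decide +kernel

theorem three_list : ∀ C : Fin 1153, (C : ℕ) ∣ 1152 → 9 ∣ (C : ℕ) → (C : ℕ) ∈
    [9, 18, 36, 72, 144, 288, 576, 1152] := by
  decide +kernel

/-- The classes of involutions and of elements of order three. -/
theorem exists_cls (hG : Nat.card G = 443520) : Cls G := by
  classical
  haveI : Fact (Nat.Prime 2) := ⟨Nat.prime_two⟩
  haveI : Fact (Nat.Prime 3) := ⟨Nat.prime_three⟩
  obtain ⟨F, ⟨T⟩, a, ha, hCa, hva⟩ := exists_tbl hG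
  have hdots : ∀ {g k : G} {V W : List ℤ}, Vals T.L g V → Vals T.L k W → ¬ IsConj g k → dot V W = 0 :=
    fun h h' hne => (dot_conj T.nodup T.all h h').2 hne
  have hcol2 : ∀ u : G, orderOf u = 2 → ∃ V, V ∈ colsAll (fun d => rng d (cc u) 4) (cc u) ∧ Vals T.L u V := by
    intro u hu
    refine T.exists_col (by rw [hu]; norm_num) (by rw [hu]; norm_num) (by rw [hu]; norm_num)
      (fun e => by rw [e, orderOf_one] at hu; omega) (by norm_num) fun χ z hne hz => ?_
    obtain ⟨z', hz', h4, -⟩ := SmallOrderGraph.invol_value (na hG) hne hu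
    have : z' = z := Int.cast_injective (hz'.symm.trans hz)
    exact this ▸ h4
  obtain ⟨Va, hVa, hVa'⟩ := hcol2 a ha
  have hVaT : Va = colT := by
    have h1 := Front.Col.vals F (by rw [ha]; norm_num) hva
    have h2 : Vals F.L a (Va.take 7) := by
      have := List.forall₂_take 7 hVa'
      simpa [Tbl.L, Front.L] using this
    have h3 := vals_unique h2 h1
    rw [hCa] at hVa
    have h4 := List.all_eq_true.1 cols_384 Va hVa
    rw [h3] at h4
    simpa [fullV, colT] using h4
  subst hVaT
  have hinv : ∀ u : G, orderOf u = 2 → IsConj u a := by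
    intro u hu
    by_contra hne
    obtain ⟨V, hV, hV'⟩ := hcol2 u hu
    obtain ⟨h1, h2⟩ := T.small_cc (g := u) (fun e => by rw [e, orderOf_one] at hu; omega) (by rw [hu]; norm_num)
      (by rw [hu]; norm_num) (by rw [hu]; norm_num)
    have hmem := invol_list ⟨cc u, Nat.lt_succ_of_le (Nat.le_of_dvd (by norm_num) h1)⟩ h1 (hu ▸ h2)
    have ht := List.all_eq_true.1 (List.all_eq_true.1 cols_invol _ hmem) V hV
    have hpl := (F.B.pl_facts hG T.nodup (fun χ _ => T.all χ) (by rw [hu]; norm_num) (by rw [hu]; norm_num)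
      hV' hV').2.2 (by rw [F.e5]; decide) hu hu
    rw [T.degL] at hpl
    simp [hdots hV' hVa' hne, hpl] at ht
  -- elements of order three
  have hnine : ∀ y : G, orderOf y = 3 → 9 ∣ cc y := by
    intro y hy
    obtain ⟨S, hS⟩ := (IsPGroup.of_card (n := 1) (by rw [Nat.card_zpowers, hy, pow_one]) :
      IsPGroup 3 (Subgroup.zpowers y)).exists_le_sylow
    have hSc : Nat.card S = 9 := by
      rw [S.card_eq_multiplicity, hG, show (443520 : ℕ) = 3 ^ 2 * 49280 from rfl,
        Nat.factorization_mul (by norm_num) (by norm_num), Nat.factorization_pow, Finsupp.add_apply,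
        Finsupp.smul_apply, Nat.prime_three.factorization_self,
        Nat.factorization_eq_zero_of_not_dvd (by norm_num : ¬ 3 ∣ 49280)]
      rfl
    rw [← hSc]
    refine Subgroup.card_dvd_of_le fun x hx => Subgroup.mem_centralizer_singleton_iff.2 ?_
    haveI := IsPGroup.isMulCommutative_of_card_eq_prime_sq (p := 3) (G := S) (by rw [hSc]; norm_num)
    exact congrArg Subtype.val (mul_comm' (⟨x, hx⟩ : S) ⟨y, hS (Subgroup.mem_zpowers y)⟩)
  have hcol3 : ∀ y : G, orderOf y = 3 → ∃ V, Vals T.L y V ∧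
      ((cc y = 9 ∧ V = colN) ∨ (cc y = 36 ∧ V = colY)) := by
    intro y hy
    have hy1 : y ≠ 1 := fun e => by rw [e, orderOf_one] at hy; omega
    obtain ⟨V, hV, hV'⟩ := T.exists_col (g := y) (by rw [hy]; norm_num) (by rw [hy]; norm_num)
      (by rw [hy]; norm_num) hy1 (m := 3) (by norm_num) fun χ z _ hz => int_congr_deg Nat.prime_three hy hz
    obtain ⟨h1, -⟩ := T.small_cc hy1 (by rw [hy]; norm_num) (by rw [hy]; norm_num) (by rw [hy]; norm_num)
    have hmem := three_list ⟨cc y, Nat.lt_succ_of_le (Nat.le_of_dvd (by norm_num) h1)⟩ h1 (hnine y hy)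
    have ht := List.all_eq_true.1 (List.all_eq_true.1 cols_three _ hmem) V hV
    have h0 := hdots hV' hVa' fun h => by have := orderOf_conj h; omega
    obtain ⟨R, hR, -⟩ := tri_eq hG T.nodup T.all hV'
    rw [T.degL] at hR
    refine ⟨V, hV', ?_⟩
    simp [h0, hR] at ht
    rcases ht with (h | h) | h
    · omega
    · exact Or.inl h
    · exact Or.inr h
  obtain ⟨⟨y0, hy0⟩, hy0o⟩ := exists_prime_orderOf_dvd_card' (G := Subgroup.centralizer ({a} : Set G)) 3
    (show 3 ∣ cc a by rw [hCa]; norm_num)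
  rw [Subgroup.orderOf_mk] at hy0o
  have hy036 : cc y0 = 36 ∧ Vals T.L y0 colY := by
    obtain ⟨V, hV, ⟨h1, -⟩ | ⟨h1, rfl⟩⟩ := hcol3 y0 hy0o
    · have h2 := Subgroup.orderOf_dvd_natCard (s := Subgroup.centralizer ({y0} : Set G))
        (Subgroup.mem_centralizer_singleton_iff.2 (Subgroup.mem_centralizer_singleton_iff.1 hy0).symm)
      rw [ha, show Nat.card (Subgroup.centralizer ({y0} : Set G)) = 9 from h1] at h2
      norm_num at h2
    · exact ⟨h1, hV⟩
  have hthree : ∀ y : G, orderOf y = 3 → IsConj y y0 := by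
    intro y hy
    by_contra hne
    obtain ⟨V, hV, ⟨-, rfl⟩ | ⟨-, rfl⟩⟩ := hcol3 y hy <;> exact absurd (hdots hV hy036.2 hne) (by decide)
  have hC3 : ∀ y : G, orderOf y = 3 → cc y = 36 := fun y hy => (cc_conj (hthree y hy)).trans hy036.1
  refine ⟨hG, T.five, T.seven, fun x hx => ?_, fun x hx => (cc_conj (hinv x hx)).trans hCa,
    fun x y hx hy => (hinv x hx).trans (hinv y hy).symm, hC3, fun x y hx hy => (hthree x hx).trans (hthree y hy).symm,
    fun g hg => ?_, fun x hx => ?_⟩
  · obtain ⟨Q, hQ⟩ := PrimeSylowCount.exists_sylow_eq F.B.P F.B.cardP x hx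
    have h := (PrimeSylowCount.centCard_eq F.B.P Q).symm.trans F.B.cent
    rwa [PrimeSylowCount.centCard, hQ, centralizer_zpowers_eq] at h
  · -- no elements of order nine
    have hg1 : g ≠ 1 := fun e => by rw [e, orderOf_one] at hg; omega
    have hy : orderOf (g ^ 3) = 3 := by rw [orderOf_pow' _ (by norm_num), hg]; rfl
    have hle : Subgroup.centralizer ({g} : Set G) ≤ Subgroup.centralizer ({g ^ 3} : Set G) := fun x hx =>
      Subgroup.mem_centralizer_singleton_iff.2
        ((show Commute x g from Subgroup.mem_centralizer_singleton_iff.1 hx).pow_right 3).eq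
    have h36 : cc g ∣ 36 := hC3 _ hy ▸ Subgroup.card_dvd_of_le hle
    have h9 : 9 ∣ cc g := hg ▸ Subgroup.orderOf_dvd_natCard _ (Subgroup.mem_centralizer_singleton_iff.2 rfl)
    have hodd : ¬ 2 ∣ cc g := by
      intro h2
      obtain ⟨⟨u, hu⟩, huo⟩ := exists_prime_orderOf_dvd_card' (G := Subgroup.centralizer ({g} : Set G)) 2 h2
      rw [Subgroup.orderOf_mk] at huo
      have h := Subgroup.orderOf_dvd_natCard (s := Subgroup.centralizer ({u} : Set G))
        (Subgroup.mem_centralizer_singleton_iff.2 (Subgroup.mem_centralizer_singleton_iff.1 hu).symm)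
      rw [hg, show Nat.card (Subgroup.centralizer ({u} : Set G)) = 384 from
        (cc_conj (hinv u huo)).trans hCa] at h
      norm_num at h
    have hc9 : cc g = 9 := by
      obtain ⟨k, hk⟩ := h9
      rw [hk] at h36 hodd
      have : k ∣ 4 := Nat.dvd_of_mul_dvd_mul_left (by norm_num : 0 < 9) (by simpa using h36)
      have hk4 := Nat.le_of_dvd (by norm_num) this
      interval_cases k <;> simp_all
    obtain ⟨V, hV, hV'⟩ := T.exists_col (g := g) (by rw [hg]; norm_num) (by rw [hg]; norm_num)
      (by rw [hg]; norm_num) hg1 (m := 3) (by norm_num) fun χ z _ hz => by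
        obtain ⟨w, hw⟩ := T.int_val (g := g ^ 3) (by rw [hy]; norm_num) (by rw [hy]; norm_num) χ
        have h1 := int_congr Nat.prime_three hz hw
        have h2 := int_congr_deg Nat.prime_three hy hw
        have := dvd_sub h2 h1
        rwa [show (charDegree (χ : G → ℂ) : ℤ) - w - (z - w) = (charDegree (χ : G → ℂ) : ℤ) - z by ring] at this
    rw [hc9, show ((9 : ℕ) : ℤ) = 9 from rfl, nine_table, List.mem_singleton] at hV
    subst hV
    exact absurd (hdots hV' hy036.2 fun h => by have := orderOf_conj h; omega) (by decide)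
  · obtain ⟨V, -, hV⟩ := hcol2 x hx
    obtain ⟨c, hc⟩ := isConj_iff.1 (hinv x hx)
    have hVT : Vals T.L x colT := by
      refine hVa'.imp fun χ z hz => ?_
      rw [← hc, isClassFunction_character (irr_isCharacter χ.2) x c] at hz
      exact hz
    obtain ⟨R, hR, hR'⟩ := tri_eq hG T.nodup T.all hVT
    rw [T.degL, tri_colT] at hR
    rw [← hR']
    exact_mod_cast hR.symm

end Cfsg.Agent.MTwentyTwo.ByOrder
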