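import Cfsg.Agent.Lib.Spor.MTwentyTwoOrder.Arith
import Cfsg.Agent.Lib.Spor.MTwelve.OrderFront.Block

/-!
Columns of integral values of a list of characters, for the recognition of the Mathieu group of degree
twenty-two by its order.
-/

set_option autoImplicit false
set_option linter.unusedSectionVars false

namespace Cfsg.Agent.MTwentyTwo.ByOrder

open Cfsg Cfsg.Agent.Char Cfsg.Agent.Small.Order459648
open Cfsg.Agent.MTwelve.OrderFront (column_eq column_le val_one)
open scoped ComplexConjugate

universe u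

variable {G : Type u} [Group G] [Fintype G]

/-- the order of the centraliser of an element -/
noncomputable def cc (g : G) : ℕ := Nat.card (Subgroup.centralizer ({g} : Set G))

/-- the values of a list of characters at an element -/
abbrev Vals (L : List (IrrCharacter G)) (g : G) (V : List ℤ) : Prop :=
  List.Forall₂ (fun (χ : IrrCharacter G) (z : ℤ) => (χ : G → ℂ) g = (z : ℂ)) L V

/-- the degrees of a list of characters -/
noncomputable def degs (L : List (IrrCharacter G)) : List ℕ := L.map fun χ : IrrCharacter G => charDegree (χ : G → ℂ)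

theorem vals_one : ∀ L : List (IrrCharacter G), Vals L 1 ((degs L).map fun d : ℕ => (d : ℤ))
  | [] => List.Forall₂.nil
  | χ :: L => List.Forall₂.cons (val_one χ) (vals_one L)

theorem vals_append {L L' : List (IrrCharacter G)} {g : G} {V V' : List ℤ} (h : Vals L g V)
    (h' : Vals L' g V') : Vals (L ++ L') g (V ++ V') :=
  List.rel_append h h'

theorem lin_cast {p : ℕ} {g : G} : ∀ {L : List (IrrCharacter G)} {V : List ℤ}, Vals L g V →
    (lin p (degs L) V : ℂ) = (L.map fun χ : IrrCharacter G => (cfp p (charDegree (χ : G → ℂ)) : ℂ) * (χ : G → ℂ) g).sum := by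
  intro L V h
  induction h with
  | nil => simp [degs, lin]
  | @cons χ z L' V' hz _ ih =>
    simp only [degs, List.map_cons, lin, List.sum_cons, Int.cast_add, Int.cast_mul] at ih ⊢
    rw [ih, hz]

theorem dot_cast {g k : G} : ∀ {L : List (IrrCharacter G)} {V W : List ℤ}, Vals L g V → Vals L k W →
    (dot V W : ℂ) = (L.map fun χ : IrrCharacter G => (χ : G → ℂ) g * conj ((χ : G → ℂ) k)).sum := by
  intro L V W h
  induction h generalizing W with
  | nil => intro h'; cases h'; simp [dot]
  | @cons χ z L' V' hz _ ih =>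
    intro h'
    cases h' with
    | cons hw hr =>
      simp only [dot, List.map_cons, List.sum_cons, Int.cast_add, Int.cast_mul]
      rw [ih hr, hz, hw, map_intCast]

theorem pl_cast {p : ℕ} (hN : Nat.card G = 443520) {g k : G} : ∀ {L : List (IrrCharacter G)} {V W : List ℤ},
    Vals L g V → Vals L k W → (pl p (degs L) V W : ℂ) = (Nat.card G : ℂ) *
      (L.map fun χ : IrrCharacter G => (cfp p (charDegree (χ : G → ℂ)) : ℂ) *
        ((χ : G → ℂ) g * (χ : G → ℂ) k / (χ : G → ℂ) 1)).sum := by
  intro L V W h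
  induction h generalizing W with
  | nil => intro h'; cases h'; simp [degs, pl]
  | @cons χ z L' V' hz _ ih =>
    intro h'
    cases h' with
    | cons hw hr =>
      have hd : charDegree (χ : G → ℂ) ∣ 443520 := hN ▸ deg_dvd_card χ.2
      have hd0 : (charDegree (χ : G → ℂ) : ℂ) ≠ 0 := Nat.cast_ne_zero.2 (deg_pos χ.2).ne'
      have he : (((443520 / charDegree (χ : G → ℂ) : ℕ) : ℤ) : ℂ) =
          (Nat.card G : ℂ) / (charDegree (χ : G → ℂ) : ℂ) := by
        rw [hN, Int.cast_natCast, Nat.cast_div hd hd0]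
      simp only [degs, List.map_cons, pl, List.sum_cons, Int.cast_add, Int.cast_mul] at ih ⊢
      rw [ih hr, hz, hw, val_one, he, mul_add]
      push_cast
      ring

variable [IsSimpleGroup G]

theorem norm_sum_eq {g : G} {L : List (IrrCharacter G)} {V : List ℤ} (hL : L.Nodup) (h : Vals L g V) :
    open scoped Classical in ∑ χ ∈ L.toFinset, ‖(χ : G → ℂ) g‖ ^ 2 = (dot V V : ℝ) := by
  classical
  have h1 := dot_cast h h
  rw [← List.sum_toFinset _ hL] at h1
  simp only [Complex.mul_conj'] at h1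
  have h2 : (((∑ χ ∈ L.toFinset, ‖(χ : G → ℂ) g‖ ^ 2 : ℝ)) : ℂ) = ((dot V V : ℝ) : ℂ) := by
    push_cast
    exact h1.symm
  exact_mod_cast h2

/-- The squares of the values are bounded by the order of the centraliser. -/
theorem dot_le {g : G} {L : List (IrrCharacter G)} {V : List ℤ} (hL : L.Nodup) (h : Vals L g V) :
    dot V V ≤ (cc g : ℤ) := by
  classical
  have h1 := column_le g L.toFinset
  rw [norm_sum_eq hL h] at h1
  exact_mod_cast h1

/-- The bound from the orthogonality of two columns. -/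
theorem orth {g k : G} {L : List (IrrCharacter G)} {V W : List ℤ} (hL : L.Nodup) (h : Vals L g V)
    (h' : Vals L k W) (hne : ¬ IsConj g k) : orthOk (cc g) V (cc k) W = true := by
  classical
  have h0 := second_orth g k
  rw [if_neg hne, ← Finset.sum_add_sum_compl L.toFinset] at h0
  have hB := dot_cast h h'
  rw [← List.sum_toFinset _ hL] at hB
  rw [← hB] at h0
  have hR : (∑ χ ∈ L.toFinsetᶜ, (χ : G → ℂ) g * conj ((χ : G → ℂ) k)) = -(dot V W : ℂ) := by
    linear_combination h0
  have hn : |(dot V W : ℝ)| ≤ ∑ χ ∈ L.toFinsetᶜ, ‖(χ : G → ℂ) g‖ * ‖(χ : G → ℂ) k‖ := by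
    have := norm_sum_le L.toFinsetᶜ fun χ => (χ : G → ℂ) g * conj ((χ : G → ℂ) k)
    rw [hR, norm_neg, Complex.norm_intCast] at this
    simpa [norm_mul] using this
  have hcs := Finset.sum_mul_sq_le_sq_mul_sq L.toFinsetᶜ (fun χ => ‖(χ : G → ℂ) g‖) fun χ => ‖(χ : G → ℂ) k‖
  have hrest : ∀ x : G, ∀ U : List ℤ, Vals L x U →
      ∑ χ ∈ L.toFinsetᶜ, ‖(χ : G → ℂ) x‖ ^ 2 = (cc x : ℝ) - (dot U U : ℝ) := by
    intro x U hx
    rw [cc, ← column_eq x, ← Finset.sum_add_sum_compl L.toFinset, norm_sum_eq hL hx]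
    ring
  rw [hrest g V h, hrest k W h'] at hcs
  have h1 : (dot V W : ℝ) ^ 2 ≤ (∑ χ ∈ L.toFinsetᶜ, ‖(χ : G → ℂ) g‖ * ‖(χ : G → ℂ) k‖) ^ 2 := by
    rw [← sq_abs]
    exact pow_le_pow_left₀ (abs_nonneg _) hn 2
  have h2 := h1.trans hcs
  rw [sq] at h2
  simp only [orthOk, decide_eq_true_eq]
  exact_mod_cast h2

end Cfsg.Agent.MTwentyTwo.ByOrder
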