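import Cfsg.Agent.Lib.Spor.MTwentyTwoOrder.Arith

/-!
The certified data for the rows of degrees of the eleven-block of a group of the order of the Mathieu group
of degree twenty-two.
-/

set_option autoImplicit false

namespace Cfsg.Agent.MTwentyTwo.ByOrder

/-- data for the degrees [10, 10, 10, 45, 16] -/
def row0 : RowData :=
  ⟨[10, 10, 10, 45, 16], [(128, [2, -2, -2, -3, 0]), (128, [-2, 2, -2, -3, 0]), (128, [-2, -2, 2, -3, 0]), (384,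
    [2, -2, -2, -3, 0]), (384, [-2, 2, -2, -3, 0]), (384, [-2, -2, 2, -3, 0]), (896, [2, -2, -2, -3, 0]), (896,
    [-2, 2, -2, -3, 0]), (896, [-2, -2, 2, -3, 0]), (2688, [2, -2, -2, -3, 0]), (2688, [-2, 2, -2, -3, 0]),
    (2688, [-2, -2, 2, -3, 0])], [(5, [0, 0, 0, 0, 1]), (10, [0, 0, 0, 0, 1]), (30, [0, 0, 0, 0, 1]), (35, [0,
    0, 0, 0, 1]), (60, [0, 0, 0, 0, 1]), (105, [0, 0, 0, 0, 1]), (180, [0, 0, 0, 0, 1]), (210, [0, 0, 0, 0, 1]),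
    (280, [0, 0, 0, 0, 1]), (360, [0, 0, 0, 0, 1]), (630, [0, 0, 0, 0, 1]), (1260, [0, 0, 0, 0, 1])], [(56, [3,
    3, -4, 3, 2]), (56, [3, -4, 3, 3, 2]), (56, [-4, 3, 3, 3, 2]), (84, [3, 3, -4, 3, 2]), (84, [3, -4, 3, 3,
    2]), (84, [-4, 3, 3, 3, 2]), (672, [3, -4, -4, -18, -12]), (672, [-4, 3, -4, -18, -12]), (672, [-4, -4, 3,
    -18, -12])], [[(11, 1), (44, 1)], [(66, 1), (99, 1)], [(231, 1), (264, 1)]], [], none, none, (some [(9, [1,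
    1, -2, 0, 1]), (9, [1, -2, 1, 0, 1]), (9, [-2, 1, 1, 0, 1]), (18, [1, 1, 1, 0, -2]), (18, [1, 1, -2, 0, 1]),
    (18, [1, -2, 1, 0, 1]), (18, [-2, 1, 1, 0, 1]), (36, [1, 1, 1, 0, -2]), (144, [4, 1, 1, 9, 4]), (144, [1, 4,
    1, 9, 4]), (144, [1, 1, 4, 9, 4]), (252, [4, 1, 1, 9, 4]), (252, [1, 4, 1, 9, 4]), (252, [1, 1, 4, 9, 4]),
    (288, [4, 1, 1, 9, 4]), (288, [1, 4, 1, 9, 4]), (288, [1, 1, 4, 9, 4]), (504, [4, 1, 1, 9, 4]), (504, [1, 4,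
    1, 9, 4]), (504, [1, 1, 4, 9, 4]), (1008, [4, 1, 1, 9, 4]), (1008, [1, 4, 1, 9, 4]), (1008, [1, 1, 4, 9,
    4]), (1008, [-2, -8, -8, -27, -8]), (1008, [-8, -2, -8, -27, -8]), (1008, [-8, -8, -2, -27, -8]), (2016, [4,
    1, 1, 9, 4]), (2016, [1, 4, 1, 9, 4]), (2016, [1, 1, 4, 9, 4]), (2016, [-2, -8, -8, -27, -8]), (2016, [-8,
    -2, -8, -27, -8]), (2016, [-8, -8, -2, -27, -8]), (4032, [-2, -8, -8, -27, -8]), (4032, [-8, -2, -8, -27,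
    -8]), (4032, [-8, -8, -2, -27, -8])])⟩

/-- data for the degrees [10, 10, 12, 12, 5] -/
def row1 : RowData :=
  ⟨[10, 10, 12, 12, 5], [(128, [2, -2, 0, 0, 1]), (128, [-2, 2, 0, 0, 1]), (384, [2, -2, 0, 0, 1]), (384, [-2,
    2, 0, 0, 1]), (896, [2, -2, 0, 0, 1]), (896, [-2, 2, 0, 0, 1]), (1152, [2, -2, 0, 0, 1]), (1152, [-2, 2, 0,
    0, 1]), (2688, [2, -2, 0, 0, 1]), (2688, [-2, 2, 0, 0, 1]), (8064, [2, -2, 0, 0, 1]), (8064, [-2, 2, 0, 0,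
    1])], [(30, [0, 0, 2, -3, 0]), (30, [0, 0, -3, 2, 0]), (35, [0, 0, 2, -3, 0]), (35, [0, 0, -3, 2, 0]), (60,
    [0, 0, 2, -3, 0]), (60, [0, 0, -3, 2, 0]), (80, [0, 0, 2, -3, 0]), (80, [0, 0, -3, 2, 0]), (105, [0, 0, 2,
    -3, 0]), (105, [0, 0, -3, 2, 0]), (160, [0, 0, 7, -8, 0]), (160, [0, 0, 2, -3, 0]), (160, [0, 0, -3, 2, 0]),
    (160, [0, 0, -8, 7, 0]), (210, [0, 0, 7, -8, 0]), (210, [0, 0, 2, -3, 0]), (210, [0, 0, -3, 2, 0]), (210,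
    [0, 0, -8, 7, 0]), (280, [0, 0, 7, -8, 0]), (280, [0, 0, 2, -3, 0]), (280, [0, 0, -3, 2, 0]), (280, [0, 0,
    -8, 7, 0]), (480, [0, 0, 7, -8, 0]), (480, [0, 0, 2, -3, 0]), (480, [0, 0, -3, 2, 0]), (480, [0, 0, -8, 7,
    0]), (560, [0, 0, 7, -8, 0]), (560, [0, 0, 2, -3, 0]), (560, [0, 0, -3, 2, 0]), (560, [0, 0, -8, 7, 0]),
    (1680, [0, 0, 7, -8, 0]), (1680, [0, 0, 2, -3, 0]), (1680, [0, 0, -3, 2, 0]), (1680, [0, 0, -8, 7, 0]),
    (3360, [0, 0, 7, -8, 0]), (3360, [0, 0, 2, -3, 0]), (3360, [0, 0, -3, 2, 0]), (3360, [0, 0, -8, 7, 0])],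
    [(56, [3, 3, 5, -2, -2]), (56, [3, 3, -2, 5, -2]), (56, [3, -4, -2, -2, -2]), (56, [-4, 3, -2, -2, -2]),
    (84, [3, 3, 5, -2, -2]), (84, [3, 3, -2, 5, -2]), (84, [3, -4, -2, -2, -2]), (84, [-4, 3, -2, -2, -2]),
    (224, [3, 3, 5, -2, -2]), (224, [3, 3, -2, 5, -2]), (224, [3, -4, 5, -9, -2]), (224, [3, -4, -2, -2, -2]),
    (224, [3, -4, -9, 5, -2]), (224, [-4, 3, 5, -9, -2]), (224, [-4, 3, -2, -2, -2]), (224, [-4, 3, -9, 5, -2]),
    (224, [-4, -4, -2, -9, -2]), (224, [-4, -4, -9, -2, -2]), (448, [3, -4, -2, -2, -2]), (448, [-4, 3, -2, -2,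
    -2]), (672, [3, 3, 5, -2, -2]), (672, [3, 3, -2, 5, -2]), (672, [3, -4, 5, -9, -2]), (672, [3, -4, -2, -2,
    -2]), (672, [3, -4, -9, 5, -2]), (672, [-4, 3, 5, -9, -2]), (672, [-4, 3, -2, -2, -2]), (672, [-4, 3, -9, 5,
    -2]), (672, [-4, -4, -2, -9, -2]), (672, [-4, -4, -9, -2, -2])], [], [], (some []), none, none⟩

/-- data for the degrees [10, 10, 12, 21, 28] -/
def row2 : RowData :=
  ⟨[10, 10, 12, 21, 28], [], [], [], [], [], none, none, none⟩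

/-- data for the degrees [10, 10, 21, 32, 72] -/
def row3 : RowData :=
  ⟨[10, 10, 21, 32, 72], [], [], [], [], [], none, none, none⟩

/-- data for the degrees [10, 10, 21, 45, 5] -/
def row4 : RowData :=
  ⟨[10, 10, 21, 45, 5], [], [], [], [], [], none, none, none⟩

/-- data for the degrees [10, 10, 21, 56, 16] -/
def row5 : RowData :=
  ⟨[10, 10, 21, 56, 16], [], [], [], [], [], none, none, none⟩

/-- data for the degrees [10, 10, 21, 120, 160] -/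
def row6 : RowData :=
  ⟨[10, 10, 21, 120, 160], [], [], [], [], [], none, none, none⟩

/-- data for the degrees [10, 10, 21, 320, 280] -/
def row7 : RowData :=
  ⟨[10, 10, 21, 320, 280], [], [], [], [], [], none, none, none⟩

/-- data for the degrees [10, 10, 32, 45, 6] -/
def row8 : RowData :=
  ⟨[10, 10, 32, 45, 6], [], [], [], [], [], none, none, none⟩

/-- data for the degrees [10, 10, 32, 56, 5] -/
def row9 : RowData :=
  ⟨[10, 10, 32, 56, 5], [(128, [2, -2, 0, 0, 1]), (128, [-2, 2, 0, 0, 1]), (384, [2, -2, 0, 0, 1]), (384, [-2,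
    2, 0, 0, 1]), (896, [2, -2, 0, 0, 1]), (896, [-2, 2, 0, 0, 1]), (1152, [2, -2, 0, 0, 1]), (1152, [-2, 2, 0,
    0, 1]), (2688, [2, -2, 0, 0, 1]), (2688, [-2, 2, 0, 0, 1]), (8064, [2, -2, 0, 0, 1]), (8064, [-2, 2, 0, 0,
    1])], [(10, [0, 0, 2, 1, 0]), (30, [0, 0, 2, 1, 0]), (30, [0, 0, -3, -4, 0]), (60, [0, 0, 2, 1, 0]), (60,
    [0, 0, -3, -4, 0]), (180, [0, 0, 7, 6, 0]), (180, [0, 0, 2, 1, 0]), (180, [0, 0, -3, -4, 0]), (180, [0, 0,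
    -8, -9, 0]), (360, [0, 0, 12, 11, 0]), (360, [0, 0, 2, 1, 0]), (360, [0, 0, -8, -9, 0]), (630, [0, 0, -13,
    -14, 0]), (1260, [0, 0, 22, 21, 0]), (1260, [0, 0, -13, -14, 0])], [(56, [3, -4, 4, 0, -2]), (56, [-4, 3, 4,
    0, -2]), (84, [3, 3, -3, 0, -2]), (84, [3, -4, 4, 0, -2]), (84, [-4, 3, 4, 0, -2])], [], [], none, none,
    none⟩

/-- data for the degrees [10, 10, 120, 144, 5] -/
def row10 : RowData :=
  ⟨[10, 10, 120, 144, 5], [(128, [2, -2, 0, 0, 1]), (128, [-2, 2, 0, 0, 1]), (384, [2, -2, 0, 0, 1]), (384, [-2,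
    2, 0, 0, 1]), (896, [2, -2, 0, 0, 1]), (896, [-2, 2, 0, 0, 1]), (1152, [2, -2, 0, 0, 1]), (1152, [-2, 2, 0,
    0, 1]), (2688, [2, -2, 0, 0, 1]), (2688, [-2, 2, 0, 0, 1]), (8064, [2, -2, 0, 0, 1]), (8064, [-2, 2, 0, 0,
    1])], [(5, [0, 0, 0, -1, 0]), (10, [0, 0, 0, -1, 0]), (35, [0, 0, 0, -1, 0]), (280, [0, 0, 0, -1, 0])],
    [(56, [3, 3, 1, 4, -2]), (56, [3, -4, 1, -3, -2]), (56, [-4, 3, 1, -3, -2]), (84, [3, 3, -6, -3, -2]), (84,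
    [3, -4, 1, -3, -2]), (84, [-4, 3, 1, -3, -2]), (224, [3, -4, 8, 4, -2]), (224, [-4, 3, 8, 4, -2])], [[(11,
    1), (44, 1), (176, 1)], [(11, 1), (66, 1), (66, 1)], [(11, 1), (99, 1), (231, 1)], [(11, 1), (264, 1), (396,
    1)], [(44, 1), (44, 1), (231, 1)], [(66, 1), (99, 1), (176, 1)], [(66, 1), (154, 1), (231, 1)], [(99, 1),
    (154, 1), (396, 1)], [(176, 1), (231, 1), (264, 1)]], [], none, none, none⟩

/-- data for the degrees [10, 12, 12, 21, 6] -/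
def row11 : RowData :=
  ⟨[10, 12, 12, 21, 6], [], [], [], [], [], none, none, none⟩

/-- data for the degrees [10, 12, 12, 45, 60] -/
def row12 : RowData :=
  ⟨[10, 12, 12, 45, 60], [(128, [-6, 4, -4, -3, 4]), (128, [-6, -4, 4, -3, 4]), (128, [-6, -4, -4, -3, -4]),
    (384, [-2, 0, 0, 9, 12]), (384, [-6, 4, -4, -3, 4]), (384, [-6, -4, 4, -3, 4]), (384, [-6, -4, -4, -3, -4]),
    (896, [-2, 0, 0, 9, 12]), (896, [-6, 8, 4, -3, 16]), (896, [-6, 4, 8, -3, 16]), (896, [-6, 4, -4, -3, 4]),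
    (896, [-6, -4, 4, -3, 4]), (896, [-6, -4, -4, -3, -4]), (1152, [-2, 0, 0, 9, 12]), (2688, [2, 8, 4, 21,
    32]), (2688, [2, 4, 8, 21, 32]), (2688, [2, 4, 4, 21, 28]), (2688, [-2, 8, 8, 9, 28]), (2688, [-2, 0, 0, 9,
    12]), (2688, [-6, 8, 4, -3, 16]), (2688, [-6, 4, 8, -3, 16]), (2688, [-6, 4, -4, -3, 4]), (2688, [-6, -4, 4,
    -3, 4]), (2688, [-6, -4, -4, -3, -4]), (8064, [-2, 0, 0, 9, 12])], [(30, [0, 2, -3, 0, 0]), (30, [0, -3, 2,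
    0, 0]), (35, [0, 2, -3, 0, 0]), (35, [0, -3, 2, 0, 0]), (60, [0, 2, -3, 0, 0]), (60, [0, -3, 2, 0, 0]), (80,
    [0, 2, -3, 0, 0]), (80, [0, -3, 2, 0, 0]), (105, [0, 2, -3, 0, 0]), (105, [0, -3, 2, 0, 0]), (160, [0, 7,
    -8, 0, 0]), (160, [0, 2, -3, 0, 0]), (160, [0, -3, 2, 0, 0]), (160, [0, -8, 7, 0, 0]), (210, [0, 7, -8, 0,
    0]), (210, [0, 2, -3, 0, 0]), (210, [0, -3, 2, 0, 0]), (210, [0, -8, 7, 0, 0]), (280, [0, 7, -8, 0, 0]),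
    (280, [0, 2, -3, 0, 0]), (280, [0, -3, 2, 0, 0]), (280, [0, -8, 7, 0, 0]), (480, [0, 7, -8, 0, 0]), (480,
    [0, 2, -3, 0, 0]), (480, [0, -3, 2, 0, 0]), (480, [0, -8, 7, 0, 0]), (560, [0, 7, -8, 0, 0]), (560, [0, 2,
    -3, 0, 0]), (560, [0, -3, 2, 0, 0]), (560, [0, -8, 7, 0, 0]), (1680, [0, 7, -8, 0, 0]), (1680, [0, 2, -3, 0,
    0]), (1680, [0, -3, 2, 0, 0]), (1680, [0, -8, 7, 0, 0]), (3360, [0, 7, -8, 0, 0]), (3360, [0, 2, -3, 0, 0]),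
    (3360, [0, -3, 2, 0, 0]), (3360, [0, -8, 7, 0, 0])], [(56, [3, -2, -2, 3, -3]), (84, [3, 5, -2, 3, 4]), (84,
    [3, -2, 5, 3, 4]), (84, [3, -2, -2, 3, -3]), (84, [-4, -2, -2, 3, 4]), (224, [3, 5, 5, -4, 4]), (224, [3, 5,
    5, -11, -3]), (224, [3, 5, -2, 3, 4]), (224, [3, 5, -2, -4, -3]), (224, [3, 5, -9, 3, -3]), (224, [3, -2, 5,
    3, 4]), (224, [3, -2, 5, -4, -3]), (224, [3, -2, -2, 10, 4]), (224, [3, -2, -2, 3, -3]), (224, [3, -2, -9,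
    10, -3]), (224, [3, -9, 5, 3, -3]), (224, [3, -9, -2, 10, -3]), (224, [-4, 5, 5, -11, 4]), (224, [-4, 5, -2,
    -4, 4]), (224, [-4, 5, -2, -11, -3]), (224, [-4, 5, -9, 3, 4]), (224, [-4, 5, -9, -4, -3]), (224, [-4, -2,
    5, -4, 4]), (224, [-4, -2, 5, -11, -3]), (224, [-4, -2, -2, 3, 4]), (224, [-4, -2, -2, -4, -3]), (224, [-4,
    -2, -9, 3, -3]), (224, [-4, -9, 5, 3, 4]), (224, [-4, -9, 5, -4, -3]), (224, [-4, -9, -2, 3, -3]), (448, [3,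
    -2, -2, 10, 4]), (448, [3, -2, -2, -4, -10]), (448, [-4, -2, -2, 3, 4]), (448, [-4, -2, -2, -11, -10]),
    (672, [3, 5, 5, 3, 11]), (672, [3, 5, 5, -18, -10]), (672, [3, 5, -2, 3, 4]), (672, [3, 5, -9, 3, -3]),
    (672, [3, -2, 5, 3, 4]), (672, [3, -2, -2, 3, -3]), (672, [3, -2, -9, 3, -10]), (672, [3, -9, 5, 3, -3]),
    (672, [3, -9, -2, 3, -10]), (672, [-4, 5, 5, -18, -3]), (672, [-4, 5, -2, 3, 11]), (672, [-4, 5, -2, -18,
    -10]), (672, [-4, 5, -9, 3, 4]), (672, [-4, -2, 5, 3, 11]), (672, [-4, -2, 5, -18, -10]), (672, [-4, -2, -2,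
    3, 4]), (672, [-4, -2, -9, 3, -3]), (672, [-4, -9, 5, 3, 4]), (672, [-4, -9, -2, 3, -3]), (672, [-4, -9, -9,
    3, -10])], [], [], (some []), none, none⟩

/-- data for the degrees [10, 12, 12, 120, 105] -/
def row13 : RowData :=
  ⟨[10, 12, 12, 120, 105], [(384, [-6, 4, 4, 8, -7]), (384, [-6, -4, -4, -8, -7]), (896, [-6, 4, 4, 8, -7]),
    (896, [-6, -4, -4, -8, -7]), (2688, [-2, 0, 0, 24, 21]), (2688, [-6, 4, 4, 8, -7]), (2688, [-6, -4, -4, -8,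
    -7]), (8064, [-2, 0, 0, 24, 21])], [(30, [0, 2, -3, 0, 0]), (30, [0, -3, 2, 0, 0]), (35, [0, 2, -3, 0, 0]),
    (35, [0, -3, 2, 0, 0]), (60, [0, 2, -3, 0, 0]), (60, [0, -3, 2, 0, 0]), (80, [0, 2, -3, 0, 0]), (80, [0, -3,
    2, 0, 0]), (105, [0, 2, -3, 0, 0]), (105, [0, -3, 2, 0, 0]), (160, [0, 7, -8, 0, 0]), (160, [0, 2, -3, 0,
    0]), (160, [0, -3, 2, 0, 0]), (160, [0, -8, 7, 0, 0]), (210, [0, 7, -8, 0, 0]), (210, [0, 2, -3, 0, 0]),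
    (210, [0, -3, 2, 0, 0]), (210, [0, -8, 7, 0, 0]), (280, [0, 7, -8, 0, 0]), (280, [0, 2, -3, 0, 0]), (280,
    [0, -3, 2, 0, 0]), (280, [0, -8, 7, 0, 0]), (480, [0, 7, -8, 0, 0]), (480, [0, 2, -3, 0, 0]), (480, [0, -3,
    2, 0, 0]), (480, [0, -8, 7, 0, 0]), (560, [0, 7, -8, 0, 0]), (560, [0, 2, -3, 0, 0]), (560, [0, -3, 2, 0,
    0]), (560, [0, -8, 7, 0, 0]), (1680, [0, 7, -8, 0, 0]), (1680, [0, 2, -3, 0, 0]), (1680, [0, -3, 2, 0, 0]),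
    (1680, [0, -8, 7, 0, 0]), (3360, [0, 7, -8, 0, 0]), (3360, [0, 2, -3, 0, 0]), (3360, [0, -3, 2, 0, 0]),
    (3360, [0, -8, 7, 0, 0])], [(28, [-4, -2, -2, 1, 0]), (56, [3, 5, -2, 1, 0]), (56, [3, -2, 5, 1, 0]), (56,
    [3, -2, -2, -6, 0]), (56, [-4, -2, -2, 1, 0]), (84, [3, 5, -2, 1, 0]), (84, [3, -2, 5, 1, 0]), (84, [3, -2,
    -2, -6, 0]), (84, [-4, -2, -2, 1, 0]), (224, [3, 5, 5, 8, 0]), (224, [3, 5, -9, -6, 0]), (224, [3, -2, -2,
    -6, 0]), (224, [3, -9, 5, -6, 0]), (224, [-4, 5, -2, 8, 0]), (224, [-4, -2, 5, 8, 0]), (224, [-4, -2, -9,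
    -6, 0]), (224, [-4, -9, -2, -6, 0]), (672, [3, 5, 5, 8, 0]), (672, [3, 5, -9, -6, 0]), (672, [3, -2, -2, -6,
    0]), (672, [3, -9, 5, -6, 0]), (672, [3, -9, -9, -20, 0]), (672, [-4, 5, -2, 8, 0]), (672, [-4, -2, 5, 8,
    0]), (672, [-4, -2, -9, -6, 0]), (672, [-4, -9, -2, -6, 0])], [], [], (some []), none, none⟩

/-- data for the degrees [10, 12, 21, 144, 126] -/
def row14 : RowData :=
  ⟨[10, 12, 21, 144, 126], [], [], [], [], [], none, none, none⟩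

/-- data for the degrees [10, 12, 21, 210, 192] -/
def row15 : RowData :=
  ⟨[10, 12, 21, 210, 192], [], [], [], [], [], none, none, none⟩

/-- data for the degrees [10, 12, 32, 45, 16] -/
def row16 : RowData :=
  ⟨[10, 12, 32, 45, 16], [], [], [], [], [], none, none, none⟩

/-- data for the degrees [10, 12, 45, 120, 72] -/
def row17 : RowData :=
  ⟨[10, 12, 45, 120, 72], [(384, [6, 4, 9, 8, 0]), (896, [6, 4, 9, 8, 0]), (2688, [6, 4, 9, 32, 24]), (2688, [6,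
    4, 9, 8, 0]), (2688, [-6, 4, 21, 32, 0])], [(30, [0, 2, 0, 0, -3]), (35, [0, 2, 0, 0, -3]), (35, [0, -3, 0,
    0, 2]), (60, [0, 2, 0, 0, -3]), (80, [0, 2, 0, 0, -3]), (80, [0, -3, 0, 0, 2]), (105, [0, 2, 0, 0, -3]),
    (160, [0, -3, 0, 0, 2]), (210, [0, 2, 0, 0, -3]), (280, [0, 7, 0, 0, -8]), (280, [0, 2, 0, 0, -3]), (280,
    [0, -3, 0, 0, 2]), (280, [0, -8, 0, 0, 7]), (560, [0, 7, 0, 0, -8]), (560, [0, 2, 0, 0, -3]), (560, [0, -3,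
    0, 0, 2]), (560, [0, -8, 0, 0, 7]), (1680, [0, 2, 0, 0, -3])], [(56, [3, -2, 3, 1, 2]), (56, [-4, -2, -4, 1,
    2]), (224, [3, 5, 3, 8, 2]), (224, [3, 5, -11, -6, 2]), (224, [3, -2, 10, 8, 2]), (224, [3, -2, -4, -6, 2]),
    (224, [3, -9, 3, -6, 2]), (224, [-4, 5, -4, 8, 2]), (224, [-4, -2, 3, 8, 2]), (224, [-4, -2, -11, -6, 2]),
    (224, [-4, -9, -4, -6, 2]), (672, [3, 5, 3, -6, -12]), (672, [-4, -2, 3, -6, -12])], [], [], (some []),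
    none, none⟩

/-- data for the degrees [10, 12, 45, 144, 192] -/
def row18 : RowData :=
  ⟨[10, 12, 45, 144, 192], [], [], [], [], [], none, none, none⟩

/-- data for the degrees [10, 12, 45, 384, 336] -/
def row19 : RowData :=
  ⟨[10, 12, 45, 384, 336], [], [], [], [], [], none, none, none⟩

/-- data for the degrees [10, 12, 144, 252, 105] -/
def row20 : RowData :=
  ⟨[10, 12, 144, 252, 105], [], [], [], [], [], none, none, none⟩

/-- data for the degrees [10, 21, 21, 21, 72] -/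
def row21 : RowData :=
  ⟨[10, 21, 21, 21, 72], [], [], [], [], [], none, none, none⟩

/-- data for the degrees [10, 21, 21, 45, 6] -/
def row22 : RowData :=
  ⟨[10, 21, 21, 45, 6], [], [], [], [], [], none, none, none⟩

/-- data for the degrees [10, 21, 21, 56, 5] -/
def row23 : RowData :=
  ⟨[10, 21, 21, 56, 5], [], [], [], [], [], none, none, none⟩

/-- data for the degrees [10, 21, 32, 56, 6] -/
def row24 : RowData :=
  ⟨[10, 21, 32, 56, 6], [], [], [], [], [], none, none, none⟩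

/-- data for the degrees [10, 21, 45, 45, 60] -/
def row25 : RowData :=
  ⟨[10, 21, 45, 45, 60], [(384, [-6, -7, -3, -15, -4]), (384, [-6, -7, -15, -3, -4]), (896, [-6, -7, -3, -15,
    -4]), (896, [-6, -7, -15, -3, -4]), (2688, [-6, -7, -3, -15, -4]), (2688, [-6, -7, -15, -3, -4])], [(5, [0,
    1, 0, 0, 0]), (10, [0, 1, 0, 0, 0]), (30, [0, 1, 0, 0, 0]), (60, [0, 1, 0, 0, 0]), (80, [0, 1, 0, 0, 0]),
    (160, [0, 1, 0, 0, 0]), (480, [0, 1, 0, 0, 0]), (960, [0, 1, 0, 0, 0])], [(56, [3, 0, 3, -4, -3]), (56, [3,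
    0, -4, 3, -3]), (84, [3, 0, 3, 3, 4]), (224, [3, 0, 10, -4, 4]), (224, [3, 0, 3, 3, 4]), (224, [3, 0, 3, -4,
    -3]), (224, [3, 0, -4, 10, 4]), (224, [3, 0, -4, 3, -3]), (224, [-4, 0, 3, -4, 4]), (224, [-4, 0, 3, -11,
    -3]), (224, [-4, 0, -4, 3, 4]), (224, [-4, 0, -4, -4, -3]), (224, [-4, 0, -11, 3, -3]), (448, [3, 0, 10, -4,
    4]), (448, [3, 0, 3, 3, 4]), (448, [3, 0, 3, -11, -10]), (448, [3, 0, -4, 10, 4]), (448, [3, 0, -4, -4,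
    -10]), (448, [3, 0, -11, 3, -10]), (448, [-4, 0, 10, -11, 4]), (448, [-4, 0, 3, -4, 4]), (448, [-4, 0, -4,
    3, 4]), (448, [-4, 0, -4, -11, -10]), (448, [-4, 0, -11, 10, 4]), (448, [-4, 0, -11, -4, -10]), (672, [3, 0,
    3, 3, 4]), (672, [-4, 0, 3, 3, 11]), (672, [-4, 0, 3, -18, -10]), (672, [-4, 0, -18, 3, -10])], [[(11, 1),
    (11, 1), (44, 1)], [(11, 1), (66, 1), (99, 1)], [(11, 1), (231, 1), (264, 1)], [(44, 1), (44, 1), (66, 1)],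
    [(44, 1), (154, 1), (176, 1)], [(66, 1), (66, 1), (154, 1)], [(66, 1), (176, 1), (264, 1)], [(99, 1), (99,
    1), (176, 1)], [(99, 1), (154, 1), (231, 1)], [(154, 1), (264, 1), (396, 1)]], [], (some []), none, none⟩

/-- data for the degrees [10, 21, 45, 120, 105] -/
def row26 : RowData :=
  ⟨[10, 21, 45, 120, 105], [(384, [2, -7, 9, 8, -7]), (896, [2, -7, 9, 8, -7]), (896, [-6, -7, -15, -8, -7]),
    (2688, [2, -7, 9, 8, -7]), (2688, [-6, -7, -15, -8, -7])], [(5, [0, 1, 0, 0, 0]), (10, [0, 1, 0, 0, 0]),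
    (30, [0, 1, 0, 0, 0]), (60, [0, 1, 0, 0, 0]), (80, [0, 1, 0, 0, 0]), (160, [0, 1, 0, 0, 0]), (480, [0, 1, 0,
    0, 0]), (960, [0, 1, 0, 0, 0])], [(28, [3, 0, 3, 1, 0]), (56, [3, 0, 3, 1, 0]), (56, [-4, 0, -4, 1, 0]),
    (84, [3, 0, 3, 1, 0]), (224, [3, 0, 10, 8, 0]), (224, [3, 0, -4, -6, 0]), (224, [-4, 0, 3, 8, 0]), (224,
    [-4, 0, -11, -6, 0]), (448, [3, 0, 10, 8, 0]), (448, [-4, 0, 3, 8, 0]), (672, [-4, 0, 3, 8, 0])], [[(11, 1),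
    (11, 1), (44, 1)], [(11, 1), (66, 1), (99, 1)], [(11, 1), (231, 1), (264, 1)], [(44, 1), (44, 1), (66, 1)],
    [(44, 1), (154, 1), (176, 1)], [(66, 1), (66, 1), (154, 1)], [(66, 1), (176, 1), (264, 1)], [(99, 1), (99,
    1), (176, 1)], [(99, 1), (154, 1), (231, 1)], [(154, 1), (264, 1), (396, 1)]], [], (some []), none, (some
    [(9, [1, 0, 0, 0, 0]), (18, [1, 0, 0, 0, 0]), (36, [1, 0, 0, 0, 0]), (72, [1, 3, 0, -6, -3]), (72, [1, 0, 0,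
    0, 0]), (72, [1, -3, 0, 6, 3]), (72, [-2, 0, 0, 6, 3]), (144, [-2, -3, 0, 0, -6]), (144, [-2, -3, -9, 0,
    3]), (252, [4, 0, -9, -12, 0]), (288, [4, 0, -9, -12, 0]), (288, [-2, -3, -9, 0, 3]), (504, [4, 0, -9, -12,
    0]), (576, [4, 0, -9, -12, 0]), (1008, [4, 0, -9, -12, 0]), (2016, [4, 0, -9, -12, 0]), (2016, [-2, 0, 0,
    24, 21]), (4032, [4, 0, 18, 36, 21]), (4032, [4, 0, -9, -12, 0]), (4032, [-2, 0, 0, 24, 21]), (4032, [-8, 0,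
    27, 36, 0]), (8064, [-2, 0, 0, 24, 21]), (8064, [-2, 0, -9, -48, -42])])⟩

/-- data for the degrees [10, 21, 120, 144, 6] -/
def row27 : RowData :=
  ⟨[10, 21, 120, 144, 6], [], [], [], [], [], none, none, none⟩

/-- data for the degrees [10, 21, 120, 210, 60] -/
def row28 : RowData :=
  ⟨[10, 21, 120, 210, 60], [], [], [], [], [], none, none, none⟩

/-- data for the degrees [10, 21, 210, 252, 72] -/
def row29 : RowData :=
  ⟨[10, 21, 210, 252, 72], [], [], [], [], [], none, none, none⟩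

/-- data for the degrees [10, 32, 32, 32, 105] -/
def row30 : RowData :=
  ⟨[10, 32, 32, 32, 105], [], [], [], [], [], none, none, none⟩

/-- data for the degrees [10, 32, 32, 45, 28] -/
def row31 : RowData :=
  ⟨[10, 32, 32, 45, 28], [], [], [], [], [], none, none, none⟩

/-- data for the degrees [10, 32, 45, 56, 60] -/
def row32 : RowData :=
  ⟨[10, 32, 45, 56, 60], [(384, [-2, 0, 9, 0, 12]), (896, [-2, 0, 9, 0, 12]), (1152, [-2, 0, 9, 0, 12]), (2688,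
    [-2, 0, 9, 0, 12]), (8064, [-2, 0, 9, 0, 12])], [(10, [0, 2, 0, 1, 0]), (30, [0, 2, 0, 1, 0]), (30, [0, -3,
    0, -4, 0]), (60, [0, 2, 0, 1, 0]), (60, [0, -3, 0, -4, 0]), (180, [0, 7, 0, 6, 0]), (180, [0, 2, 0, 1, 0]),
    (180, [0, -3, 0, -4, 0]), (180, [0, -8, 0, -9, 0]), (360, [0, 12, 0, 11, 0]), (360, [0, 2, 0, 1, 0]), (360,
    [0, -8, 0, -9, 0]), (630, [0, -13, 0, -14, 0]), (1260, [0, 22, 0, 21, 0]), (1260, [0, -13, 0, -14, 0])],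
    [(56, [3, 4, 3, 0, -3]), (84, [3, 4, 3, 0, -3]), (84, [3, -3, 3, 0, 4]), (84, [-4, 4, 3, 0, 4])], [], [],
    none, none, none⟩

/-- data for the degrees [10, 32, 56, 120, 105] -/
def row33 : RowData :=
  ⟨[10, 32, 56, 120, 105], [(2688, [-2, 0, 0, 24, 21]), (8064, [-2, 0, 0, 24, 21])], [(10, [0, 2, 1, 0, 0]),
    (30, [0, 2, 1, 0, 0]), (30, [0, -3, -4, 0, 0]), (60, [0, 2, 1, 0, 0]), (60, [0, -3, -4, 0, 0]), (180, [0, 7,
    6, 0, 0]), (180, [0, 2, 1, 0, 0]), (180, [0, -3, -4, 0, 0]), (180, [0, -8, -9, 0, 0]), (360, [0, 12, 11, 0,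
    0]), (360, [0, 2, 1, 0, 0]), (360, [0, -8, -9, 0, 0]), (630, [0, -13, -14, 0, 0]), (1260, [0, 22, 21, 0,
    0]), (1260, [0, -13, -14, 0, 0])], [(28, [3, -3, 0, 1, 0]), (56, [-4, 4, 0, 1, 0]), (84, [3, 4, 0, -6, 0]),
    (84, [3, -3, 0, 1, 0]), (84, [-4, 4, 0, 1, 0])], [], [], none, none, none⟩

/-- data for the degrees [10, 32, 320, 384, 105] -/
def row34 : RowData :=
  ⟨[10, 32, 320, 384, 105], [], [], [], [], [], none, none, none⟩

/-- data for the degrees [10, 45, 45, 45, 126] -/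
def row35 : RowData :=
  ⟨[10, 45, 45, 45, 126], [(896, [-6, 13, -3, -3, 14]), (896, [-6, -3, 13, -3, 14]), (896, [-6, -3, -3, 13,
    14])], [(5, [0, 0, 0, 0, 1]), (10, [0, 0, 0, 0, 1]), (80, [0, 0, 0, 0, 1]), (160, [0, 0, 0, 0, 1])], [(56,
    [3, 3, 3, -4, 0]), (56, [3, 3, -4, 3, 0]), (56, [3, -4, 3, 3, 0]), (224, [3, 10, -4, -4, 0]), (224, [3, 3,
    3, -4, 0]), (224, [3, 3, -4, 3, 0]), (224, [3, -4, 10, -4, 0]), (224, [3, -4, 3, 3, 0]), (224, [3, -4, -4,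
    10, 0]), (224, [-4, 3, 3, -11, 0]), (224, [-4, 3, -4, -4, 0]), (224, [-4, 3, -11, 3, 0]), (224, [-4, -4, 3,
    -4, 0]), (224, [-4, -4, -4, 3, 0]), (224, [-4, -11, 3, 3, 0]), (448, [3, 17, -4, -11, 0]), (448, [3, 17,
    -11, -4, 0]), (448, [3, 10, 3, -11, 0]), (448, [3, 10, -4, -4, 0]), (448, [3, 10, -11, 3, 0]), (448, [3, 3,
    10, -11, 0]), (448, [3, 3, 3, -4, 0]), (448, [3, 3, -4, 3, 0]), (448, [3, 3, -11, 10, 0]), (448, [3, -4, 17,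
    -11, 0]), (448, [3, -4, 10, -4, 0]), (448, [3, -4, 3, 3, 0]), (448, [3, -4, -4, 10, 0]), (448, [3, -4, -11,
    17, 0]), (448, [3, -11, 17, -4, 0]), (448, [3, -11, 10, 3, 0]), (448, [3, -11, 3, 10, 0]), (448, [3, -11,
    -4, 17, 0]), (448, [-4, 10, -4, -11, 0]), (448, [-4, 10, -11, -4, 0]), (448, [-4, 3, 3, -11, 0]), (448, [-4,
    3, -4, -4, 0]), (448, [-4, 3, -11, 3, 0]), (448, [-4, -4, 10, -11, 0]), (448, [-4, -4, 3, -4, 0]), (448,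
    [-4, -4, -4, 3, 0]), (448, [-4, -4, -11, 10, 0]), (448, [-4, -11, 10, -4, 0]), (448, [-4, -11, 3, 3, 0]),
    (448, [-4, -11, -4, 10, 0])], [[(11, 1), (264, 1)], [(99, 1), (154, 1)]], [], (some []), none, none⟩

/-- data for the degrees [10, 45, 56, 120, 28] -/
def row36 : RowData :=
  ⟨[10, 45, 56, 120, 28], [], [], [], [], [], none, none, none⟩

/-- data for the degrees [10, 45, 56, 252, 160] -/
def row37 : RowData :=
  ⟨[10, 45, 56, 252, 160], [], [], [], [], [], none, none, none⟩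

/-- data for the degrees [10, 45, 120, 144, 60] -/
def row38 : RowData :=
  ⟨[10, 45, 120, 144, 60], [(128, [2, -3, -8, 0, 4]), (384, [2, -3, -8, 0, 4]), (384, [-2, 9, 16, 0, -4]), (384,
    [-2, 9, 0, 0, 12]), (896, [6, -7, 0, 16, 4]), (896, [6, -15, -16, 0, -4]), (896, [2, 5, 8, 16, 12]), (896,
    [2, -3, -8, 0, 4]), (896, [-2, 9, 16, 0, -4]), (896, [-2, 9, 0, 0, 12]), (896, [-2, 1, 16, 16, 4]), (896,
    [-2, 1, 0, -16, -12]), (896, [-2, 1, -16, -16, 4]), (896, [-6, 13, -8, -16, 12]), (1152, [-2, 9, 0, 0, 12]),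
    (2688, [6, -15, -16, 0, -4]), (2688, [2, -3, -8, 0, 4]), (2688, [-2, 9, 16, 0, -4]), (2688, [-2, 9, 0, 0,
    12]), (2688, [-6, 21, 8, 0, 20]), (2688, [-6, -27, 8, 0, -28]), (8064, [-2, 9, 0, 0, 12])], [(5, [0, 0, 0,
    -1, 0]), (10, [0, 0, 0, -1, 0]), (35, [0, 0, 0, -1, 0]), (280, [0, 0, 0, -1, 0])], [(56, [3, 3, 1, -3, -3]),
    (84, [3, 3, 1, -3, -3]), (84, [-4, 3, 1, -3, 4]), (224, [3, 10, 8, 4, 4]), (224, [3, 3, 8, 4, -3]), (224,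
    [3, -4, -6, 4, 4]), (224, [3, -11, -6, 4, -3]), (224, [-4, 3, 8, 4, 4]), (224, [-4, -4, 8, 4, -3]), (224,
    [-4, -11, -6, 4, 4])], [[(11, 1), (44, 1), (176, 1)], [(11, 1), (66, 1), (66, 1)], [(11, 1), (99, 1), (231,
    1)], [(11, 1), (264, 1), (396, 1)], [(44, 1), (44, 1), (231, 1)], [(66, 1), (99, 1), (176, 1)], [(66, 1),
    (154, 1), (231, 1)], [(99, 1), (154, 1), (396, 1)], [(176, 1), (231, 1), (264, 1)]], [], (some []), none,
    none⟩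

/-- data for the degrees [10, 45, 120, 210, 126] -/
def row39 : RowData :=
  ⟨[10, 45, 120, 210, 126], [(384, [2, -3, -8, 2, 6]), (384, [-2, -3, 8, 2, -6]), (384, [-2, -3, -8, -2, 6]),
    (896, [6, 13, 8, 14, 14]), (896, [6, 13, 8, -14, -14]), (896, [2, 1, 0, 14, 14]), (896, [2, 1, 0, -14,
    -14]), (896, [-2, 5, 8, 14, 14]), (896, [-2, 5, 8, -14, -14]), (896, [-6, 13, -8, -14, 14]), (1152, [-2, 9,
    0, 6, 18])], [(5, [0, 0, 0, 0, 1]), (10, [0, 0, 0, 0, 1]), (80, [0, 0, 0, 0, 1]), (160, [0, 0, 0, 0, 1])],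
    [(28, [3, 3, 1, 0, 0]), (56, [3, 3, 1, 0, 0]), (56, [-4, -4, 1, 0, 0]), (84, [3, 3, 1, 0, 0]), (224, [3, 10,
    8, 0, 0]), (224, [3, -4, -6, 0, 0]), (224, [-4, 3, 8, 0, 0]), (224, [-4, -11, -6, 0, 0]), (448, [3, 10, 8,
    0, 0]), (448, [-4, 3, 8, 0, 0]), (672, [-4, 3, 8, 0, 0])], [[(11, 1), (264, 1)], [(99, 1), (154, 1)]], [],
    (some []), none, none⟩

/-- data for the degrees [10, 45, 120, 252, 336] -/
def row40 : RowData :=
  ⟨[10, 45, 120, 252, 336], [], [], [], [], [], none, none, none⟩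

/-- data for the degrees [10, 45, 144, 252, 72] -/
def row41 : RowData :=
  ⟨[10, 45, 144, 252, 72], [], [], [], [], [], none, none, none⟩

/-- data for the degrees [10, 45, 210, 252, 6] -/
def row42 : RowData :=
  ⟨[10, 45, 210, 252, 6], [], [], [], [], [], none, none, none⟩

/-- data for the degrees [10, 45, 320, 384, 28] -/
def row43 : RowData :=
  ⟨[10, 45, 320, 384, 28], [], [], [], [], [], none, none, none⟩

/-- data for the degrees [10, 56, 210, 252, 5] -/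
def row44 : RowData :=
  ⟨[10, 56, 210, 252, 5], [], [], [], [], [], none, none, none⟩

/-- data for the degrees [10, 120, 120, 144, 105] -/
def row45 : RowData :=
  ⟨[10, 120, 120, 144, 105], [(2688, [-2, 24, 0, 0, 21]), (2688, [-2, 0, 24, 0, 21]), (8064, [-2, 24, 0, 0,
    21]), (8064, [-2, 0, 24, 0, 21])], [(5, [0, 0, 0, -1, 0]), (10, [0, 0, 0, -1, 0]), (35, [0, 0, 0, -1, 0]),
    (280, [0, 0, 0, -1, 0])], [(28, [3, 1, 1, 4, 0]), (28, [-4, 1, 1, -3, 0]), (56, [3, 1, 1, 4, 0]), (56, [3,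
    1, -6, -3, 0]), (56, [3, -6, 1, -3, 0]), (56, [-4, 1, 1, -3, 0]), (84, [3, 1, -6, -3, 0]), (84, [3, -6, 1,
    -3, 0]), (84, [-4, 1, 1, -3, 0]), (224, [3, 8, -6, 4, 0]), (224, [3, -6, 8, 4, 0])], [[(11, 1), (44, 1),
    (176, 1)], [(11, 1), (66, 1), (66, 1)], [(11, 1), (99, 1), (231, 1)], [(11, 1), (264, 1), (396, 1)], [(44,
    1), (44, 1), (231, 1)], [(66, 1), (99, 1), (176, 1)], [(66, 1), (154, 1), (231, 1)], [(99, 1), (154, 1),
    (396, 1)], [(176, 1), (231, 1), (264, 1)]], [], none, none, none⟩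

/-- data for the degrees [10, 144, 144, 384, 105] -/
def row46 : RowData :=
  ⟨[10, 144, 144, 384, 105], [], [], [], [], [], none, none, none⟩

/-- data for the degrees [12, 12, 12, 21, 16] -/
def row47 : RowData :=
  ⟨[12, 12, 12, 21, 16], [], [], [], [], [], none, none, none⟩

/-- data for the degrees [12, 12, 12, 32, 5] -/
def row48 : RowData :=
  ⟨[12, 12, 12, 32, 5], [], [], [], [], [], none, none, none⟩

/-- data for the degrees [12, 12, 21, 32, 28] -/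
def row49 : RowData :=
  ⟨[12, 12, 21, 32, 28], [], [], [], [], [], none, none, none⟩

/-- data for the degrees [12, 12, 21, 56, 60] -/
def row50 : RowData :=
  ⟨[12, 12, 21, 56, 60], [], [], [], [], [], none, none, none⟩

/-- data for the degrees [12, 12, 45, 56, 126] -/
def row51 : RowData :=
  ⟨[12, 12, 45, 56, 126], [], [], [], [], [], none, none, none⟩

/-- data for the degrees [12, 12, 45, 210, 280] -/
def row52 : RowData :=
  ⟨[12, 12, 45, 210, 280], [], [], [], [], [], none, none, none⟩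

/-- data for the degrees [12, 21, 21, 45, 16] -/
def row53 : RowData :=
  ⟨[12, 21, 21, 45, 16], [], [], [], [], [], none, none, none⟩

/-- data for the degrees [12, 21, 32, 32, 72] -/
def row54 : RowData :=
  ⟨[12, 21, 32, 32, 72], [], [], [], [], [], none, none, none⟩

/-- data for the degrees [12, 21, 32, 45, 5] -/
def row55 : RowData :=
  ⟨[12, 21, 32, 45, 5], [(128, [-4, -7, 0, -3, 1]), (384, [-4, -7, 0, -3, 1]), (896, [-4, -7, 0, -3, 1]), (2688,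
    [-4, -7, 0, -3, 1])], [(10, [2, 1, 2, 0, 0]), (30, [2, 1, 2, 0, 0]), (30, [-3, 1, -3, 0, 0]), (30, [-3, -4,
    2, 0, 0]), (60, [2, 6, -3, 0, 0]), (60, [2, 1, 2, 0, 0]), (60, [-3, 1, -3, 0, 0]), (60, [-3, -4, 2, 0, 0]),
    (160, [-3, 6, -8, 0, 0]), (160, [-8, 1, -8, 0, 0]), (180, [-3, 6, -8, 0, 0]), (180, [-3, -9, 7, 0, 0]),
    (360, [-3, 6, -8, 0, 0]), (480, [7, 16, -8, 0, 0]), (480, [2, 11, -8, 0, 0]), (480, [-3, 6, -8, 0, 0]),
    (480, [-8, 1, -8, 0, 0]), (560, [-3, -14, 12, 0, 0]), (1680, [-3, -14, 12, 0, 0])], [(56, [-2, 0, 4, 3,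
    -2]), (84, [-2, 0, 4, 3, -2])], [], [], none, (some [(84, [-4, -7, 0, -3, 1]), (112, [-4, -7, 0, -3, 1]),
    (168, [-4, -7, 0, -3, 1]), (224, [-4, -7, 0, -3, 1]), (336, [-4, -7, 0, -3, 1]), (448, [-4, -7, 0, -3, 1]),
    (672, [-4, -7, 0, -3, 1]), (896, [-4, -7, 0, -3, 1]), (1344, [-4, -7, 0, -3, 1]), (2688, [-4, -7, 0, -3,
    1])]), none⟩

/-- data for the degrees [12, 21, 32, 56, 16] -/
def row56 : RowData :=
  ⟨[12, 21, 32, 56, 16], [], [], [], [], [], none, none, none⟩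

/-- data for the degrees [12, 21, 32, 120, 160] -/
def row57 : RowData :=
  ⟨[12, 21, 32, 120, 160], [], [], [], [], [], none, none, none⟩

/-- data for the degrees [12, 21, 32, 320, 280] -/
def row58 : RowData :=
  ⟨[12, 21, 32, 320, 280], [], [], [], [], [], none, none, none⟩

/-- data for the degrees [12, 21, 56, 120, 72] -/
def row59 : RowData :=
  ⟨[12, 21, 56, 120, 72], [], [], [], [], [], none, none, none⟩

/-- data for the degrees [12, 21, 56, 144, 192] -/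
def row60 : RowData :=
  ⟨[12, 21, 56, 144, 192], [], [], [], [], [], none, none, none⟩

/-- data for the degrees [12, 21, 56, 384, 336] -/
def row61 : RowData :=
  ⟨[12, 21, 56, 384, 336], [], [], [], [], [], none, none, none⟩

/-- data for the degrees [12, 21, 120, 144, 16] -/
def row62 : RowData :=
  ⟨[12, 21, 120, 144, 16], [], [], [], [], [], none, none, none⟩

/-- data for the degrees [12, 21, 120, 320, 192] -/
def row63 : RowData :=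
  ⟨[12, 21, 120, 320, 192], [], [], [], [], [], none, none, none⟩

/-- data for the degrees [12, 21, 144, 144, 280] -/
def row64 : RowData :=
  ⟨[12, 21, 144, 144, 280], [], [], [], [], [], none, none, none⟩

/-- data for the degrees [12, 21, 252, 320, 60] -/
def row65 : RowData :=
  ⟨[12, 21, 252, 320, 60], [], [], [], [], [], none, none, none⟩

/-- data for the degrees [12, 21, 320, 384, 72] -/
def row66 : RowData :=
  ⟨[12, 21, 320, 384, 72], [], [], [], [], [], none, none, none⟩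

/-- data for the degrees [12, 32, 32, 45, 6] -/
def row67 : RowData :=
  ⟨[12, 32, 32, 45, 6], [], [], [], [], [], none, none, none⟩

/-- data for the degrees [12, 32, 32, 56, 5] -/
def row68 : RowData :=
  ⟨[12, 32, 32, 56, 5], [], [], [], [], [], none, none, none⟩

/-- data for the degrees [12, 32, 120, 144, 5] -/
def row69 : RowData :=
  ⟨[12, 32, 120, 144, 5], [(128, [4, 0, 8, 0, -3]), (384, [4, 0, 8, 0, -3]), (896, [4, 0, 8, 0, -3]), (2688, [4,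
    0, 8, 0, -3])], [(10, [2, 2, 0, -1, 0]), (35, [2, 2, 0, -1, 0]), (35, [-3, 2, 0, 4, 0]), (35, [-3, -3, 0,
    -1, 0]), (60, [2, -3, 0, -6, 0]), (105, [7, 2, 0, -6, 0]), (105, [2, -3, 0, -6, 0]), (180, [-3, 7, 0, 9,
    0]), (210, [7, 2, 0, -6, 0]), (210, [2, -3, 0, -6, 0]), (210, [-3, 7, 0, 9, 0]), (210, [-3, -8, 0, -6, 0]),
    (210, [-8, 2, 0, 9, 0]), (280, [7, 12, 0, 4, 0]), (280, [7, 2, 0, -6, 0]), (280, [2, 12, 0, 9, 0]), (280,
    [2, 2, 0, -1, 0]), (280, [2, -8, 0, -11, 0]), (280, [-3, 2, 0, 4, 0]), (280, [-3, -8, 0, -6, 0]), (280, [-8,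
    2, 0, 9, 0]), (280, [-8, -8, 0, -1, 0]), (560, [7, 12, 0, 4, 0]), (560, [7, -8, 0, -16, 0]), (560, [-3, 12,
    0, 14, 0]), (560, [-3, -8, 0, -6, 0]), (630, [-3, 7, 0, 9, 0]), (1260, [-3, 7, 0, 9, 0]), (1680, [-3, -8, 0,
    -6, 0])], [(56, [-2, 4, 1, 4, -2]), (84, [5, 4, 1, -3, -2]), (84, [-2, 4, -6, -3, -2]), (84, [-2, -3, 1, -3,
    -2])], [], [], none, none, none⟩

/-- data for the degrees [12, 45, 56, 120, 6] -/
def row70 : RowData :=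
  ⟨[12, 45, 56, 120, 6], [], [], [], [], [], none, none, none⟩

/-- data for the degrees [12, 45, 210, 252, 16] -/
def row71 : RowData :=
  ⟨[12, 45, 210, 252, 16], [], [], [], [], [], none, none, none⟩

/-- data for the degrees [12, 45, 252, 320, 126] -/
def row72 : RowData :=
  ⟨[12, 45, 252, 320, 126], [], [], [], [], [], none, none, none⟩

/-- data for the degrees [12, 45, 320, 384, 6] -/
def row73 : RowData :=
  ⟨[12, 45, 320, 384, 6], [], [], [], [], [], none, none, none⟩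

/-- data for the degrees [12, 56, 56, 120, 5] -/
def row74 : RowData :=
  ⟨[12, 56, 56, 120, 5], [(128, [4, 0, 0, 8, -3]), (384, [4, 0, 0, 8, -3]), (896, [4, 0, 0, 8, -3]), (2688, [4,
    0, 0, 8, -3])], [(30, [2, 1, -4, 0, 0]), (30, [2, -4, 1, 0, 0]), (30, [-3, 1, 1, 0, 0]), (60, [2, 1, -4, 0,
    0]), (60, [2, -4, 1, 0, 0]), (60, [-3, 1, 1, 0, 0]), (80, [2, 1, -4, 0, 0]), (80, [2, -4, 1, 0, 0]), (80,
    [-3, 6, -4, 0, 0]), (80, [-3, 1, 1, 0, 0]), (80, [-3, -4, 6, 0, 0]), (160, [7, -4, -4, 0, 0]), (160, [-3, 6,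
    -4, 0, 0]), (160, [-3, -4, 6, 0, 0]), (180, [-3, 6, -4, 0, 0]), (180, [-3, 1, 1, 0, 0]), (180, [-3, -4, 6,
    0, 0]), (360, [-3, 11, -9, 0, 0]), (360, [-3, 6, -4, 0, 0]), (360, [-3, 1, 1, 0, 0]), (360, [-3, -4, 6, 0,
    0]), (360, [-3, -9, 11, 0, 0]), (480, [7, 6, -14, 0, 0]), (480, [7, -4, -4, 0, 0]), (480, [7, -14, 6, 0,
    0]), (480, [-3, 16, -14, 0, 0]), (480, [-3, 6, -4, 0, 0]), (480, [-3, -4, 6, 0, 0]), (480, [-3, -14, 16, 0,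
    0]), (1680, [-8, 21, -14, 0, 0]), (1680, [-8, -14, 21, 0, 0])], [(28, [-2, 0, 0, 1, -2]), (56, [-2, 0, 0, 1,
    -2]), (84, [-2, 0, 0, 1, -2]), (224, [5, 0, 0, 8, -2]), (224, [-9, 0, 0, -6, -2]), (672, [5, 0, 0, 8, -2]),
    (672, [-9, 0, 0, -6, -2])], [], [], none, none, none⟩

/-- data for the degrees [12, 56, 210, 384, 105] -/
def row75 : RowData :=
  ⟨[12, 56, 210, 384, 105], [], [], [], [], [], none, none, none⟩

/-- data for the degrees [12, 56, 320, 384, 5] -/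
def row76 : RowData :=
  ⟨[12, 56, 320, 384, 5], [], [], [], [], [], none, none, none⟩

/-- data for the degrees [21, 21, 21, 56, 6] -/
def row77 : RowData :=
  ⟨[21, 21, 21, 56, 6], [(128, [5, 1, -3, 0, 2]), (128, [5, -3, 1, 0, 2]), (128, [1, 5, -3, 0, 2]), (128, [1,
    -3, 5, 0, 2]), (128, [-3, 5, 1, 0, 2]), (128, [-3, 1, 5, 0, 2]), (384, [5, 5, -3, 8, -2]), (384, [5, 1, -3,
    0, 2]), (384, [5, -3, 5, 8, -2]), (384, [5, -3, 1, 0, 2]), (384, [1, 5, -3, 0, 2]), (384, [1, -3, 5, 0, 2]),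
    (384, [1, -3, -7, -8, -2]), (384, [1, -7, -3, -8, -2]), (384, [-3, 5, 5, 8, -2]), (384, [-3, 5, 1, 0, 2]),
    (384, [-3, 1, 5, 0, 2]), (384, [-3, 1, -7, -8, -2]), (384, [-3, -7, 1, -8, -2]), (384, [-7, 1, -3, -8, -2]),
    (384, [-7, -3, 1, -8, -2]), (640, [9, 5, 5, 16, 2]), (640, [5, 9, 5, 16, 2]), (640, [5, 5, 9, 16, 2]), (640,
    [5, 5, -3, 8, -2]), (640, [5, 1, -3, 0, 2]), (640, [5, -3, 5, 8, -2]), (640, [5, -3, 1, 0, 2]), (640, [1, 5,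
    -3, 0, 2]), (640, [1, -3, 5, 0, 2]), (640, [1, -3, -7, -8, -2]), (640, [1, -3, -11, -16, 2]), (640, [1, -7,
    -3, -8, -2]), (640, [1, -11, -3, -16, 2]), (640, [-3, 5, 5, 8, -2]), (640, [-3, 5, 1, 0, 2]), (640, [-3, 1,
    5, 0, 2]), (640, [-3, 1, -7, -8, -2]), (640, [-3, 1, -11, -16, 2]), (640, [-3, -7, 1, -8, -2]), (640, [-3,
    -11, 1, -16, 2]), (640, [-7, 1, -3, -8, -2]), (640, [-7, -3, 1, -8, -2]), (640, [-11, 1, -3, -16, 2]), (640,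
    [-11, -3, 1, -16, 2]), (1920, [13, 13, 9, 32, 2]), (1920, [13, 9, 13, 32, 2]), (1920, [13, 9, 1, 24, -2]),
    (1920, [13, 1, 9, 24, -2]), (1920, [9, 13, 13, 32, 2]), (1920, [9, 13, 1, 24, -2]), (1920, [9, 5, 5, 16,
    2]), (1920, [9, 1, 13, 24, -2]), (1920, [5, 9, 5, 16, 2]), (1920, [5, 5, 9, 16, 2]), (1920, [5, 5, -3, 8,
    -2]), (1920, [5, 1, -3, 0, 2]), (1920, [5, -3, 5, 8, -2]), (1920, [5, -3, 1, 0, 2]), (1920, [1, 13, 9, 24,
    -2]), (1920, [1, 9, 13, 24, -2]), (1920, [1, 5, -3, 0, 2]), (1920, [1, -3, 5, 0, 2]), (1920, [1, -3, -7, -8,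
    -2]), (1920, [1, -3, -11, -16, 2]), (1920, [1, -7, -3, -8, -2]), (1920, [1, -11, -3, -16, 2]), (1920, [-3,
    5, 5, 8, -2]), (1920, [-3, 5, 1, 0, 2]), (1920, [-3, 1, 5, 0, 2]), (1920, [-3, 1, -7, -8, -2]), (1920, [-3,
    1, -11, -16, 2]), (1920, [-3, -7, 1, -8, -2]), (1920, [-3, -7, -19, -32, 2]), (1920, [-3, -11, 1, -16, 2]),
    (1920, [-3, -11, -11, -24, -2]), (1920, [-3, -19, -7, -32, 2]), (1920, [-7, 1, -3, -8, -2]), (1920, [-7, -3,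
    1, -8, -2]), (1920, [-7, -3, -19, -32, 2]), (1920, [-7, -19, -3, -32, 2]), (1920, [-11, 1, -3, -16, 2]),
    (1920, [-11, -3, 1, -16, 2]), (1920, [-11, -3, -11, -24, -2]), (1920, [-11, -11, -3, -24, -2]), (1920, [-19,
    -3, -7, -32, 2]), (1920, [-19, -7, -3, -32, 2])], [(10, [1, 1, 1, 1, 1]), (30, [1, 1, 1, 1, 1]), (60, [6, 1,
    -4, 1, 1]), (60, [6, -4, 1, 1, 1]), (60, [1, 6, -4, 1, 1]), (60, [1, 1, 1, 1, 1]), (60, [1, 1, -4, -4, 1]),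
    (60, [1, 1, -4, 1, -4]), (60, [1, -4, 6, 1, 1]), (60, [1, -4, 1, -4, 1]), (60, [1, -4, 1, 1, -4]), (60, [-4,
    6, 1, 1, 1]), (60, [-4, 1, 6, 1, 1]), (60, [-4, 1, 1, -4, 1]), (60, [-4, 1, 1, 1, -4]), (80, [6, 1, 1, 6,
    1]), (80, [6, 1, -4, 1, 1]), (80, [6, -4, 1, 1, 1]), (80, [1, 6, 1, 6, 1]), (80, [1, 6, -4, 1, 1]), (80, [1,
    1, 6, 6, 1]), (80, [1, 1, 1, 1, 1]), (80, [1, 1, 1, 6, -4]), (80, [1, 1, -4, -4, 1]), (80, [1, 1, -4, 1,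
    -4]), (80, [1, -4, 6, 1, 1]), (80, [1, -4, 1, -4, 1]), (80, [1, -4, 1, 1, -4]), (80, [-4, 6, 1, 1, 1]), (80,
    [-4, 1, 6, 1, 1]), (80, [-4, 1, 1, -4, 1]), (80, [-4, 1, 1, 1, -4]), (160, [6, 6, -4, 6, 1]), (160, [6, 1,
    1, 6, 1]), (160, [6, 1, -4, 6, -4]), (160, [6, 1, -9, -4, 1]), (160, [6, -4, 6, 6, 1]), (160, [6, -4, 1, 6,
    -4]), (160, [6, -4, -4, -4, 1]), (160, [6, -9, 1, -4, 1]), (160, [1, 6, 1, 6, 1]), (160, [1, 6, -4, 6, -4]),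
    (160, [1, 6, -9, -4, 1]), (160, [1, 1, 6, 6, 1]), (160, [1, 1, 1, 6, -4]), (160, [1, 1, -4, -4, 1]), (160,
    [1, 1, -9, -4, -4]), (160, [1, -4, 6, 6, -4]), (160, [1, -4, 1, -4, 1]), (160, [1, -4, -4, -4, -4]), (160,
    [1, -9, 6, -4, 1]), (160, [1, -9, 1, -4, -4]), (160, [-4, 6, 6, 6, 1]), (160, [-4, 6, 1, 6, -4]), (160, [-4,
    6, -4, -4, 1]), (160, [-4, 1, 6, 6, -4]), (160, [-4, 1, 1, -4, 1]), (160, [-4, 1, -4, -4, -4]), (160, [-4,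
    -4, 6, -4, 1]), (160, [-4, -4, 1, -4, -4]), (160, [-9, 6, 1, -4, 1]), (160, [-9, 1, 6, -4, 1]), (160, [-9,
    1, 1, -4, -4]), (480, [16, 1, -9, 6, 1]), (480, [16, -4, -4, 6, 1]), (480, [16, -4, -9, 6, -4]), (480, [16,
    -9, 1, 6, 1]), (480, [16, -9, -4, 6, -4]), (480, [16, -9, -9, -4, 1]), (480, [11, 11, -14, 6, 1]), (480,
    [11, 6, 1, 16, 1]), (480, [11, 6, -4, 16, -4]), (480, [11, 6, -9, 6, 1]), (480, [11, 6, -14, 6, -4]), (480,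
    [11, 1, 6, 16, 1]), (480, [11, 1, 1, 16, -4]), (480, [11, 1, -4, 6, 1]), (480, [11, 1, -9, 6, -4]), (480,
    [11, 1, -14, -4, 1]), (480, [11, -4, 6, 16, -4]), (480, [11, -4, 1, 6, 1]), (480, [11, -4, -4, 6, -4]),
    (480, [11, -4, -9, -4, 1]), (480, [11, -4, -14, -4, -4]), (480, [11, -9, 6, 6, 1]), (480, [11, -9, 1, 6,
    -4]), (480, [11, -9, -4, -4, 1]), (480, [11, -9, -9, -4, -4]), (480, [11, -14, 11, 6, 1]), (480, [11, -14,
    6, 6, -4]), (480, [11, -14, 1, -4, 1]), (480, [11, -14, -4, -4, -4]), (480, [6, 11, 1, 16, 1]), (480, [6,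
    11, -4, 16, -4]), (480, [6, 11, -9, 6, 1]), (480, [6, 11, -14, 6, -4]), (480, [6, 6, 6, 16, 1]), (480, [6,
    6, 1, 16, -4]), (480, [6, 6, -4, 6, 1]), (480, [6, 6, -9, 6, -4]), (480, [6, 6, -14, -4, 1]), (480, [6, 1,
    11, 16, 1]), (480, [6, 1, 6, 16, -4]), (480, [6, 1, 1, 6, 1]), (480, [6, 1, -4, 6, -4]), (480, [6, 1, -9,
    -4, 1]), (480, [6, 1, -14, -4, -4]), (480, [6, -4, 11, 16, -4]), (480, [6, -4, 6, 6, 1]), (480, [6, -4, 1,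
    6, -4]), (480, [6, -4, -4, -4, 1]), (480, [6, -4, -9, -4, -4]), (480, [6, -4, -14, -14, 1]), (480, [6, -9,
    11, 6, 1]), (480, [6, -9, 6, 6, -4]), (480, [6, -9, 1, -4, 1]), (480, [6, -9, -4, -4, -4]), (480, [6, -9,
    -9, -14, 1]), (480, [6, -14, 11, 6, -4]), (480, [6, -14, 6, -4, 1]), (480, [6, -14, 1, -4, -4]), (480, [6,
    -14, -4, -14, 1]), (480, [1, 16, -9, 6, 1]), (480, [1, 11, 6, 16, 1]), (480, [1, 11, 1, 16, -4]), (480, [1,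
    11, -4, 6, 1]), (480, [1, 11, -9, 6, -4]), (480, [1, 11, -14, -4, 1]), (480, [1, 6, 11, 16, 1]), (480, [1,
    6, 6, 16, -4]), (480, [1, 6, 1, 6, 1]), (480, [1, 6, -4, 6, -4]), (480, [1, 6, -9, -4, 1]), (480, [1, 6,
    -14, -4, -4]), (480, [1, 1, 11, 16, -4]), (480, [1, 1, 6, 6, 1]), (480, [1, 1, 1, 6, -4]), (480, [1, 1, -4,
    -4, 1]), (480, [1, 1, -9, -4, -4]), (480, [1, 1, -14, -14, 1]), (480, [1, -4, 11, 6, 1]), (480, [1, -4, 6,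
    6, -4]), (480, [1, -4, 1, -4, 1]), (480, [1, -4, -4, -4, -4]), (480, [1, -4, -9, -14, 1]), (480, [1, -4,
    -14, -14, -4]), (480, [1, -9, 16, 6, 1]), (480, [1, -9, 11, 6, -4]), (480, [1, -9, 6, -4, 1]), (480, [1, -9,
    1, -4, -4]), (480, [1, -9, -4, -14, 1]), (480, [1, -9, -9, -14, -4]), (480, [1, -14, 11, -4, 1]), (480, [1,
    -14, 6, -4, -4]), (480, [1, -14, 1, -14, 1]), (480, [1, -14, -4, -14, -4]), (480, [-4, 16, -4, 6, 1]), (480,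
    [-4, 16, -9, 6, -4]), (480, [-4, 11, 6, 16, -4]), (480, [-4, 11, 1, 6, 1]), (480, [-4, 11, -4, 6, -4]),
    (480, [-4, 11, -9, -4, 1]), (480, [-4, 11, -14, -4, -4]), (480, [-4, 6, 11, 16, -4]), (480, [-4, 6, 6, 6,
    1]), (480, [-4, 6, 1, 6, -4]), (480, [-4, 6, -4, -4, 1]), (480, [-4, 6, -9, -4, -4]), (480, [-4, 6, -14,
    -14, 1]), (480, [-4, 1, 11, 6, 1]), (480, [-4, 1, 6, 6, -4]), (480, [-4, 1, 1, -4, 1]), (480, [-4, 1, -4,
    -4, -4]), (480, [-4, 1, -9, -14, 1]), (480, [-4, 1, -14, -14, -4]), (480, [-4, -4, 16, 6, 1]), (480, [-4,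
    -4, 11, 6, -4]), (480, [-4, -4, 6, -4, 1]), (480, [-4, -4, 1, -4, -4]), (480, [-4, -4, -4, -14, 1]), (480,
    [-4, -4, -9, -14, -4]), (480, [-4, -9, 16, 6, -4]), (480, [-4, -9, 11, -4, 1]), (480, [-4, -9, 6, -4, -4]),
    (480, [-4, -9, 1, -14, 1]), (480, [-4, -9, -4, -14, -4]), (480, [-4, -14, 11, -4, -4]), (480, [-4, -14, 6,
    -14, 1]), (480, [-4, -14, 1, -14, -4]), (480, [-9, 16, 1, 6, 1]), (480, [-9, 16, -4, 6, -4]), (480, [-9, 16,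
    -9, -4, 1]), (480, [-9, 11, 6, 6, 1]), (480, [-9, 11, 1, 6, -4]), (480, [-9, 11, -4, -4, 1]), (480, [-9, 11,
    -9, -4, -4]), (480, [-9, 6, 11, 6, 1]), (480, [-9, 6, 6, 6, -4]), (480, [-9, 6, 1, -4, 1]), (480, [-9, 6,
    -4, -4, -4]), (480, [-9, 6, -9, -14, 1]), (480, [-9, 1, 16, 6, 1]), (480, [-9, 1, 11, 6, -4]), (480, [-9, 1,
    6, -4, 1]), (480, [-9, 1, 1, -4, -4]), (480, [-9, 1, -4, -14, 1]), (480, [-9, 1, -9, -14, -4]), (480, [-9,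
    -4, 16, 6, -4]), (480, [-9, -4, 11, -4, 1]), (480, [-9, -4, 6, -4, -4]), (480, [-9, -4, 1, -14, 1]), (480,
    [-9, -4, -4, -14, -4]), (480, [-9, -9, 16, -4, 1]), (480, [-9, -9, 11, -4, -4]), (480, [-9, -9, 6, -14, 1]),
    (480, [-9, -9, 1, -14, -4]), (480, [-14, 11, 11, 6, 1]), (480, [-14, 11, 6, 6, -4]), (480, [-14, 11, 1, -4,
    1]), (480, [-14, 11, -4, -4, -4]), (480, [-14, 6, 11, 6, -4]), (480, [-14, 6, 6, -4, 1]), (480, [-14, 6, 1,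
    -4, -4]), (480, [-14, 6, -4, -14, 1]), (480, [-14, 1, 11, -4, 1]), (480, [-14, 1, 6, -4, -4]), (480, [-14,
    1, 1, -14, 1]), (480, [-14, 1, -4, -14, -4]), (480, [-14, -4, 11, -4, -4]), (480, [-14, -4, 6, -14, 1]),
    (480, [-14, -4, 1, -14, -4]), (960, [16, 11, -9, 16, 1]), (960, [16, 11, -14, 16, -4]), (960, [16, 6, -4,
    16, 1]), (960, [16, 6, -9, 16, -4]), (960, [16, 1, 1, 16, 1]), (960, [16, 1, -4, 16, -4]), (960, [16, 1,
    -19, -4, 1]), (960, [16, -4, 6, 16, 1]), (960, [16, -4, 1, 16, -4]), (960, [16, -4, -14, -4, 1]), (960, [16,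
    -4, -19, -4, -4]), (960, [16, -9, 11, 16, 1]), (960, [16, -9, 6, 16, -4]), (960, [16, -9, -9, -4, 1]), (960,
    [16, -9, -14, -4, -4]), (960, [16, -14, 11, 16, -4]), (960, [16, -14, -4, -4, 1]), (960, [16, -14, -9, -4,
    -4]), (960, [16, -19, 1, -4, 1]), (960, [16, -19, -4, -4, -4]), (960, [11, 16, -9, 16, 1]), (960, [11, 16,
    -14, 16, -4]), (960, [11, 11, -4, 16, 1]), (960, [11, 11, -9, 16, -4]), (960, [11, 6, 1, 16, 1]), (960, [11,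
    6, -4, 16, -4]), (960, [11, 6, -19, -4, 1]), (960, [11, 1, 6, 16, 1]), (960, [11, 1, 1, 16, -4]), (960, [11,
    1, -14, -4, 1]), (960, [11, 1, -19, -4, -4]), (960, [11, -4, 11, 16, 1]), (960, [11, -4, 6, 16, -4]), (960,
    [11, -4, -9, -4, 1]), (960, [11, -4, -14, -4, -4]), (960, [11, -9, 16, 16, 1]), (960, [11, -9, 11, 16, -4]),
    (960, [11, -9, -4, -4, 1]), (960, [11, -9, -9, -4, -4]), (960, [11, -14, 16, 16, -4]), (960, [11, -14, 1,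
    -4, 1]), (960, [11, -14, -4, -4, -4]), (960, [11, -19, 6, -4, 1]), (960, [11, -19, 1, -4, -4]), (960, [6,
    16, -4, 16, 1]), (960, [6, 16, -9, 16, -4]), (960, [6, 11, 1, 16, 1]), (960, [6, 11, -4, 16, -4]), (960, [6,
    11, -19, -4, 1]), (960, [6, 6, 6, 16, 1]), (960, [6, 6, 1, 16, -4]), (960, [6, 6, -14, -4, 1]), (960, [6, 6,
    -19, -4, -4]), (960, [6, 1, 11, 16, 1]), (960, [6, 1, 6, 16, -4]), (960, [6, 1, -9, -4, 1]), (960, [6, 1,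
    -14, -4, -4]), (960, [6, -4, 16, 16, 1]), (960, [6, -4, 11, 16, -4]), (960, [6, -4, -4, -4, 1]), (960, [6,
    -4, -9, -4, -4]), (960, [6, -9, 16, 16, -4]), (960, [6, -9, 1, -4, 1]), (960, [6, -9, -4, -4, -4]), (960,
    [6, -14, 6, -4, 1]), (960, [6, -14, 1, -4, -4]), (960, [6, -19, 11, -4, 1]), (960, [6, -19, 6, -4, -4]),
    (960, [1, 16, 1, 16, 1]), (960, [1, 16, -4, 16, -4]), (960, [1, 16, -19, -4, 1]), (960, [1, 11, 6, 16, 1]),
    (960, [1, 11, 1, 16, -4]), (960, [1, 11, -14, -4, 1]), (960, [1, 11, -19, -4, -4]), (960, [1, 6, 11, 16,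
    1]), (960, [1, 6, 6, 16, -4]), (960, [1, 6, -9, -4, 1]), (960, [1, 6, -14, -4, -4]), (960, [1, 1, 16, 16,
    1]), (960, [1, 1, 11, 16, -4]), (960, [1, 1, -4, -4, 1]), (960, [1, 1, -9, -4, -4]), (960, [1, -4, 16, 16,
    -4]), (960, [1, -4, 1, -4, 1]), (960, [1, -4, -4, -4, -4]), (960, [1, -4, -19, -24, 1]), (960, [1, -9, 6,
    -4, 1]), (960, [1, -9, 1, -4, -4]), (960, [1, -9, -14, -24, 1]), (960, [1, -14, 11, -4, 1]), (960, [1, -14,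
    6, -4, -4]), (960, [1, -14, -9, -24, 1]), (960, [1, -19, 16, -4, 1]), (960, [1, -19, 11, -4, -4]), (960, [1,
    -19, -4, -24, 1]), (960, [-4, 16, 6, 16, 1]), (960, [-4, 16, 1, 16, -4]), (960, [-4, 16, -14, -4, 1]), (960,
    [-4, 16, -19, -4, -4]), (960, [-4, 11, 11, 16, 1]), (960, [-4, 11, 6, 16, -4]), (960, [-4, 11, -9, -4, 1]),
    (960, [-4, 11, -14, -4, -4]), (960, [-4, 6, 16, 16, 1]), (960, [-4, 6, 11, 16, -4]), (960, [-4, 6, -4, -4,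
    1]), (960, [-4, 6, -9, -4, -4]), (960, [-4, 1, 16, 16, -4]), (960, [-4, 1, 1, -4, 1]), (960, [-4, 1, -4, -4,
    -4]), (960, [-4, 1, -19, -24, 1]), (960, [-4, -4, 6, -4, 1]), (960, [-4, -4, 1, -4, -4]), (960, [-4, -4,
    -14, -24, 1]), (960, [-4, -9, 11, -4, 1]), (960, [-4, -9, 6, -4, -4]), (960, [-4, -9, -9, -24, 1]), (960,
    [-4, -9, -14, -24, -4]), (960, [-4, -14, 16, -4, 1]), (960, [-4, -14, 11, -4, -4]), (960, [-4, -14, -4, -24,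
    1]), (960, [-4, -14, -9, -24, -4]), (960, [-4, -19, 16, -4, -4]), (960, [-4, -19, 1, -24, 1]), (960, [-9,
    16, 11, 16, 1]), (960, [-9, 16, 6, 16, -4]), (960, [-9, 16, -9, -4, 1]), (960, [-9, 16, -14, -4, -4]), (960,
    [-9, 11, 16, 16, 1]), (960, [-9, 11, 11, 16, -4]), (960, [-9, 11, -4, -4, 1]), (960, [-9, 11, -9, -4, -4]),
    (960, [-9, 6, 16, 16, -4]), (960, [-9, 6, 1, -4, 1]), (960, [-9, 6, -4, -4, -4]), (960, [-9, 1, 6, -4, 1]),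
    (960, [-9, 1, 1, -4, -4]), (960, [-9, 1, -14, -24, 1]), (960, [-9, -4, 11, -4, 1]), (960, [-9, -4, 6, -4,
    -4]), (960, [-9, -4, -9, -24, 1]), (960, [-9, -4, -14, -24, -4]), (960, [-9, -9, 16, -4, 1]), (960, [-9, -9,
    11, -4, -4]), (960, [-9, -9, -4, -24, 1]), (960, [-9, -9, -9, -24, -4]), (960, [-9, -14, 16, -4, -4]), (960,
    [-9, -14, 1, -24, 1]), (960, [-9, -14, -4, -24, -4]), (960, [-14, 16, 11, 16, -4]), (960, [-14, 16, -4, -4,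
    1]), (960, [-14, 16, -9, -4, -4]), (960, [-14, 11, 16, 16, -4]), (960, [-14, 11, 1, -4, 1]), (960, [-14, 11,
    -4, -4, -4]), (960, [-14, 6, 6, -4, 1]), (960, [-14, 6, 1, -4, -4]), (960, [-14, 1, 11, -4, 1]), (960, [-14,
    1, 6, -4, -4]), (960, [-14, 1, -9, -24, 1]), (960, [-14, -4, 16, -4, 1]), (960, [-14, -4, 11, -4, -4]),
    (960, [-14, -4, -4, -24, 1]), (960, [-14, -4, -9, -24, -4]), (960, [-14, -9, 16, -4, -4]), (960, [-14, -9,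
    1, -24, 1]), (960, [-14, -9, -4, -24, -4]), (960, [-19, 16, 1, -4, 1]), (960, [-19, 16, -4, -4, -4]), (960,
    [-19, 11, 6, -4, 1]), (960, [-19, 11, 1, -4, -4]), (960, [-19, 6, 11, -4, 1]), (960, [-19, 6, 6, -4, -4]),
    (960, [-19, 1, 16, -4, 1]), (960, [-19, 1, 11, -4, -4]), (960, [-19, 1, -4, -24, 1]), (960, [-19, -4, 16,
    -4, -4]), (960, [-19, -4, 1, -24, 1])], [(7, [0, 0, 0, 0, -1]), (28, [0, 0, 0, 0, -1]), (35, [0, 0, 0, 0,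
    -1]), (56, [0, 0, 0, 0, -1]), (84, [0, 0, 0, 0, -1]), (105, [0, 0, 0, 0, -1]), (224, [0, 0, 0, 0, -1]),
    (280, [0, 0, 0, 0, -1]), (420, [0, 0, 0, 0, -1]), (448, [0, 0, 0, 0, -1]), (672, [0, 0, 0, 0, -1]), (840,
    [0, 0, 0, 0, -1]), (2240, [0, 0, 0, 0, -1]), (3360, [0, 0, 0, 0, -1]), (6720, [0, 0, 0, 0, -1])], [], [[(11,
    2)]], none, (some []), none⟩

/-- data for the degrees [21, 21, 32, 32, 105] -/
def row78 : RowData :=
  ⟨[21, 21, 32, 32, 105], [(128, [5, 1, 0, 0, 5]), (128, [1, 5, 0, 0, 5]), (384, [5, 1, 0, 0, 5]), (384, [1, 5,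
    0, 0, 5]), (640, [5, 1, 0, 0, 5]), (640, [1, 5, 0, 0, 5]), (1920, [5, 1, 0, 0, 5]), (1920, [1, 5, 0, 0,
    5])], [(30, [1, 1, 2, -3, 0]), (30, [1, 1, -3, 2, 0]), (30, [1, -4, 2, 2, 0]), (30, [-4, 1, 2, 2, 0]), (60,
    [6, 1, -3, -3, 0]), (60, [1, 6, -3, -3, 0]), (60, [1, 1, 2, -3, 0]), (60, [1, 1, -3, 2, 0]), (60, [1, -4, 2,
    2, 0]), (60, [-4, 1, 2, 2, 0]), (180, [6, 6, -3, -8, 0]), (180, [6, 6, -8, -3, 0]), (180, [6, -9, 7, -3,
    0]), (180, [6, -9, 2, 2, 0]), (180, [6, -9, -3, 7, 0]), (180, [-9, 6, 7, -3, 0]), (180, [-9, 6, 2, 2, 0]),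
    (180, [-9, 6, -3, 7, 0]), (360, [6, -9, 12, -8, 0]), (360, [6, -9, 2, 2, 0]), (360, [6, -9, -8, 12, 0]),
    (360, [-9, 6, 12, -8, 0]), (360, [-9, 6, 2, 2, 0]), (360, [-9, 6, -8, 12, 0]), (480, [16, 1, -8, -8, 0]),
    (480, [11, 6, -8, -8, 0]), (480, [6, 11, -8, -8, 0]), (480, [1, 16, -8, -8, 0])], [(28, [0, 0, 4, -3, 0]),
    (28, [0, 0, -3, 4, 0]), (35, [0, 0, 4, -3, 0]), (35, [0, 0, -3, 4, 0]), (84, [0, 0, 4, -3, 0]), (84, [0, 0,
    -3, 4, 0]), (105, [0, 0, 4, -3, 0]), (105, [0, 0, -3, 4, 0]), (420, [0, 0, 11, -10, 0]), (420, [0, 0, 4, -3,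
    0]), (420, [0, 0, -3, 4, 0]), (420, [0, 0, -10, 11, 0]), (1260, [0, 0, 25, -24, 0]), (1260, [0, 0, 18, -17,
    0]), (1260, [0, 0, 11, -10, 0]), (1260, [0, 0, 4, -3, 0]), (1260, [0, 0, -3, 4, 0]), (1260, [0, 0, -10, 11,
    0]), (1260, [0, 0, -17, 18, 0]), (1260, [0, 0, -24, 25, 0])], [], [[(22, 1), (55, 1)], [(99, 1), (132, 1)]],
    none, (some []), none⟩

/-- data for the degrees [21, 21, 32, 45, 28] -/
def row79 : RowData :=
  ⟨[21, 21, 32, 45, 28], [], [], [], [], [], none, none, none⟩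

/-- data for the degrees [21, 21, 45, 56, 60] -/
def row80 : RowData :=
  ⟨[21, 21, 45, 56, 60], [(1920, [1, -3, -15, -8, -20]), (1920, [-3, 1, -15, -8, -20])], [(5, [1, 1, 0, 1, 0]),
    (10, [1, 1, 0, 1, 0]), (30, [1, 1, 0, 1, 0]), (60, [6, -4, 0, 1, 0]), (60, [1, 1, 0, 1, 0]), (60, [1, -4, 0,
    -4, 0]), (60, [-4, 6, 0, 1, 0]), (60, [-4, 1, 0, -4, 0]), (80, [6, 1, 0, 6, 0]), (80, [6, -4, 0, 1, 0]),
    (80, [1, 6, 0, 6, 0]), (80, [1, 1, 0, 1, 0]), (80, [1, -4, 0, -4, 0]), (80, [-4, 6, 0, 1, 0]), (80, [-4, 1,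
    0, -4, 0]), (160, [6, 1, 0, 6, 0]), (160, [6, -9, 0, -4, 0]), (160, [1, 6, 0, 6, 0]), (160, [1, -4, 0, -4,
    0]), (160, [-4, 1, 0, -4, 0]), (160, [-9, 6, 0, -4, 0]), (180, [6, -9, 0, -4, 0]), (180, [-9, 6, 0, -4, 0]),
    (360, [6, 6, 0, 11, 0]), (360, [6, -9, 0, -4, 0]), (360, [-9, 6, 0, -4, 0]), (480, [16, -9, 0, 6, 0]), (480,
    [11, 6, 0, 16, 0]), (480, [11, -4, 0, 6, 0]), (480, [11, -14, 0, -4, 0]), (480, [6, 11, 0, 16, 0]), (480,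
    [6, 1, 0, 6, 0]), (480, [6, -9, 0, -4, 0]), (480, [1, 6, 0, 6, 0]), (480, [1, -4, 0, -4, 0]), (480, [1, -14,
    0, -14, 0]), (480, [-4, 11, 0, 6, 0]), (480, [-4, 1, 0, -4, 0]), (480, [-4, -9, 0, -14, 0]), (480, [-9, 16,
    0, 6, 0]), (480, [-9, 6, 0, -4, 0]), (480, [-9, -4, 0, -14, 0]), (480, [-14, 11, 0, -4, 0]), (480, [-14, 1,
    0, -14, 0]), (960, [16, 1, 0, 16, 0]), (960, [16, -19, 0, -4, 0]), (960, [11, 6, 0, 16, 0]), (960, [11, -14,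
    0, -4, 0]), (960, [6, 11, 0, 16, 0]), (960, [6, -9, 0, -4, 0]), (960, [1, 16, 0, 16, 0]), (960, [1, -4, 0,
    -4, 0]), (960, [-4, 1, 0, -4, 0]), (960, [-4, -19, 0, -24, 0]), (960, [-9, 6, 0, -4, 0]), (960, [-9, -14, 0,
    -24, 0]), (960, [-14, 11, 0, -4, 0]), (960, [-14, -9, 0, -24, 0]), (960, [-19, 16, 0, -4, 0]), (960, [-19,
    -4, 0, -24, 0])], [(56, [0, 0, 3, 0, 4]), (56, [0, 0, -4, 0, -3]), (84, [0, 0, 3, 0, 4]), (224, [0, 0, 3, 0,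
    4]), (224, [0, 0, -4, 0, -3]), (448, [0, 0, 3, 0, 4]), (448, [0, 0, -11, 0, -10]), (672, [0, 0, 3, 0, 4])],
    [[(99, 1)]], [], none, none, none⟩

/-- data for the degrees [21, 21, 56, 120, 105] -/
def row81 : RowData :=
  ⟨[21, 21, 56, 120, 105], [(128, [5, 1, 0, 0, 5]), (128, [1, 5, 0, 0, 5]), (384, [5, 5, 8, 8, 9]), (384, [5, 5,
    -8, -8, 9]), (384, [5, 1, 0, 0, 5]), (384, [5, -3, 8, 8, 1]), (384, [5, -3, -8, -8, 1]), (384, [1, 5, 0, 0,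
    5]), (384, [1, -7, -8, 8, 9]), (384, [-3, 5, 8, 8, 1]), (384, [-3, 5, -8, -8, 1]), (384, [-7, 1, -8, 8, 9]),
    (640, [5, 1, 0, 0, 5]), (640, [1, 5, 0, 0, 5]), (640, [1, -11, -16, 0, 5]), (640, [-11, 1, -16, 0, 5]),
    (1920, [5, 1, 0, 0, 5]), (1920, [1, 5, 0, 0, 5]), (1920, [1, -11, -16, 0, 5]), (1920, [-7, -19, -32, 0, 5]),
    (1920, [-11, 1, -16, 0, 5]), (1920, [-19, -7, -32, 0, 5])], [(5, [1, 1, 1, 0, 0]), (10, [1, 1, 1, 0, 0]),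
    (30, [1, 1, 1, 0, 0]), (60, [6, -4, 1, 0, 0]), (60, [1, 1, 1, 0, 0]), (60, [1, -4, -4, 0, 0]), (60, [-4, 6,
    1, 0, 0]), (60, [-4, 1, -4, 0, 0]), (80, [6, 1, 6, 0, 0]), (80, [6, -4, 1, 0, 0]), (80, [1, 6, 6, 0, 0]),
    (80, [1, 1, 1, 0, 0]), (80, [1, -4, -4, 0, 0]), (80, [-4, 6, 1, 0, 0]), (80, [-4, 1, -4, 0, 0]), (160, [6,
    1, 6, 0, 0]), (160, [6, -9, -4, 0, 0]), (160, [1, 6, 6, 0, 0]), (160, [1, -4, -4, 0, 0]), (160, [-4, 1, -4,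
    0, 0]), (160, [-9, 6, -4, 0, 0]), (180, [6, -9, -4, 0, 0]), (180, [-9, 6, -4, 0, 0]), (360, [6, 6, 11, 0,
    0]), (360, [6, -9, -4, 0, 0]), (360, [-9, 6, -4, 0, 0]), (480, [16, -9, 6, 0, 0]), (480, [11, 6, 16, 0, 0]),
    (480, [11, -4, 6, 0, 0]), (480, [11, -14, -4, 0, 0]), (480, [6, 11, 16, 0, 0]), (480, [6, 1, 6, 0, 0]),
    (480, [6, -9, -4, 0, 0]), (480, [1, 6, 6, 0, 0]), (480, [1, -4, -4, 0, 0]), (480, [1, -14, -14, 0, 0]),
    (480, [-4, 11, 6, 0, 0]), (480, [-4, 1, -4, 0, 0]), (480, [-4, -9, -14, 0, 0]), (480, [-9, 16, 6, 0, 0]),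
    (480, [-9, 6, -4, 0, 0]), (480, [-9, -4, -14, 0, 0]), (480, [-14, 11, -4, 0, 0]), (480, [-14, 1, -14, 0,
    0]), (960, [16, 1, 16, 0, 0]), (960, [16, -19, -4, 0, 0]), (960, [11, 6, 16, 0, 0]), (960, [11, -14, -4, 0,
    0]), (960, [6, 11, 16, 0, 0]), (960, [6, -9, -4, 0, 0]), (960, [1, 16, 16, 0, 0]), (960, [1, -4, -4, 0, 0]),
    (960, [-4, 1, -4, 0, 0]), (960, [-4, -19, -24, 0, 0]), (960, [-9, 6, -4, 0, 0]), (960, [-9, -14, -24, 0,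
    0]), (960, [-14, 11, -4, 0, 0]), (960, [-14, -9, -24, 0, 0]), (960, [-19, 16, -4, 0, 0]), (960, [-19, -4,
    -24, 0, 0])], [(7, [0, 0, 0, 1, 0]), (28, [0, 0, 0, 1, 0]), (56, [0, 0, 0, 1, 0]), (84, [0, 0, 0, 1, 0])],
    [[(99, 1)]], [[(55, 1), (66, 2)], [(99, 1), (220, 2)], [(132, 1), (11, 2)]], (some [(80, [5, 1, 0, 0, 5]),
    (80, [1, 5, 0, 0, 5]), (120, [5, 1, 0, 0, 5]), (120, [1, 5, 0, 0, 5]), (160, [5, 1, 0, 0, 5]), (160, [1, 5,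
    0, 0, 5]), (240, [5, 1, 0, 0, 5]), (240, [1, 5, 0, 0, 5]), (320, [5, 1, 0, 0, 5]), (320, [1, 5, 0, 0, 5]),
    (480, [5, 1, 0, 0, 5]), (480, [1, 5, 0, 0, 5]), (480, [1, -11, -16, 0, 5]), (480, [-11, 1, -16, 0, 5]),
    (640, [5, 1, 0, 0, 5]), (640, [1, 5, 0, 0, 5]), (640, [1, -11, -16, 0, 5]), (640, [-11, 1, -16, 0, 5]),
    (960, [5, 1, 0, 0, 5]), (960, [1, 5, 0, 0, 5]), (960, [1, 1, -4, -20, -15]), (960, [1, -3, 12, 20, 5]),
    (960, [1, -11, -16, 0, 5]), (960, [-3, 1, 12, 20, 5]), (960, [-11, 1, -16, 0, 5]), (1920, [5, 1, 0, 0, 5]),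
    (1920, [1, 5, 0, 0, 5]), (1920, [1, -11, -16, 0, 5]), (1920, [-7, -19, -32, 0, 5]), (1920, [-11, 1, -16, 0,
    5]), (1920, [-19, -7, -32, 0, 5])]), (some []), none⟩

/-- data for the degrees [21, 21, 320, 384, 105] -/
def row82 : RowData :=
  ⟨[21, 21, 320, 384, 105], [(128, [5, 1, 0, 0, 5]), (128, [1, 5, 0, 0, 5]), (384, [5, 1, 0, 0, 5]), (384, [1,
    5, 0, 0, 5]), (640, [5, 1, 0, 0, 5]), (640, [1, 5, 0, 0, 5]), (1920, [5, 1, 0, 0, 5]), (1920, [1, 5, 0, 0,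
    5])], [(5, [1, 1, 0, -1, 0]), (60, [1, -4, 0, 4, 0]), (60, [-4, 1, 0, 4, 0])], [(7, [0, 0, -2, -1, 0]),
    (105, [0, 0, 5, 6, 0])], [], [], none, none, none⟩

/-- data for the degrees [21, 32, 32, 56, 28] -/
def row83 : RowData :=
  ⟨[21, 32, 32, 56, 28], [], [], [], [], [], none, none, none⟩

/-- data for the degrees [21, 32, 32, 144, 60] -/
def row84 : RowData :=
  ⟨[21, 32, 32, 144, 60], [], [], [], [], [], none, none, none⟩

/-- data for the degrees [21, 32, 32, 210, 126] -/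
def row85 : RowData :=
  ⟨[21, 32, 32, 210, 126], [(384, [5, 0, 0, 10, 6]), (640, [5, 0, 0, 10, 6]), (1920, [5, 0, 0, 10, 6])], [(360,
    [6, 2, 2, 0, -9]), (480, [11, -8, -8, 0, 6])], [(28, [0, 4, -3, 0, 0]), (28, [0, -3, 4, 0, 0]), (35, [0, 4,
    -3, 0, 0]), (35, [0, -3, 4, 0, 0]), (84, [0, 4, -3, 0, 0]), (84, [0, -3, 4, 0, 0]), (105, [0, 4, -3, 0, 0]),
    (105, [0, -3, 4, 0, 0]), (420, [0, 11, -10, 0, 0]), (420, [0, 4, -3, 0, 0]), (420, [0, -3, 4, 0, 0]), (420,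
    [0, -10, 11, 0, 0]), (1260, [0, 25, -24, 0, 0]), (1260, [0, 18, -17, 0, 0]), (1260, [0, 11, -10, 0, 0]),
    (1260, [0, 4, -3, 0, 0]), (1260, [0, -3, 4, 0, 0]), (1260, [0, -10, 11, 0, 0]), (1260, [0, -17, 18, 0, 0]),
    (1260, [0, -24, 25, 0, 0])], [], [[(22, 1), (55, 1)], [(99, 1), (132, 1)]], none, (some []), none⟩

/-- data for the degrees [21, 32, 32, 252, 336] -/
def row86 : RowData :=
  ⟨[21, 32, 32, 252, 336], [(1920, [5, 0, 0, 12, 16])], [(30, [1, 2, 2, -3, 1]), (60, [1, 2, 2, -3, 1]), (60,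
    [1, 2, -3, -3, -4]), (60, [1, -3, 2, -3, -4]), (480, [16, -8, -8, -3, -4]), (480, [1, -8, -8, 12, -4])],
    [(28, [0, 4, -3, 0, 0]), (28, [0, -3, 4, 0, 0]), (35, [0, 4, -3, 0, 0]), (35, [0, -3, 4, 0, 0]), (84, [0, 4,
    -3, 0, 0]), (84, [0, -3, 4, 0, 0]), (105, [0, 4, -3, 0, 0]), (105, [0, -3, 4, 0, 0]), (420, [0, 11, -10, 0,
    0]), (420, [0, 4, -3, 0, 0]), (420, [0, -3, 4, 0, 0]), (420, [0, -10, 11, 0, 0]), (1260, [0, 25, -24, 0,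
    0]), (1260, [0, 18, -17, 0, 0]), (1260, [0, 11, -10, 0, 0]), (1260, [0, 4, -3, 0, 0]), (1260, [0, -3, 4, 0,
    0]), (1260, [0, -10, 11, 0, 0]), (1260, [0, -17, 18, 0, 0]), (1260, [0, -24, 25, 0, 0])], [], [[(22, 1),
    (55, 1)], [(99, 1), (132, 1)]], none, (some []), none⟩

/-- data for the degrees [21, 32, 56, 56, 60] -/
def row87 : RowData :=
  ⟨[21, 32, 56, 56, 60], [(1920, [-11, 0, -8, -24, -20]), (1920, [-11, 0, -24, -8, -20])], [(10, [1, 2, 1, 1,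
    0]), (30, [1, 2, 1, 1, 0]), (30, [1, -3, 1, -4, 0]), (30, [1, -3, -4, 1, 0]), (60, [6, -3, 1, 1, 0]), (60,
    [1, 2, 6, -4, 0]), (60, [1, 2, 1, 1, 0]), (60, [1, 2, -4, 6, 0]), (60, [1, -3, 1, -4, 0]), (60, [1, -3, -4,
    1, 0]), (60, [-4, 2, 1, -4, 0]), (60, [-4, 2, -4, 1, 0]), (60, [-4, -3, -4, -4, 0]), (160, [1, -8, -4, -4,
    0]), (180, [6, 7, 6, 6, 0]), (180, [6, 2, 11, -4, 0]), (180, [6, 2, 6, 1, 0]), (180, [6, 2, 1, 6, 0]), (180,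
    [6, 2, -4, 11, 0]), (180, [6, -3, 6, -4, 0]), (180, [6, -3, 1, 1, 0]), (180, [6, -3, -4, 6, 0]), (180, [6,
    -8, 1, -4, 0]), (180, [6, -8, -4, 1, 0]), (180, [-9, 7, 1, -4, 0]), (180, [-9, 7, -4, 1, 0]), (180, [-9, 2,
    1, -9, 0]), (180, [-9, 2, -4, -4, 0]), (180, [-9, 2, -9, 1, 0]), (360, [6, 12, 11, 6, 0]), (360, [6, 12, 6,
    11, 0]), (360, [6, 2, 11, -4, 0]), (360, [6, 2, 6, 1, 0]), (360, [6, 2, 1, 6, 0]), (360, [6, 2, -4, 11, 0]),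
    (360, [6, -8, 6, -9, 0]), (360, [6, -8, 1, -4, 0]), (360, [6, -8, -4, 1, 0]), (360, [6, -8, -9, 6, 0]),
    (360, [-9, 12, 6, -4, 0]), (360, [-9, 12, 1, 1, 0]), (360, [-9, 12, -4, 6, 0]), (360, [-9, 2, 6, -14, 0]),
    (360, [-9, 2, 1, -9, 0]), (360, [-9, 2, -4, -4, 0]), (360, [-9, 2, -9, 1, 0]), (360, [-9, 2, -14, 6, 0]),
    (360, [-9, -8, -4, -14, 0]), (360, [-9, -8, -9, -9, 0]), (360, [-9, -8, -14, -4, 0]), (480, [11, -8, 6, -4,
    0]), (480, [11, -8, -4, 6, 0]), (480, [1, -8, 6, -14, 0]), (480, [1, -8, -4, -4, 0]), (480, [1, -8, -14, 6,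
    0]), (480, [-9, -8, -4, -14, 0]), (480, [-9, -8, -14, -4, 0])], [(56, [0, 4, 0, 0, -3]), (84, [0, 4, 0, 0,
    -3]), (84, [0, -3, 0, 0, 4]), (420, [0, 11, 0, 0, -10]), (3360, [0, -24, 0, 0, 25])], [], [], none, none,
    none⟩

/-- data for the degrees [21, 32, 120, 144, 28] -/
def row88 : RowData :=
  ⟨[21, 32, 120, 144, 28], [], [], [], [], [], none, none, none⟩

/-- data for the degrees [21, 32, 144, 252, 160] -/
def row89 : RowData :=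
  ⟨[21, 32, 144, 252, 160], [], [], [], [], [], none, none, none⟩

/-- data for the degrees [21, 32, 252, 320, 16] -/
def row90 : RowData :=
  ⟨[21, 32, 252, 320, 16], [], [], [], [], [], none, none, none⟩

/-- data for the degrees [21, 45, 45, 56, 126] -/
def row91 : RowData :=
  ⟨[21, 45, 45, 56, 126], [(384, [9, 9, -3, 8, 6]), (384, [9, -3, 9, 8, 6])], [(5, [1, 0, 0, 1, 1]), (10, [1, 0,
    0, 1, 1]), (80, [6, 0, 0, 6, 1]), (80, [6, 0, 0, 1, -4]), (80, [1, 0, 0, 1, 1]), (80, [1, 0, 0, -4, -4]),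
    (80, [-4, 0, 0, -4, 1]), (160, [6, 0, 0, 6, 1]), (160, [1, 0, 0, 6, 6]), (160, [1, 0, 0, -4, -4]), (160,
    [-4, 0, 0, -4, 1]), (360, [6, 0, 0, -4, -9]), (480, [16, 0, 0, 6, -9]), (480, [11, 0, 0, 16, 6]), (480, [6,
    0, 0, -4, -9]), (480, [1, 0, 0, 6, 6]), (480, [-4, 0, 0, -14, -9]), (480, [-9, 0, 0, -4, 6]), (960, [11, 0,
    0, 16, 6]), (960, [6, 0, 0, -4, -9]), (960, [-9, 0, 0, -4, 6]), (960, [-14, 0, 0, -24, -9])], [(28, [0, 3,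
    -4, 0, 0]), (28, [0, -4, 3, 0, 0]), (56, [0, 3, -4, 0, 0]), (56, [0, -4, 3, 0, 0]), (224, [0, 10, -11, 0,
    0]), (224, [0, 3, -4, 0, 0]), (224, [0, -4, 3, 0, 0]), (224, [0, -11, 10, 0, 0]), (448, [0, 10, -11, 0, 0]),
    (448, [0, 3, -4, 0, 0]), (448, [0, -4, 3, 0, 0]), (448, [0, -11, 10, 0, 0])], [], [[(22, 1), (22, 1)], [(55,
    1), (99, 1)], [(132, 1), (176, 1)]], none, none, none⟩

/-- data for the degrees [21, 45, 45, 210, 280] -/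
def row92 : RowData :=
  ⟨[21, 45, 45, 210, 280], [(384, [5, -3, -3, 2, -8]), (1152, [9, 9, 9, 6, 16])], [(5, [1, 0, 0, 0, 0]), (10,
    [1, 0, 0, 0, 0]), (30, [1, 0, 0, 0, 0]), (60, [1, 0, 0, 0, 0]), (80, [1, 0, 0, 0, 0]), (160, [1, 0, 0, 0,
    0]), (480, [1, 0, 0, 0, 0]), (960, [1, 0, 0, 0, 0])], [(28, [0, 3, -4, 0, 0]), (28, [0, -4, 3, 0, 0]), (56,
    [0, 3, -4, 0, 0]), (56, [0, -4, 3, 0, 0]), (224, [0, 10, -11, 0, 0]), (224, [0, 3, -4, 0, 0]), (224, [0, -4,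
    3, 0, 0]), (224, [0, -11, 10, 0, 0]), (448, [0, 10, -11, 0, 0]), (448, [0, 3, -4, 0, 0]), (448, [0, -4, 3,
    0, 0]), (448, [0, -11, 10, 0, 0])], [[(11, 1), (11, 1), (44, 1)], [(11, 1), (66, 1), (99, 1)], [(11, 1),
    (231, 1), (264, 1)], [(44, 1), (44, 1), (66, 1)], [(44, 1), (154, 1), (176, 1)], [(66, 1), (66, 1), (154,
    1)], [(66, 1), (176, 1), (264, 1)], [(99, 1), (99, 1), (176, 1)], [(99, 1), (154, 1), (231, 1)]], [[(22, 1),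
    (22, 1)], [(55, 1), (99, 1)], [(132, 1), (176, 1)]], (some []), (some []), none⟩

/-- data for the degrees [21, 56, 56, 120, 28] -/
def row93 : RowData :=
  ⟨[21, 56, 56, 120, 28], [], [], [], [], [], none, none, none⟩

/-- data for the degrees [21, 56, 56, 252, 160] -/
def row94 : RowData :=
  ⟨[21, 56, 56, 252, 160], [], [], [], [], [], none, none, none⟩

/-- data for the degrees [21, 56, 120, 144, 60] -/
def row95 : RowData :=
  ⟨[21, 56, 120, 144, 60], [], [], [], [], [], none, none, none⟩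

/-- data for the degrees [21, 56, 120, 210, 126] -/
def row96 : RowData :=
  ⟨[21, 56, 120, 210, 126], [(384, [5, 0, 0, 10, 6]), (384, [-7, 8, 0, -10, 6]), (640, [5, 0, 0, 10, 6]), (640,
    [-7, 8, 0, -10, 6]), (640, [-11, -16, 0, 10, 6]), (1920, [5, 0, 0, 10, 6]), (1920, [1, 8, 0, 10, 18]),
    (1920, [1, -8, 0, -10, -18]), (1920, [-7, 8, 0, -10, 6]), (1920, [-11, -16, 0, 10, 6])], [(5, [1, 1, 0, 0,
    1]), (10, [1, 1, 0, 0, 1]), (80, [6, 6, 0, 0, 1]), (80, [6, 1, 0, 0, -4]), (80, [1, 1, 0, 0, 1]), (80, [1,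
    -4, 0, 0, -4]), (80, [-4, -4, 0, 0, 1]), (160, [6, 6, 0, 0, 1]), (160, [1, 6, 0, 0, 6]), (160, [1, -4, 0, 0,
    -4]), (160, [-4, -4, 0, 0, 1]), (360, [6, -4, 0, 0, -9]), (480, [16, 6, 0, 0, -9]), (480, [11, 16, 0, 0,
    6]), (480, [6, -4, 0, 0, -9]), (480, [1, 6, 0, 0, 6]), (480, [-4, -14, 0, 0, -9]), (480, [-9, -4, 0, 0, 6]),
    (960, [11, 16, 0, 0, 6]), (960, [6, -4, 0, 0, -9]), (960, [-9, -4, 0, 0, 6]), (960, [-14, -24, 0, 0, -9])],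
    [(7, [0, 0, 1, 0, 0]), (28, [0, 0, 1, 0, 0]), (56, [0, 0, 1, 0, 0]), (84, [0, 0, 1, 0, 0])], [], [[(55, 1),
    (66, 2)], [(99, 1), (220, 2)], [(132, 1), (11, 2)]], (some [(240, [5, 0, 0, 10, 6]), (320, [5, 0, 0, 10,
    6]), (320, [-7, 8, 0, -10, 6]), (480, [5, 0, 0, 10, 6]), (480, [-7, 8, 0, -10, 6]), (640, [5, 0, 0, 10, 6]),
    (640, [-7, 8, 0, -10, 6]), (640, [-11, -16, 0, 10, 6]), (960, [5, 0, 0, 10, 6]), (960, [1, 8, 0, 10, 18]),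
    (960, [1, -8, 0, -10, -18]), (960, [-3, 12, 20, 10, 6]), (960, [-7, 8, 0, -10, 6]), (960, [-11, -16, 0, 10,
    6]), (1920, [5, 0, 0, 10, 6]), (1920, [1, 8, 0, 10, 18]), (1920, [1, -8, 0, -10, -18]), (1920, [-7, 8, 0,
    -10, 6]), (1920, [-11, -16, 0, 10, 6])]), none, none⟩

/-- data for the degrees [21, 56, 120, 252, 336] -/
def row97 : RowData :=
  ⟨[21, 56, 120, 252, 336], [(1920, [5, 0, 0, 12, 16]), (1920, [-11, 16, 0, 12, -16]), (1920, [-11, -16, 0, 12,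
    16])], [(10, [1, 1, 0, 2, 1]), (30, [1, -4, 0, -3, 1]), (60, [6, 1, 0, -3, 1]), (60, [1, 1, 0, -3, -4]),
    (60, [1, -4, 0, -3, 1]), (80, [1, 6, 0, 2, -4]), (80, [1, 1, 0, -3, -4]), (80, [-4, 1, 0, 2, -4]), (80, [-4,
    -4, 0, -3, -4]), (160, [6, 6, 0, -3, -4]), (160, [1, 6, 0, 2, -4]), (160, [1, -4, 0, -8, -4]), (160, [-4, 6,
    0, 7, -4]), (160, [-4, -4, 0, -3, -4]), (160, [-9, -4, 0, 2, -4]), (480, [6, 6, 0, -3, -4]), (480, [1, 16,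
    0, 12, -4]), (480, [-4, -4, 0, -3, -4]), (480, [-9, 6, 0, 12, -4]), (480, [-14, -14, 0, -3, -4]), (960, [1,
    -4, 0, 12, 16])], [(7, [0, 0, 1, 0, 0]), (28, [0, 0, 1, 0, 0]), (56, [0, 0, 1, 0, 0]), (84, [0, 0, 1, 0,
    0])], [], [[(55, 1), (66, 2)], [(99, 1), (220, 2)], [(132, 1), (11, 2)]], none, none, none⟩

/-- data for the degrees [21, 56, 144, 252, 72] -/
def row98 : RowData :=
  ⟨[21, 56, 144, 252, 72], [], [], [], [], [], none, none, none⟩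

/-- data for the degrees [21, 56, 210, 252, 6] -/
def row99 : RowData :=
  ⟨[21, 56, 210, 252, 6], [], [], [], [], [], none, none, none⟩

/-- data for the degrees [21, 56, 320, 384, 28] -/
def row100 : RowData :=
  ⟨[21, 56, 320, 384, 28], [], [], [], [], [], none, none, none⟩

/-- data for the degrees [21, 120, 120, 320, 60] -/
def row101 : RowData :=
  ⟨[21, 120, 120, 320, 60], [], [], [], [], [], none, none, none⟩

/-- data for the degrees [21, 120, 210, 210, 280] -/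
def row102 : RowData :=
  ⟨[21, 120, 210, 210, 280], [(128, [5, 0, 6, -2, 0]), (128, [5, 0, -2, 6, 0]), (384, [5, 0, 6, -2, 0]), (384,
    [5, 0, -2, 6, 0]), (384, [-3, 8, 2, -6, -8]), (384, [-3, 8, -6, 2, -8]), (384, [-3, -8, 2, -6, 8]), (384,
    [-3, -8, -6, 2, 8]), (896, [-7, 8, 14, -14, 0]), (896, [-7, 8, -14, 14, 0]), (1152, [9, 0, 18, -18, -8]),
    (1152, [9, 0, -18, 18, -8]), (1152, [-3, 0, 6, 6, 16]), (2688, [-7, 8, 14, -14, 0]), (2688, [-7, 8, -14, 14,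
    0])], [(5, [1, 0, 0, 0, 0]), (10, [1, 0, 0, 0, 0]), (30, [1, 0, 0, 0, 0]), (60, [1, 0, 0, 0, 0]), (80, [1,
    0, 0, 0, 0]), (160, [1, 0, 0, 0, 0]), (480, [1, 0, 0, 0, 0]), (960, [1, 0, 0, 0, 0])], [(7, [0, 1, 0, 0,
    0]), (28, [0, 1, 0, 0, 0]), (56, [0, 1, 0, 0, 0]), (84, [0, 1, 0, 0, 0])], [[(11, 1), (11, 1), (44, 1)],
    [(11, 1), (66, 1), (99, 1)], [(11, 1), (231, 1), (264, 1)], [(44, 1), (44, 1), (66, 1)], [(44, 1), (154, 1),
    (176, 1)], [(66, 1), (66, 1), (154, 1)], [(66, 1), (176, 1), (264, 1)], [(99, 1), (99, 1), (176, 1)], [(99,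
    1), (154, 1), (231, 1)]], [[(55, 1), (66, 2)], [(99, 1), (220, 2)], [(132, 1), (11, 2)]], (some []), none,
    none⟩

/-- data for the degrees [21, 120, 252, 320, 72] -/
def row103 : RowData :=
  ⟨[21, 120, 252, 320, 72], [], [], [], [], [], none, none, none⟩

/-- data for the degrees [21, 144, 144, 252, 16] -/
def row104 : RowData :=
  ⟨[21, 144, 144, 252, 16], [], [], [], [], [], none, none, none⟩

/-- data for the degrees [21, 144, 252, 320, 192] -/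
def row105 : RowData :=
  ⟨[21, 144, 252, 320, 192], [], [], [], [], [], none, none, none⟩

/-- data for the degrees [21, 144, 320, 384, 60] -/
def row106 : RowData :=
  ⟨[21, 144, 320, 384, 60], [], [], [], [], [], none, none, none⟩

/-- data for the degrees [21, 210, 210, 384, 16] -/
def row107 : RowData :=
  ⟨[21, 210, 210, 384, 16], [(128, [5, 6, -2, 0, 0]), (128, [5, -2, 6, 0, 0]), (384, [5, 6, -2, 0, 0]), (384,
    [5, -2, 6, 0, 0])], [(5, [1, 0, 0, -1, 1]), (60, [1, 0, 0, 4, -4]), (60, [-4, 0, 0, 4, 1])], [(35, [0, 0, 0,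
    -1, 2]), (105, [0, 0, 0, -1, 2]), (105, [0, 0, 0, 6, -5]), (280, [0, 0, 0, -8, 9]), (420, [0, 0, 0, -8, 9]),
    (840, [0, 0, 0, -8, 9])], [], [], none, none, none⟩

/-- data for the degrees [21, 210, 320, 384, 126] -/
def row108 : RowData :=
  ⟨[21, 210, 320, 384, 126], [(384, [5, 10, 0, 0, 6]), (640, [5, 10, 0, 0, 6]), (1920, [5, 10, 0, 0, 6])], [(5,
    [1, 0, 0, -1, 1])], [(7, [0, 0, -2, -1, 0]), (105, [0, 0, 5, 6, 0])], [], [], none, none, none⟩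

/-- data for the degrees [32, 32, 45, 144, 126] -/
def row109 : RowData :=
  ⟨[32, 32, 45, 144, 126], [], [], [], [], [], none, none, none⟩

/-- data for the degrees [32, 32, 45, 210, 192] -/
def row110 : RowData :=
  ⟨[32, 32, 45, 210, 192], [], [], [], [], [], none, none, none⟩

/-- data for the degrees [32, 32, 210, 252, 105] -/
def row111 : RowData :=
  ⟨[32, 32, 210, 252, 105], [], [], [], [], [], none, none, none⟩

/-- data for the degrees [32, 32, 252, 320, 5] -/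
def row112 : RowData :=
  ⟨[32, 32, 252, 320, 5], [], [], [], [], [], none, none, none⟩

/-- data for the degrees [32, 45, 56, 56, 126] -/
def row113 : RowData :=
  ⟨[32, 45, 56, 56, 126], [], [], [], [], [], none, none, none⟩

/-- data for the degrees [32, 45, 56, 210, 280] -/
def row114 : RowData :=
  ⟨[32, 45, 56, 210, 280], [], [], [], [], [], none, none, none⟩

/-- data for the degrees [32, 45, 210, 252, 28] -/
def row115 : RowData :=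
  ⟨[32, 45, 210, 252, 28], [], [], [], [], [], none, none, none⟩

/-- data for the degrees [32, 45, 210, 384, 160] -/
def row116 : RowData :=
  ⟨[32, 45, 210, 384, 160], [], [], [], [], [], none, none, none⟩

/-- data for the degrees [32, 144, 144, 252, 5] -/
def row117 : RowData :=
  ⟨[32, 144, 144, 252, 5], [], [], [], [], [], none, none, none⟩

/-- data for the degrees [32, 210, 210, 384, 5] -/
def row118 : RowData :=
  ⟨[32, 210, 210, 384, 5], [], [], [], [], [], none, none, none⟩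

/-- data for the degrees [45, 45, 45, 56, 192] -/
def row119 : RowData :=
  ⟨[45, 45, 45, 56, 192], [], [], [], [], [], none, none, none⟩

/-- data for the degrees [45, 45, 45, 120, 16] -/
def row120 : RowData :=
  ⟨[45, 45, 45, 120, 16], [], [], [], [], [], none, none, none⟩

/-- data for the degrees [45, 45, 45, 144, 280] -/
def row121 : RowData :=
  ⟨[45, 45, 45, 144, 280], [], [], [], [], [], none, none, none⟩

/-- data for the degrees [45, 45, 56, 252, 105] -/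
def row122 : RowData :=
  ⟨[45, 45, 56, 252, 105], [], [], [], [], [], none, none, none⟩

/-- data for the degrees [45, 56, 120, 144, 126] -/
def row123 : RowData :=
  ⟨[45, 56, 120, 144, 126], [(896, [-7, 0, 8, 0, -14]), (4480, [25, 0, 40, 0, -14])], [(5, [0, 1, 0, -1, 1]),
    (10, [0, 1, 0, -1, 1]), (80, [0, 6, 0, -6, 1]), (80, [0, 1, 0, -6, -4]), (80, [0, -4, 0, 4, 1]), (160, [0,
    -4, 0, 4, 1])], [(28, [3, 0, 1, -3, 0]), (56, [3, 0, 1, -3, 0]), (56, [-4, 0, 1, 4, 0]), (84, [3, 0, 1, -3,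
    0]), (224, [3, 0, 8, 4, 0]), (224, [-11, 0, -6, 4, 0])], [], [], (some [(4480, [25, 0, 40, 0, -14])]), none,
    none⟩

/-- data for the degrees [45, 56, 120, 210, 192] -/
def row124 : RowData :=
  ⟨[45, 56, 120, 210, 192], [(896, [-3, 0, -16, -14, 0]), (2688, [-3, 0, -16, -14, 0])], [(10, [0, 1, 0, 0, 2]),
    (30, [0, 1, 0, 0, 2]), (60, [0, 1, 0, 0, 2])], [(56, [-4, 0, 1, 0, -4])], [], [], none, none, none⟩

/-- data for the degrees [45, 56, 144, 252, 6] -/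
def row125 : RowData :=
  ⟨[45, 56, 144, 252, 6], [], [], [], [], [], none, none, none⟩

/-- data for the degrees [45, 56, 210, 252, 60] -/
def row126 : RowData :=
  ⟨[45, 56, 210, 252, 60], [], [], [], [], [], none, none, none⟩

/-- data for the degrees [45, 56, 210, 384, 72] -/
def row127 : RowData :=
  ⟨[45, 56, 210, 384, 72], [], [], [], [], [], none, none, none⟩

/-- data for the degrees [45, 120, 120, 210, 16] -/
def row128 : RowData :=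
  ⟨[45, 120, 120, 210, 16], [(896, [-3, 0, -16, -14, 0]), (896, [-3, -16, 0, -14, 0]), (2688, [-3, 0, -16, -14,
    0]), (2688, [-3, -16, 0, -14, 0])], [(5, [0, 0, 0, 0, 1]), (10, [0, 0, 0, 0, 1]), (30, [0, 0, 0, 0, 1]),
    (35, [0, 0, 0, 0, 1]), (60, [0, 0, 0, 0, 1]), (105, [0, 0, 0, 0, 1]), (180, [0, 0, 0, 0, 1]), (210, [0, 0,
    0, 0, 1]), (280, [0, 0, 0, 0, 1]), (360, [0, 0, 0, 0, 1]), (630, [0, 0, 0, 0, 1]), (1260, [0, 0, 0, 0, 1])],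
    [(28, [3, 1, 1, 0, 2]), (56, [3, 1, 1, 0, 2]), (84, [3, 1, 1, 0, 2]), (672, [3, 8, 8, 0, -12])], [[(11, 1),
    (44, 1)], [(66, 1), (99, 1)], [(231, 1), (264, 1)]], [], none, none, none⟩

/-- data for the degrees [45, 120, 120, 320, 126] -/
def row129 : RowData :=
  ⟨[45, 120, 120, 320, 126], [(896, [-7, 8, 0, 0, -14]), (896, [-7, 0, 8, 0, -14]), (4480, [25, 40, 0, 0, -14]),
    (4480, [25, 0, 40, 0, -14])], [(5, [0, 0, 0, 0, 1]), (10, [0, 0, 0, 0, 1]), (80, [0, 0, 0, 0, 1]), (160, [0,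
    0, 0, 0, 1])], [(28, [3, 1, 1, -2, 0]), (84, [3, 1, 1, -2, 0]), (672, [3, -6, -6, -16, 0])], [[(11, 1),
    (264, 1)], [(99, 1), (154, 1)]], [], none, none, none⟩

/-- data for the degrees [45, 120, 144, 210, 280] -/
def row130 : RowData :=
  ⟨[45, 120, 144, 210, 280], [(896, [-3, -16, 0, -14, 0]), (2688, [-3, -16, 0, -14, 0])], [(5, [0, 0, -1, 0,
    0]), (10, [0, 0, -1, 0, 0]), (35, [0, 0, -1, 0, 0]), (280, [0, 0, -1, 0, 0])], [(28, [3, 1, -3, 0, 0]), (56,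
    [3, 1, -3, 0, 0]), (56, [-4, 1, 4, 0, 0]), (84, [3, 1, -3, 0, 0]), (224, [3, 8, 4, 0, 0]), (224, [-11, -6,
    4, 0, 0])], [[(11, 1), (44, 1), (176, 1)], [(11, 1), (66, 1), (66, 1)], [(11, 1), (99, 1), (231, 1)], [(44,
    1), (44, 1), (231, 1)], [(66, 1), (99, 1), (176, 1)], [(66, 1), (154, 1), (231, 1)], [(99, 1), (154, 1),
    (396, 1)], [(176, 1), (231, 1), (264, 1)]], [], none, none, none⟩

/-- data for the degrees [45, 120, 252, 320, 6] -/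
def row131 : RowData :=
  ⟨[45, 120, 252, 320, 6], [], [], [], [], [], none, none, none⟩

/-- data for the degrees [45, 144, 210, 384, 16] -/
def row132 : RowData :=
  ⟨[45, 144, 210, 384, 16], [], [], [], [], [], none, none, none⟩

/-- data for the degrees [45, 144, 210, 560, 160] -/
def row133 : RowData :=
  ⟨[45, 144, 210, 560, 160], [], [], [], [], [], none, none, none⟩

/-- data for the degrees [45, 144, 320, 384, 126] -/
def row134 : RowData :=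
  ⟨[45, 144, 320, 384, 126], [], [], [], [], [], none, none, none⟩

/-- data for the degrees [45, 210, 320, 384, 192] -/
def row135 : RowData :=
  ⟨[45, 210, 320, 384, 192], [], [], [], [], [], none, none, none⟩

/-- data for the degrees [56, 56, 144, 252, 5] -/
def row136 : RowData :=
  ⟨[56, 56, 144, 252, 5], [], [], [], [], [], none, none, none⟩

/-- data for the degrees [56, 120, 210, 252, 105] -/
def row137 : RowData :=
  ⟨[56, 120, 210, 252, 105], [(384, [0, 8, -2, -12, -3])], [(10, [1, 0, 0, 2, 0]), (30, [-4, 0, 0, -3, 0]), (60,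
    [-4, 0, 0, -3, 0]), (80, [1, 0, 0, 2, 0]), (80, [-4, 0, 0, -3, 0]), (160, [6, 0, 0, 7, 0]), (160, [-4, 0, 0,
    -3, 0]), (480, [-4, 0, 0, -3, 0])], [(7, [0, 1, 0, 0, 0]), (28, [0, 1, 0, 0, 0]), (56, [0, 1, 0, 0, 0]),
    (84, [0, 1, 0, 0, 0])], [], [[(55, 1), (66, 2)], [(99, 1), (220, 2)], [(132, 1), (11, 2)]], none, none,
    none⟩

/-- data for the degrees [56, 120, 252, 320, 5] -/
def row138 : RowData :=
  ⟨[56, 120, 252, 320, 5], [], [], [], [], [], none, none, none⟩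

/-- data for the degrees [144, 210, 210, 560, 5] -/
def row139 : RowData :=
  ⟨[144, 210, 210, 560, 5], [], [], [], [], [], none, none, none⟩

/-- data for the degrees [210, 252, 320, 384, 105] -/
def row140 : RowData :=
  ⟨[210, 252, 320, 384, 105], [], [], [], [], [], none, none, none⟩

/-- data for the degrees [252, 320, 320, 384, 5] -/
def row141 : RowData :=
  ⟨[252, 320, 320, 384, 5], [], [], [], [], [], none, none, none⟩

/-- all certified rows -/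
def certRows : List RowData :=
  [row0, row1, row2, row3, row4, row5, row6, row7, row8, row9, row10, row11, row12, row13, row14, row15,
    row16, row17, row18, row19, row20, row21, row22, row23, row24, row25, row26, row27, row28, row29, row30,
    row31, row32, row33, row34, row35, row36, row37, row38, row39, row40, row41, row42, row43, row44, row45,
    row46, row47, row48, row49, row50, row51, row52, row53, row54, row55, row56, row57, row58, row59, row60,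
    row61, row62, row63, row64, row65, row66, row67, row68, row69, row70, row71, row72, row73, row74, row75,
    row76, row77, row78, row79, row80, row81, row82, row83, row84, row85, row86, row87, row88, row89, row90,
    row91, row92, row93, row94, row95, row96, row97, row98, row99, row100, row101, row102, row103, row104,
    row105, row106, row107, row108, row109, row110, row111, row112, row113, row114, row115, row116, row117,
    row118, row119, row120, row121, row122, row123, row124, row125, row126, row127, row128, row129, row130,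
    row131, row132, row133, row134, row135, row136, row137, row138, row139, row140, row141]

end Cfsg.Agent.MTwentyTwo.ByOrder
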