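import Cfsg.Agent.Lib.Spor.MTwentyTwoOrder.NotBig

/-!
The two-part of the centraliser of a four-group has order sixteen.
-/

set_option autoImplicit false
set_option linter.unusedSectionVars false
set_option linter.style.haveILetI false

namespace Cfsg.Agent.MTwentyTwo.ByOrder

open Cfsg
open scoped Pointwise

universe u

variable {G : Type u} [Group G] [Fintype G] {H : Cls G}

include H in
/-- An element of order five normalises only subgroups of suitable orders. -/
theorem five_dvd {f : G} (hf : orderOf f = 5) {P : Subgroup G} (hfP : f ∈ Subgroup.normalizer (P : Set G))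
    (h5 : ¬ 5 ∣ Nat.card P) : 5 ∣ Nat.card P - 1 := by
  haveI : Fact (Nat.Prime 5) := ⟨by norm_num⟩
  have h := free_diff (Subgroup.zpowers f) ⊥ P bot_le (fun k _ => normal_of_conj fun x hx => by
      rw [Subgroup.mem_bot] at hx ⊢
      rw [hx]; group)
    (fun k hk => (Subgroup.zpowers_le.2 hfP) hk) fun k hk hk1 x hx hkx => by
      rw [Subgroup.mem_bot]
      have hko : orderOf k = 5 := by
        have := Subgroup.orderOf_dvd_natCard _ hk
        rw [Nat.card_zpowers, hf, Nat.dvd_prime (by norm_num)] at this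
        exact this.resolve_left fun e => hk1 (orderOf_eq_one_iff.1 e)
      have h1 := Subgroup.orderOf_dvd_natCard (s := Subgroup.centralizer ({k} : Set G)) (mem_cent.2 hkx.symm)
      rw [show Nat.card (Subgroup.centralizer ({k} : Set G)) = 5 from H.five k hko,
        Nat.dvd_prime (by norm_num)] at h1
      exact orderOf_eq_one_iff.1 (h1.resolve_right fun e => h5 (e ▸ Subgroup.orderOf_dvd_natCard _ hx))
  rwa [Nat.card_zpowers, hf, Subgroup.card_bot] at h

include H in
/-- An element fixed by a third element of order three in the product of two four-groups is trivial. -/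
theorem third_disjoint {S : Subgroup G} {y z k x : G} (hyz : Duo S y z) (hyk : Duo S y k) (hzk : Duo S z k)
    (hle : four z ≤ Subgroup.centralizer (four y : Set G)) (hx : x ∈ four y ⊔ four z) (hkx : Commute k x) :
    x = 1 := by
  obtain ⟨-, -, hdec⟩ := hyz.dbl (H := H) hle
  obtain ⟨v, hv, w, hw, rfl⟩ := hdec x hx
  have hkv : k * v * k⁻¹ ∈ four y := (Subgroup.mem_normalizer_iff.1 (hyk.symm.smul_four (H := H)) v).1 hv
  have hkw : k * w * k⁻¹ ∈ four z := (Subgroup.mem_normalizer_iff.1 (hzk.symm.smul_four (H := H)) w).1 hw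
  have e1 : k * v * k⁻¹ * (k * w * k⁻¹) = v * w := by
    rw [show k * v * k⁻¹ * (k * w * k⁻¹) = k * (v * w) * k⁻¹ by group]
    exact mul_inv_eq_iff_eq_mul.2 hkx.eq
  have e2 : v⁻¹ * (k * v * k⁻¹) = w * (k * w * k⁻¹)⁻¹ := by
    calc v⁻¹ * (k * v * k⁻¹) = v⁻¹ * (k * v * k⁻¹ * (k * w * k⁻¹)) * (k * w * k⁻¹)⁻¹ := by group
      _ = _ := by rw [e1]; group
  have e3 := hyz.disjoint (H := H) (mul_mem (inv_mem hv) hkv) (e2 ▸ mul_mem hw (inv_mem hkw))
  have e4 := e2.symm.trans e3
  have hV := hyz.nine.exists_four (H := H) hyz.left fun e => hyz.indep' (e ▸ one_mem _)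
  have hW := hyz.nine.exists_four (H := H) hyz.right fun e => hyz.indep (e ▸ one_mem _)
  rw [inv_mul_eq_one] at e3
  rw [mul_inv_eq_one] at e4
  rw [hV.fixed k hyk.right hyk.indep v hv (mul_inv_eq_iff_eq_mul.1 e3.symm),
    hW.fixed k hzk.right hzk.indep w hw (mul_inv_eq_iff_eq_mul.1 e4.symm), mul_one]

include H in
theorem not_big : ¬ ∀ t y : G, Pair t y → Nat.card (rad y) = 64 := by
  classical
  intro hbig
  haveI : Fact (Nat.Prime 3) := ⟨Nat.prime_three⟩
  haveI : Fact (Nat.Prime 5) := ⟨by norm_num⟩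
  obtain ⟨y, hy⟩ := exists_prime_orderOf_dvd_card' (G := G) 3 (by rw [H.card]; norm_num)
  obtain ⟨t, h⟩ := exists_pair_of_three (H := H) hy
  obtain ⟨Q, hQ⟩ := h.exists_core (H := H)
  obtain ⟨S, hS, hyS⟩ := H.exists_nine hy
  obtain ⟨hQe, hQV⟩ := big_core (H := H) hbig h hQ
  obtain ⟨f, -, hf⟩ := exists_count (H := H) h hQ hS hyS
  obtain ⟨hduo, hsep, -, hnum⟩ := hf (hbig t y h)
  obtain ⟨i, j, hij, hI⟩ := Finset.card_eq_two.1 hnum
  have hmI : ∀ a ∈ ({i, j} : Finset (Fin 3)), four (f a) ≤ rad y := fun a ha => by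
    rw [← hI] at ha
    exact (Finset.mem_filter.1 ha).2
  have hi : four (f i) ≤ rad y := hmI i (by simp)
  have hj : four (f j) ≤ rad y := hmI j (by simp)
  set z := f i
  set k := f j
  have hyz := hduo i
  have hyk := hduo j
  have hzk := hsep i j hij
  have hzo : orderOf z = 3 := hyz.three'
  have hzV : four z ≤ Subgroup.centralizer (four y : Set G) := fun x hx => hQV (hQe ▸ hi hx)
  obtain ⟨hEc, hEsq, -⟩ := hyz.dbl (H := H) hzV
  set E := four y ⊔ four z with hE
  set N := Subgroup.normalizer (E : Set G) with hN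
  have hQN : ∀ q ∈ Q, q ∈ N := hQ.dbl_normal (H := H) h hyz hi
  have hV := hS.exists_four (H := H) hyS fun e => hyz.indep' (e ▸ one_mem _)
  have hW := hS.exists_four (H := H) hyz.right fun e => hyz.indep (e ▸ one_mem _)
  have hU := hS.exists_four (H := H) hyk.right fun e => hyk.indep (e ▸ one_mem _)
  have hUQ : four k ≤ Q := hQe ▸ hj
  have hyn : y ∈ Subgroup.normalizer (four y : Set G) := four_normal (H := H) hy (Or.inl (by group))
  -- elements of the third four-group move the second
  have hmove : ∀ w ∈ four k, MulAut.conj w • four z = four z → w = 1 := by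
    intro w hw hwz
    by_contra hw1
    set M := Subgroup.normalizer (four z : Set G) ⊓ Q with hM
    have hyQ := hQ.normal y h.comm.symm
    have hyz' := hyz.smul_four (H := H)
    have hyM : y ∈ Subgroup.normalizer (M : Set G) := normal_of_conj fun c hc =>
      ⟨(Subgroup.normalizer (four z : Set G)).mul_mem ((Subgroup.normalizer (four z : Set G)).mul_mem hyz' hc.1)
        (inv_mem hyz'), (Subgroup.mem_normalizer_iff.1 hyQ c).1 hc.2⟩
    have hEM : E ≤ M := fun x hx => ⟨normal_of_conj fun b hb => by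
        have hbE : b ∈ E := (le_sup_right : four z ≤ E) hb
        have : x * b * x⁻¹ = b := by
          calc x * b * x⁻¹ = (x * b * (x * b)) * (b⁻¹ * x⁻¹ * x⁻¹) := by group
            _ = b := by
              rw [hEsq _ (mul_mem hx hbE), inv_eq_of_mul_eq_one_right (hEsq x hx),
                inv_eq_of_mul_eq_one_right (hEsq b hbE), one_mul, mul_assoc, hEsq x hx, mul_one]
        rw [this]; exact hb,
      sup_le hQ.four_le (hQe ▸ hi) hx⟩
    have hwE : w ∉ E := fun hwE => hw1 (third_disjoint (H := H) hyz hyk hzk hzV hwE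
      ((mem_four (H := H) hyk.three').1 hw).1.symm)
    have hwM : w ∈ M := ⟨normal_iff_smul.2 hwz, hUQ hw⟩
    have h16 : 16 < Nat.card M := by
      rw [← hEc]
      exact lt_of_le_of_ne (Nat.le_of_dvd Nat.card_pos (Subgroup.card_dvd_of_le hEM)) fun e =>
        hwE ((Subgroup.eq_of_le_of_card_ge hEM e.ge).symm ▸ hwM)
    have h2 : Nat.card M ∣ 2 ^ 6 := by
      rw [show (2 : ℕ) ^ 6 = 64 from rfl, ← hQ.card]; exact Subgroup.card_dvd_of_le inf_le_right
    have hyE : y ∈ N := by
      rw [hN, normal_iff_smul, hE, Subgroup.smul_sup, normal_iff_smul.1 hyn, normal_iff_smul.1 hyz']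
    have hd := free_diff (Subgroup.zpowers y) E M hEM (fun a ha => (Subgroup.zpowers_le.2 hyE) ha)
      (fun a ha => (Subgroup.zpowers_le.2 hyM) ha) fun a ha ha1 x hx hax =>
        (le_sup_left : four y ≤ E) (pow_four (H := H) hy (of_zpowers hy ha ha1 hax).symm (by
          have := pow_card_eq_one' (G := Q) (x := ⟨x, hx.2⟩)
          rw [hQ.card] at this
          exact congrArg Subtype.val this))
    rw [Nat.card_zpowers, hy, hEc] at hd
    obtain ⟨e, he, he'⟩ := (Nat.dvd_prime_pow Nat.prime_two).1 h2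
    rw [he'] at h16 hd
    have he6 : e = 6 := by interval_cases e <;> omega
    have hMQ : M = Q := Subgroup.eq_of_le_of_card_ge inf_le_right (by rw [he', he6, hQ.card]; norm_num)
    obtain ⟨q, hq, -, hq'⟩ := exists_mover (H := H) hbig hyz hi
    exact hq' (normal_iff_smul.1 (hMQ.symm ▸ (hQe ▸ hq) : q ∈ M).1)
  -- the five lines
  let line : G → Subgroup G := fun w => MulAut.conj w • four z
  set L : Finset (Subgroup G) := insert (four y) ((Finset.univ.filter fun w : G => w ∈ four k).image line) with hL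
  have hlineE : ∀ w ∈ four k, line w ≤ E := fun w hw x hx => by
    have hx' : x ∈ MulAut.conj w • E :=
      Subgroup.pointwise_smul_le_pointwise_smul_iff.2 (le_sup_right : four z ≤ E) hx
    rwa [normal_iff_smul.1 (hQN w (hUQ hw))] at hx'
  have hconjV : ∀ q ∈ Q, MulAut.conj q • four y = four y := fun q hq => normal_iff_smul.1
    (normal_of_conj fun x hx => by
      rw [← Subgroup.mem_centralizer_iff.1 (hQV hq) x hx, mul_assoc, mul_inv_cancel, mul_one]; exact hx)
  have hLmem : ∀ ℓ ∈ L, (∃ y', orderOf y' = 3 ∧ ℓ = four y') ∧ ℓ ≤ E := by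
    intro ℓ hℓ
    rw [hL, Finset.mem_insert, Finset.mem_image] at hℓ
    rcases hℓ with rfl | ⟨w, hw, rfl⟩
    · exact ⟨⟨y, hy, rfl⟩, le_sup_left⟩
    · simp only [Finset.mem_filter, Finset.mem_univ, true_and] at hw
      exact ⟨⟨_, three_conj_order hzo w, conj_four (H := H) hzo w⟩, hlineE w hw⟩
  have hLcard : L.card = 5 := by
    rw [hL, Finset.card_insert_of_notMem, Finset.card_image_of_injOn, card_filter, hU.card]
    · intro a ha b hb e
      simp only [Finset.coe_filter, Finset.mem_univ, true_and, Set.mem_setOf_eq] at ha hb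
      have := hmove (a⁻¹ * b) (mul_mem (inv_mem ha) hb) (by
        rw [map_mul, mul_smul, show MulAut.conj b • four z = MulAut.conj a • four z from e.symm, ← mul_smul, ← map_mul, inv_mul_cancel, map_one, one_smul])
      exact inv_mul_eq_one.1 this
    · rw [Finset.mem_image]
      rintro ⟨w, hw, e⟩
      simp only [Finset.mem_filter, Finset.mem_univ, true_and] at hw
      have e2 : four z = four y := by
        rw [← one_smul (MulAut G) (four z), ← map_one MulAut.conj, ← inv_mul_cancel w, map_mul, mul_smul,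
          show MulAut.conj w • four z = four y from e, hconjV _ (Q.inv_mem (hUQ hw))]
      haveI : Nontrivial (four z) := Finite.one_lt_card_iff_nontrivial.1 (by rw [hW.card]; norm_num)
      obtain ⟨⟨x, hx⟩, hx1⟩ := exists_ne (1 : four z)
      exact hx1 (Subtype.ext (hyz.disjoint (H := H) (e2 ▸ hx) hx))
  have hL4 : ∀ ℓ ∈ L, Nat.card ℓ = 4 := fun ℓ hℓ => by
    obtain ⟨⟨y', hy', rfl⟩, -⟩ := hLmem ℓ hℓ
    obtain ⟨S', -, -, hV'⟩ := exists_sg (H := H) hy'
    exact hV'.card
  let pts : Subgroup G → Finset G := fun ℓ => (Finset.univ.filter fun x : G => x ∈ ℓ).erase 1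
  have hcover : L.biUnion pts = pts E := by
    refine Finset.eq_of_subset_of_card_le (fun x hx => ?_) ?_
    · simp only [pts, Finset.mem_biUnion, Finset.mem_erase, Finset.mem_filter, Finset.mem_univ, true_and] at hx ⊢
      obtain ⟨ℓ, hℓ, hx1, hx⟩ := hx
      exact ⟨hx1, (hLmem ℓ hℓ).2 hx⟩
    · rw [Finset.card_biUnion fun a ha b hb hab => Finset.disjoint_left.2 fun x hxa hxb => hab ?_,
        Finset.sum_const_nat (m := 3) (fun ℓ hℓ => by
          simp only [pts]
          rw [Finset.card_erase_of_mem (by simp [one_mem]), card_filter, hL4 ℓ hℓ]), hLcard]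
      · simp only [pts]
        rw [Finset.card_erase_of_mem (by simp [one_mem]), card_filter, hEc]
      · simp only [pts, Finset.mem_erase, Finset.mem_filter, Finset.mem_univ, true_and] at hxa hxb
        obtain ⟨⟨a', ha', rfl⟩, -⟩ := hLmem a ha
        obtain ⟨⟨b', hb', rfl⟩, -⟩ := hLmem b hb
        exact big_eq (H := H) hbig hb' ha' hxb.2 hxa.2 hxa.1
  have hin : ∀ y', orderOf y' = 3 → four y' ≤ E → four y' ∈ L := by
    intro y' hy' hle
    obtain ⟨S', -, -, hV'⟩ := exists_sg (H := H) hy'
    haveI : Nontrivial (four y') := Finite.one_lt_card_iff_nontrivial.1 (by rw [hV'.card]; norm_num)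
    obtain ⟨⟨x, hx⟩, hx1'⟩ := exists_ne (1 : four y')
    have hx1 : x ≠ 1 := fun e => hx1' (Subtype.ext e)
    have hxE : x ∈ L.biUnion pts := by rw [hcover]; simp [pts, hx1, hle hx]
    obtain ⟨ℓ, hℓ, hxℓ⟩ := Finset.mem_biUnion.1 hxE
    simp only [pts, Finset.mem_erase, Finset.mem_filter, Finset.mem_univ, true_and] at hxℓ
    obtain ⟨⟨a', ha', rfl⟩, -⟩ := hLmem ℓ hℓ
    rwa [big_eq (H := H) hbig ha' hy' hxℓ.2 hx hx1]
  -- one orbit
  set Nv := N ⊓ Subgroup.normalizer (four y : Set G) with hNv
  let orb : G → Subgroup G := fun n => MulAut.conj n • four y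
  have horbL : ∀ n ∈ N, orb n ∈ L := fun n hn => by
    show MulAut.conj n • four y ∈ L
    rw [conj_four (H := H) hy]
    refine hin _ (three_conj_order hy n) ?_
    rw [← conj_four (H := H) hy, ← normal_iff_smul.1 hn]
    exact Subgroup.pointwise_smul_le_pointwise_smul_iff.2 le_sup_left
  have horb : ((Finset.univ.filter fun x : G => x ∈ N).image orb) = L := by
    refine Finset.Subset.antisymm (fun ℓ hℓ => ?_) fun ℓ hℓ => ?_
    · obtain ⟨n, hn, rfl⟩ := Finset.mem_image.1 hℓ
      exact horbL n (Finset.mem_filter.1 hn).2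
    have hyrad : four y ≤ rad z := fun x hx => Subgroup.subset_closure ⟨Subgroup.mem_centralizer_iff.2 fun b hb =>
      (Subgroup.mem_centralizer_iff.1 (hzV hb) x hx).symm, by
        rw [show 64 = 2 * 32 from rfl, pow_mul, pow_two, hV.sq x hx, one_pow]⟩
    obtain ⟨q, -, hqN, hq⟩ := exists_mover (H := H) hbig hyz.symm hyrad
    rw [show four z ⊔ four y = E from sup_comm _ _] at hqN
    have hqL := horbL q hqN
    rw [hL, Finset.mem_insert, Finset.mem_image] at hqL
    obtain ⟨w0, hw0, hw0e⟩ := hqL.resolve_left hq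
    simp only [Finset.mem_filter, Finset.mem_univ, true_and] at hw0
    rw [hL, Finset.mem_insert, Finset.mem_image] at hℓ
    rcases hℓ with rfl | ⟨w, hw, rfl⟩
    · exact Finset.mem_image.2 ⟨1, by simp [one_mem], by simp [orb]⟩
    · simp only [Finset.mem_filter, Finset.mem_univ, true_and] at hw
      refine Finset.mem_image.2 ⟨w * w0⁻¹ * q, Finset.mem_filter.2 ⟨Finset.mem_univ _,
        N.mul_mem (hQN _ (Q.mul_mem (hUQ hw) (Q.inv_mem (hUQ hw0)))) hqN⟩, ?_⟩
      show MulAut.conj (w * w0⁻¹ * q) • four y = MulAut.conj w • four z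
      rw [map_mul, mul_smul, ← show line w0 = MulAut.conj q • four y from hw0e, ← mul_smul, ← map_mul,
        inv_mul_cancel_right]
  have hcardN : Nat.card N = 5 * Nat.card Nv := by
    rw [card_orbit N Nv inf_le_left orb fun a ha b hb => ?_, horb, hLcard]
    constructor
    · intro e
      refine ⟨N.mul_mem (N.inv_mem ha) hb, normal_iff_smul.2 ?_⟩
      rw [map_mul, mul_smul, show MulAut.conj b • four y = MulAut.conj a • four y from e.symm, ← mul_smul, ← map_mul, inv_mul_cancel, map_one, one_smul]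
    · intro e
      show MulAut.conj a • four y = MulAut.conj b • four y
      nth_rewrite 1 [← normal_iff_smul.1 e.2]
      rw [← mul_smul, ← map_mul, mul_inv_cancel_left]
  -- the kernel
  have h5Nv : ¬ 5 ∣ Nat.card Nv := fun h5 => by
    obtain ⟨⟨g, hg⟩, hgo⟩ := exists_prime_orderOf_dvd_card' (G := Nv) 5 h5
    rw [Subgroup.orderOf_mk] at hgo
    have := five_dvd (H := H) hgo hg.2 (by rw [hV.card]; norm_num)
    rw [hV.card] at this
    norm_num at this
  set K := (Nv.subgroupOf N).normalCore with hK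
  have hkN : k ∈ N := by
    rw [hN, normal_iff_smul, hE, Subgroup.smul_sup, normal_iff_smul.1 (hyk.symm.smul_four (H := H)),
      normal_iff_smul.1 (hzk.symm.smul_four (H := H))]
  have hkK : (⟨k, hkN⟩ : N) ∈ K := by
    intro b
    show (b * ⟨k, hkN⟩ * b⁻¹ : N) ∈ Nv.subgroupOf N
    refine ⟨(b * (⟨k, hkN⟩ : N) * b⁻¹).2, normal_iff_smul.2 ?_⟩
    show MulAut.conj ((b : G) * k * (b : G)⁻¹) • four y = four y
    have hfix : MulAut.conj k • orb (b : G)⁻¹ = orb (b : G)⁻¹ := by
      have hb := horbL _ (N.inv_mem b.2)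
      rw [hL, Finset.mem_insert, Finset.mem_image] at hb
      rcases hb with e | ⟨w, hw, e⟩
      · rw [e]; exact normal_iff_smul.1 (hyk.symm.smul_four (H := H))
      · rw [← e]
        simp only [Finset.mem_filter, Finset.mem_univ, true_and] at hw
        show MulAut.conj k • MulAut.conj w • four z = MulAut.conj w • four z
        rw [← mul_smul, ← map_mul, ((mem_four (H := H) hyk.three').1 hw).1.symm.eq, map_mul, mul_smul,
          normal_iff_smul.1 (hzk.symm.smul_four (H := H))]
    rw [map_mul, map_mul, mul_smul, mul_smul]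
    show MulAut.conj (b : G) • MulAut.conj k • orb (b : G)⁻¹ = four y
    rw [hfix]
    show MulAut.conj (b : G) • MulAut.conj (b : G)⁻¹ • four y = four y
    rw [← mul_smul, ← map_mul, mul_inv_cancel, map_one, one_smul]
  have h5K : ¬ 5 ∣ Nat.card K := fun h5 => h5Nv (h5.trans (by
    rw [← Nat.card_congr (Subgroup.subgroupOfEquivOfLe (show Nv ≤ N from inf_le_left)).toEquiv]
    exact Subgroup.card_dvd_of_le (Subgroup.normalCore_le _)))
  have h5N : 5 ∣ Nat.card N := hcardN ▸ dvd_mul_right 5 _
  haveI : K.Normal := Subgroup.normalCore_normal _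
  obtain ⟨P⟩ : Nonempty (Sylow 3 K) := inferInstance
  have htop := Sylow.normalizer_sup_eq_top P
  set P1 := (P : Subgroup K).map K.subtype with hP1
  set NP := Subgroup.normalizer (P1 : Set N)
  have h5NP : 5 ∣ Nat.card NP := by
    have h1 : K.index ∣ Nat.card NP := by
      rw [← Subgroup.relIndex_top_right, ← htop, Subgroup.relIndex_sup_right]
      exact Subgroup.relIndex_dvd_card _ _
    have h2 : 5 ∣ Nat.card K * K.index := by rw [Subgroup.card_mul_index]; exact h5N
    exact (((show Nat.Prime 5 by norm_num).dvd_mul).1 h2).resolve_left h5K |>.trans h1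
  obtain ⟨⟨g, hg⟩, hgo⟩ := exists_prime_orderOf_dvd_card' (G := NP) 5 h5NP
  rw [Subgroup.orderOf_mk] at hgo
  set P2 := P1.map N.subtype with hP2
  have hgP2 : (g : G) ∈ Subgroup.normalizer (P2 : Set G) := normal_of_conj fun x hx => by
    obtain ⟨a, ha, rfl⟩ := hx
    exact ⟨g * a * g⁻¹, (Subgroup.mem_normalizer_iff.1 hg a).1 ha, rfl⟩
  have hP2c : Nat.card P2 = Nat.card P := by
    rw [hP2, Subgroup.card_map_of_injective N.subtype_injective, hP1,
      Subgroup.card_map_of_injective K.subtype_injective]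
  have hP3 : 3 ∣ Nat.card P := by
    rw [P.card_eq_multiplicity]
    refine dvd_pow_self 3 ?_
    have h3K : 3 ∣ Nat.card K := by
      have := Subgroup.orderOf_dvd_natCard _ hkK
      rwa [Subgroup.orderOf_mk, hyk.three'] at this
    exact (Nat.prime_three.factorization_pos_of_dvd Nat.card_pos.ne' h3K).ne'
  have hPdvd : Nat.card P ∣ 9 := by
    obtain ⟨n, hn⟩ := IsPGroup.iff_card.1 P.isPGroup'
    have h1 : Nat.card P ∣ Nat.card G := hP2c ▸ Subgroup.card_subgroup_dvd_card P2
    rw [hn, H.card] at h1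
    have hn2 : n ≤ 2 := by
      by_contra hlt
      have := (pow_dvd_pow 3 (show 3 ≤ n by omega)).trans h1
      norm_num at this
    rw [hn, show (9 : ℕ) = 3 ^ 2 from rfl]
    exact pow_dvd_pow 3 hn2
  rw [← hP2c] at hP3 hPdvd
  have hgo' : orderOf (g : G) = 5 := by rw [Subgroup.orderOf_coe]; exact hgo
  have := five_dvd (H := H) hgo' hgP2 fun h5 => by
    have := h5.trans hPdvd
    norm_num at this
  obtain ⟨e, he, he'⟩ := (Nat.dvd_prime_pow Nat.prime_three).1 (show Nat.card P2 ∣ 3 ^ 2 by simpa using hPdvd)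
  rw [he'] at hP3 this
  interval_cases e <;> first | (norm_num at hP3; done) | (norm_num at this)

include H in
/-- The two-part has order sixteen. -/
theorem card_rad {t y : G} (h : Pair t y) : Nat.card (rad y) = 16 := by
  obtain ⟨Q, hQ⟩ := h.exists_core (H := H)
  refine (hQ.rad_eq (H := H) h).2.1.resolve_right fun e => not_big (H := H) fun t' y' h' => ?_
  rw [← card_rad_eq (H := H) h h', e]

end Cfsg.Agent.MTwentyTwo.ByOrder
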