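import Mathlib.GroupTheory.Coset.Card
import Mathlib.GroupTheory.Nilpotent
import Mathlib.GroupTheory.NoncommCoprod
import Mathlib.GroupTheory.Sylow
import Mathlib.Tactic

/-!
Elementary facts on free conjugation actions and on two-groups.
-/

set_option autoImplicit false
set_option linter.unusedSectionVars false

namespace Cfsg.Agent.MTwentyTwo.ByOrder

universe u

variable {G : Type u} [Group G] [Fintype G]

/-- A set on which a subgroup acts freely by conjugation has order divisible by that of the subgroup. -/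
theorem free_dvd (K : Subgroup G) (Ω : Finset G) (hinv : ∀ k ∈ K, ∀ x ∈ Ω, k * x * k⁻¹ ∈ Ω)
    (hfree : ∀ k ∈ K, ∀ x ∈ Ω, k * x * k⁻¹ = x → k = 1) : Nat.card K ∣ Ω.card := by
  classical
  let orb : G → Finset G := fun x => (Finset.univ : Finset K).image fun k : K => (k : G) * x * (k : G)⁻¹
  rw [Finset.card_eq_sum_card_fiberwise (f := orb) (t := Ω.image orb) fun x hx => Finset.mem_image_of_mem _ hx]
  refine Finset.dvd_sum fun o ho => ?_
  obtain ⟨x, hx, rfl⟩ := Finset.mem_image.1 ho
  have hself : ∀ y, y ∈ orb y := fun y => Finset.mem_image.2 ⟨1, Finset.mem_univ _, by simp⟩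
  have hfib : Ω.filter (fun y => orb y = orb x) = orb x := by
    ext y
    simp only [Finset.mem_filter]
    constructor
    · exact fun h => h.2 ▸ hself y
    · intro hy
      obtain ⟨k, -, rfl⟩ := Finset.mem_image.1 hy
      refine ⟨hinv k k.2 x hx, Finset.ext fun z => ?_⟩
      constructor
      · intro hz
        obtain ⟨j, -, rfl⟩ := Finset.mem_image.1 hz
        refine Finset.mem_image.2 ⟨j * k, Finset.mem_univ _, ?_⟩
        show (j : G) * k * x * ((j : G) * k)⁻¹ = _
        group
      · intro hz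
        obtain ⟨j, -, rfl⟩ := Finset.mem_image.1 hz
        refine Finset.mem_image.2 ⟨j * k⁻¹, Finset.mem_univ _, ?_⟩
        show (j : G) * (k : G)⁻¹ * ((k : G) * x * (k : G)⁻¹) * ((j : G) * (k : G)⁻¹)⁻¹ = _
        group
  rw [hfib, Finset.card_image_of_injective, Finset.card_univ, Nat.card_eq_fintype_card]
  intro j k h
  refine Subtype.ext ?_
  have hjk := hfree ((k : G)⁻¹ * j) (mul_mem (inv_mem k.2) j.2) x hx (by
    calc (k : G)⁻¹ * j * x * ((k : G)⁻¹ * j)⁻¹ = (k : G)⁻¹ * (j * x * (j : G)⁻¹) * k := by group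
      _ = (k : G)⁻¹ * (k * x * (k : G)⁻¹) * k := congrArg (fun y => (k : G)⁻¹ * y * k) h
      _ = x := by group)
  exact (inv_mul_eq_one.1 hjk).symm

theorem card_filter (K : Subgroup G) [DecidablePred (· ∈ K)] :
    (Finset.univ.filter fun x : G => x ∈ K).card = Nat.card K := by
  rw [← Fintype.card_subtype, ← Nat.card_eq_fintype_card]

/-- In a two-group the normaliser of a proper subgroup is bigger. -/
theorem lt_normalizer_inf {H Q : Subgroup G} (hQ : IsPGroup 2 Q) (hHQ : H ≤ Q) (hne : H ≠ Q) :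
    H < Subgroup.normalizer (H : Set G) ⊓ Q := by
  haveI : Fact (Nat.Prime 2) := ⟨Nat.prime_two⟩
  haveI := hQ.isNilpotent
  have h1 : H.subgroupOf Q < ⊤ := lt_top_iff_ne_top.2 fun e => hne (le_antisymm hHQ (Subgroup.subgroupOf_eq_top.1 e))
  obtain ⟨⟨x, hxQ⟩, hx, hxn⟩ := SetLike.exists_of_lt (Group.normalizerCondition_of_isNilpotent _ h1)
  rw [← Subgroup.subgroupOf_normalizer_eq hHQ] at hx
  exact lt_of_le_of_ne (le_inf Subgroup.le_normalizer hHQ) fun e => hxn (e ▸ ⟨hx, hxQ⟩ : x ∈ H)

end Cfsg.Agent.MTwentyTwo.ByOrder
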