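import Cfsg.Agent.Lib.Spor.MTwentyTwoOrder.Columns
import Cfsg.Agent.Lib.Spor.MTwentyTwoOrder.SylowArith

/-!
Completeness of the searches on lists of degrees and values.
-/

set_option autoImplicit false
set_option maxRecDepth 100000

namespace Cfsg.Agent.MTwentyTwo.ByOrder

theorem mem_combos : ∀ {n : ℕ} {l L : List ℕ}, l.Pairwise (· ≤ ·) → L.Pairwise (· < ·) → (∀ x ∈ l, x ∈ L) →
    l.length = n → l ∈ combos n L := by
  intro n
  induction n with
  | zero =>
    intro l L _ _ _ hlen
    simp [combos, List.length_eq_zero_iff.1 hlen]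
  | succ n ih =>
    intro l L hl hL hsub hlen
    obtain ⟨x, l', rfl⟩ : ∃ x l', l = x :: l' := by
      cases l with
      | nil => simp at hlen
      | cons x l' => exact ⟨x, l', rfl⟩
    obtain ⟨A, B, rfl⟩ := List.append_of_mem (hsub x (by simp))
    refine List.mem_flatMap.2 ⟨x :: B, (List.mem_tails _ _).2 (List.suffix_append A _), List.mem_map.2 ⟨l', ?_, rfl⟩⟩
    rw [List.pairwise_cons] at hl
    rw [List.pairwise_append] at hL
    refine ih hl.2 hL.2.1 (fun z hz => ?_) (by simpa using hlen)
    rcases List.mem_append.1 (hsub z (List.mem_cons_of_mem _ hz)) with h | h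
    · have h1 := hL.2.2 z h x (by simp)
      have h2 := hl.1 z hz
      omega
    · exact h

theorem lin_append (p : ℕ) : ∀ {D : List ℕ} {V : List ℤ}, D.length = V.length → ∀ (E : List ℕ) (W : List ℤ),
    lin p (D ++ E) (V ++ W) = lin p D V + lin p E W
  | [], [], _, _, _ => by simp [lin]
  | d :: D, v :: V, h, E, W => by
    simp only [List.cons_append, lin, lin_append p (by simpa using h) E W]
    ring

theorem dot_append : ∀ {V V' : List ℤ}, V.length = V'.length → ∀ W W' : List ℤ,
    dot (V ++ W) (V' ++ W') = dot V V' + dot W W'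
  | [], [], _, _, _ => by simp [dot]
  | v :: V, v' :: V', h, W, W' => by
    simp only [List.cons_append, dot, dot_append (by simpa using h) W W']
    ring

theorem lin_replicate (p d : ℕ) (z : ℤ) : ∀ m : ℕ,
    lin p (List.replicate m d) (List.replicate m z) = (m : ℤ) * cfp p d * z
  | 0 => by simp [lin]
  | m + 1 => by
    simp only [List.replicate_succ, lin, lin_replicate p d z m]
    push_cast
    ring

theorem dot_replicate (z : ℤ) : ∀ m : ℕ, dot (List.replicate m z) (List.replicate m z) = (m : ℤ) * (z * z)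
  | 0 => by simp [dot]
  | m + 1 => by
    simp only [List.replicate_succ, dot, dot_replicate z m]
    push_cast
    ring

theorem length_expand : ∀ {ex : Ext} {zs : List ℤ}, ex.length = zs.length →
    (extDegs ex).length = (expand ex zs).length
  | [], [], _ => rfl
  | (d, m) :: ex, z :: zs, h => by
    simp [extDegs, expand, length_expand (ex := ex) (zs := zs) (by simpa using h)]

theorem lin_expand (p : ℕ) (f : ℕ × ℕ → List ℤ) : ∀ {ex : Ext} {zs : List ℤ}, ex.length = zs.length →
    lin p (extDegs ex) (expand ex zs) =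
      wlin (ex.map fun x => (f x, (x.2 : ℤ) * cfp p x.1, (x.2 : ℤ))) zs ∧
    dot (expand ex zs) (expand ex zs) = wsq (ex.map fun x => (f x, (x.2 : ℤ) * cfp p x.1, (x.2 : ℤ))) zs
  | [], [], _ => by simp [extDegs, expand, lin, dot, wlin, wsq]
  | (d, m) :: ex, z :: zs, h => by
    have hlen : ex.length = zs.length := by simpa using h
    obtain ⟨h1, h2⟩ := lin_expand p f hlen
    simp only [extDegs, expand, List.map_cons, wlin, wsq]
    rw [lin_append p (by simp), dot_append (by simp), lin_replicate, dot_replicate, h1, h2]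
    simp

/-- The values on the further characters are found. -/
theorem mem_extSols {p C m : ℕ} {D : List ℕ} {V : List ℤ} {ex : Ext} {zs : List ℤ} (hlen : D.length = V.length)
    (hz : List.Forall₂ (fun x z => z ∈ rngE m x.1 C) ex zs)
    (hlin : lin p (D ++ extDegs ex) (V ++ expand ex zs) = 0)
    (hn : dot (V ++ expand ex zs) (V ++ expand ex zs) ≤ (C : ℤ)) : zs ∈ extSols p D ex (C, V, m) := by
  obtain ⟨h1, h2⟩ := lin_expand p (fun x => rngE m x.1 C) hz.length_eq
  rw [lin_append p hlen, h1] at hlin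
  rw [dot_append rfl, h2] at hn
  refine mem_sols ?_ hlin hn
  clear hlin hn h1 h2
  induction hz with
  | nil => exact List.Forall₂.nil
  | cons h _ ih => exact List.Forall₂.cons ⟨h, Int.natCast_nonneg _⟩ ih

/-- The columns of the eleven-block are found. -/
theorem mem_colsOf {a b c e g : ℕ} {va vb vc ve w : ℤ} {C : ℕ} {f : ℕ → List ℤ} (ha : va ∈ f a) (hb : vb ∈ f b)
    (hc : vc ∈ f c) (he : ve ∈ f e) (hg : w ∈ f g)
    (hlin : lin 11 (fullD [a, b, c, e, g]) (fullV [va, vb, vc, ve, w]) = 0)
    (hn : dot (fullV [va, vb, vc, ve, w]) (fullV [va, vb, vc, ve, w]) ≤ (C : ℤ)) :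
    [va, vb, vc, ve, w] ∈ colsOf [a, b, c, e, g] C f := by
  refine List.mem_map.2 ⟨[va, vb, vc, w, ve], mem_sols ?_ ?_ ?_, rfl⟩
  · exact .cons ⟨ha, by norm_num⟩ (.cons ⟨hb, by norm_num⟩ (.cons ⟨hc, by norm_num⟩ (.cons ⟨hg, by norm_num⟩
      (.cons ⟨he, by norm_num⟩ .nil))))
  · have h1 : cfp 11 1 = 2 := by rfl
    simp only [fullD, fullV, lin, h1] at hlin
    simp only [wlin]
    linarith
  · simp only [fullV, dot] at hn
    simp only [wsq]
    linarith

theorem dX_table : ∀ d ∈ dEven, (d % 11 = 1 ∨ d % 11 = 10) → d ∈ dX := by decide +kernel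

theorem dY_table : ∀ d ∈ dEven, (d % 11 = 5 ∨ d % 11 = 6) → d ∈ dY := by decide +kernel

/-- The rows of degrees are found. -/
theorem mem_rowsAll {a b c e g : ℕ} (ha : a ∈ dX) (hb : b ∈ dX) (hc : c ∈ dX) (he : e ∈ dX) (hg : g ∈ dY)
    (hab : a ≤ b) (hbc : b ≤ c) (hce : c ≤ e)
    (hlin : lin 11 (fullD [a, b, c, e, g]) ((fullD [a, b, c, e, g]).map fun d : ℕ => (d : ℤ)) = 0)
    (hn : dot ((fullD [a, b, c, e, g]).map fun d : ℕ => (d : ℤ)) ((fullD [a, b, c, e, g]).map fun d : ℕ => (d : ℤ)) ≤
      (443520 : ℤ)) : [a, b, c, e, g] ∈ rowsAll := by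
  refine List.mem_flatMap.2 ⟨a, ha, List.mem_flatMap.2 ⟨b, hb, ?_⟩⟩
  rw [show decide (b < a) = false from decide_eq_false (by omega)]
  refine List.mem_flatMap.2 ⟨c, hc, ?_⟩
  rw [show decide (c < b) = false from decide_eq_false (by omega)]
  refine List.mem_flatMap.2 ⟨e, he, ?_⟩
  rw [show decide (e < c) = false from decide_eq_false (by omega)]
  refine List.mem_filterMap.2 ⟨g, hg, ?_⟩
  simp only [fullD, List.map, dot, add_zero] at hn
  have h1 : 1 + (a * a + b * b + c * c + e * e) + 2 * (g * g) ≤ 443520 := by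
    have : ((1 + (a * a + b * b + c * c + e * e) + 2 * (g * g) : ℕ) : ℤ) ≤ ((443520 : ℕ) : ℤ) := by
      push_cast at hn ⊢
      linarith
    exact_mod_cast this
  simp only [fullD, List.map] at hlin
  simp only [Nat.cast_one] at hlin
  simp [h1, hlin]

/-- A choice of compatible columns shows that the check passes. -/
theorem choose'_sound {p : ℕ} {D : List ℕ} : ∀ {os : List (List Col)} {As : List Col} {acc : List Col},
    List.Forall₂ (fun o A => A ∈ o) os As →
    (∀ A ∈ As, pairOk p D A A = true) →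
    (∀ A ∈ As, ∀ B ∈ acc, pairOk p D B A = true ∧ orthOk B.1 B.2 A.1 A.2 = true) →
    As.Pairwise (fun B A => pairOk p D B A = true ∧ orthOk B.1 B.2 A.1 A.2 = true) →
    choose' p D os acc = true := by
  intro os As acc h
  induction h generalizing acc with
  | nil => intros; rfl
  | @cons o A os' As' hA _ ih =>
    intro hself hacc hpw
    rw [List.pairwise_cons] at hpw
    refine List.any_eq_true.2 ⟨A, hA, ?_⟩
    simp only [joins, Bool.and_eq_true, List.all_eq_true]
    refine ⟨⟨hself A (by simp), fun B hB => hacc A (by simp) B hB⟩,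
      ih (fun A' hA' => hself A' (by simp [hA'])) (fun A' hA' B hB => ?_) hpw.2⟩
    rcases List.mem_append.1 hB with hB | hB
    · exact hacc A' (by simp [hA']) B hB
    · rw [List.mem_singleton.1 hB]
      exact hpw.1 A' hA'

end Cfsg.Agent.MTwentyTwo.ByOrder
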