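import Cfsg.Agent.Lib.Spor.MTwentyTwoOrder.PBlock
import Cfsg.Agent.Lib.Spor.MTwentyTwoOrder.Sylow
import Cfsg.Agent.Lib.Spor.MTwentyTwoOrder.Lists

/-!
The eleven-block of a group of the order of the Mathieu group of degree twenty-two.
-/

set_option autoImplicit false
set_option linter.unusedSectionVars false
set_option linter.style.haveILetI false

namespace Cfsg.Agent.MTwentyTwo.ByOrder

open Cfsg Cfsg.Agent.Char Cfsg.Agent.Small.Order459648
open Cfsg.Agent.MTwelve.OrderFront (val_one int_value natAbs_lt one_add_sq_le)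
open scoped ComplexConjugate

universe u

local instance fact11 : Fact (Nat.Prime 11) := ⟨by norm_num⟩

variable {G : Type u} [Group G] [Fintype G] [IsSimpleGroup G]

/-- The eleven-block with its characters listed. -/
structure Front (G : Type u) [Group G] [Fintype G] where
  /-- the block -/
  B : PBlk 11 G
  /-- the non-exceptional characters other than the trivial one -/
  c : Fin 4 → IrrCharacter G
  /-- the first exceptional character -/
  θ : IrrCharacter G
  /-- the second exceptional character -/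
  θ' : IrrCharacter G
  card : Nat.card G = 443520
  e5 : B.e = 5
  c_mem : ∀ i, c i ∈ B.X
  c_ne : ∀ i, c i ≠ oneChar
  θ_mem : θ ∈ B.Y
  θ'_mem : θ' ∈ B.Y
  nodup : [oneChar, c 0, c 1, c 2, c 3, θ, θ'].Nodup
  cover : ∀ χ ∈ B.S, χ ∈ [oneChar, c 0, c 1, c 2, c 3, θ, θ']
  sorted : ∀ i j, i ≤ j → charDegree (c i : G → ℂ) ≤ charDegree (c j : G → ℂ)

theorem exists_front (hG : Nat.card G = 443520) : Nonempty (Front G) := by
  classical
  obtain ⟨P, hP, hC, he⟩ := exists_eleven hG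
  obtain ⟨B, -, hBe, hBt⟩ := exists_pblk (e := 5) (t := 2) (Or.inl ⟨rfl, rfl, rfl⟩) P hP hC he
  obtain ⟨θ, θ', hne, hY⟩ := Finset.card_eq_two.1 (B.cardY.trans hBt)
  have hXc : (B.X.erase oneChar).card = 4 :=
    (Finset.card_erase_of_mem B.one_mem).trans (by rw [B.pp.cardX, hBe])
  have h4 : Fintype.card ↥(B.X.erase oneChar) = 4 := by rw [Fintype.card_coe, hXc]
  let e0 : Fin 4 ≃ ↥(B.X.erase oneChar) := (Fintype.equivFinOfCardEq h4).symm
  let f : Fin 4 → ℕ := fun i => charDegree ((e0 i : IrrCharacter G) : G → ℂ)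
  let e1 : Fin 4 ≃ ↥(B.X.erase oneChar) := (Tuple.sort f).trans e0
  let c : Fin 4 → IrrCharacter G := fun i => (e1 i : IrrCharacter G)
  have hcm : ∀ i, c i ≠ oneChar ∧ c i ∈ B.X := fun i => Finset.mem_erase.1 (e1 i).2
  have hcinj : Function.Injective c := Subtype.val_injective.comp e1.injective
  have hdisj : ∀ χ ∈ B.X, χ ≠ θ ∧ χ ≠ θ' := fun χ hχ => by
    have h := Finset.disjoint_left.1 B.pp.disj hχ
    rw [hY] at h
    simpa using h
  refine ⟨⟨B, c, θ, θ', hG, hBe, fun i => (hcm i).2, fun i => (hcm i).1, by simp [hY], by simp [hY], ?_, ?_,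
    fun i j hij => Tuple.monotone_sort f hij⟩⟩
  · have h0 : ∀ i, oneChar ≠ c i := fun i => Ne.symm (hcm i).1
    have hc : ∀ i j, i ≠ j → c i ≠ c j := fun i j h => hcinj.ne h
    have ho := hdisj _ B.one_mem
    have hd : ∀ i, c i ≠ θ ∧ c i ≠ θ' := fun i => hdisj _ (hcm i).2
    simp [h0, hne, ho, hd, hc 0 1, hc 0 2, hc 0 3, hc 1 2, hc 1 3, hc 2 3]
  · intro χ hχ
    rcases B.mem_S.1 hχ with h | h
    · by_cases h1 : χ = oneChar
      · simp [h1]
      · have hi : c (e1.symm ⟨χ, Finset.mem_erase.2 ⟨h1, h⟩⟩) = χ := by simp [c]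
        revert hi
        generalize e1.symm ⟨χ, Finset.mem_erase.2 ⟨h1, h⟩⟩ = i
        intro hi
        fin_cases i <;> simp_all
    · rw [hY] at h
      rcases Finset.mem_insert.1 h with rfl | h
      · simp
      · simp [Finset.mem_singleton.1 h]

namespace Front

variable (F : Front G)

/-- the list of the characters of the block -/
noncomputable def L : List (IrrCharacter G) := [oneChar, F.c 0, F.c 1, F.c 2, F.c 3, F.θ, F.θ']

/-- the degrees of the four characters -/
noncomputable def d (i : Fin 4) : ℕ := charDegree (F.c i : G → ℂ)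

/-- the exceptional degree -/
noncomputable def g0 : ℕ := charDegree (F.θ : G → ℂ)

/-- the row of degrees -/
noncomputable def row : List ℕ := [F.d 0, F.d 1, F.d 2, F.d 3, F.g0]

theorem L_nodup : F.L.Nodup := F.nodup

theorem L_cover : ∀ χ ∈ F.B.S, χ ∈ F.L := F.cover

theorem θ_ne : F.θ ≠ oneChar := fun e => Finset.disjoint_left.1 F.B.pp.disj F.B.one_mem (e ▸ F.θ_mem)

theorem L_mem {χ : IrrCharacter G} (h : χ ∈ F.L) : χ ∈ F.B.S := by
  simp only [L, List.mem_cons, List.not_mem_nil, or_false] at h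
  rcases h with rfl | rfl | rfl | rfl | rfl | rfl | rfl
  exacts [F.B.mem_S.2 (Or.inl F.B.one_mem), F.B.mem_S.2 (Or.inl (F.c_mem 0)), F.B.mem_S.2 (Or.inl (F.c_mem 1)),
    F.B.mem_S.2 (Or.inl (F.c_mem 2)), F.B.mem_S.2 (Or.inl (F.c_mem 3)), F.B.mem_S.2 (Or.inr F.θ_mem),
    F.B.mem_S.2 (Or.inr F.θ'_mem)]

theorem regY {g : G} (hg : ¬ 11 ∣ orderOf g) : (F.θ' : G → ℂ) g = (F.θ : G → ℂ) g :=
  F.B.pp.regY _ F.θ'_mem _ F.θ_mem g hg

theorem deg_θ' : charDegree (F.θ' : G → ℂ) = F.g0 := by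
  have h := F.regY (g := 1) (by simp)
  rw [val_one, val_one] at h
  exact_mod_cast h

theorem deg_one : charDegree ((oneChar : IrrCharacter G) : G → ℂ) = 1 := by simp [charDegree, oneChar]

theorem degs_L : degs F.L = fullD F.row := by
  simp [degs, L, row, fullD, d, g0, deg_one, F.deg_θ']

theorem d_mod (i : Fin 4) : F.d i % 11 = 1 ∨ F.d i % 11 = 10 := by
  have h := (F.B.cfp_X (F.c_mem i)).1
  simp only [d]
  omega

theorem g0_mod : F.g0 % 11 = 5 ∨ F.g0 % 11 = 6 := by
  have h := (F.B.cfp_Y F.θ_mem).1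
  rw [F.e5] at h
  simp only [g0]
  omega

theorem row_mem : F.row ∈ rowsAll := by
  have hd : ∀ i, F.d i ∈ dX := fun i => dX_table _
    (deg_mem F.card (F.c_ne i) (by have := F.d_mod i; simp only [d] at this; omega)) (F.d_mod i)
  have hg : F.g0 ∈ dY := dY_table _
    (deg_mem F.card F.θ_ne (by have := F.g0_mod; simp only [g0] at this; omega)) F.g0_mod
  have h1 := vals_one F.L
  have hlin := F.B.lin_zero F.L_nodup F.L_cover (g := 1) (by simp) h1
  have hn := dot_le F.L_nodup h1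
  have hcc : (cc (1 : G) : ℤ) ≤ 443520 := by
    have : cc (1 : G) ≤ 443520 := F.card ▸ Subgroup.card_le_card_group _
    exact_mod_cast this
  rw [F.degs_L] at hlin hn
  exact mem_rowsAll (hd 0) (hd 1) (hd 2) (hd 3) hg (F.sorted 0 1 (by decide)) (F.sorted 1 2 (by decide))
    (F.sorted 2 3 (by decide)) hlin (hn.trans hcc)

/-- the values of the block at an element -/
def Col (g : G) (v : List ℤ) : Prop :=
  ∃ va vb vc ve w : ℤ, v = [va, vb, vc, ve, w] ∧ (F.c 0 : G → ℂ) g = va ∧ (F.c 1 : G → ℂ) g = vb ∧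
    (F.c 2 : G → ℂ) g = vc ∧ (F.c 3 : G → ℂ) g = ve ∧ (F.θ : G → ℂ) g = w

theorem Col.vals {g : G} (hg : ¬ 11 ∣ orderOf g) {v : List ℤ} (h : F.Col g v) : Vals F.L g (fullV v) := by
  obtain ⟨va, vb, vc, ve, w, rfl, h0, h1, h2, h3, hw⟩ := h
  exact .cons (by simp [oneChar]) (.cons h0 (.cons h1 (.cons h2 (.cons h3 (.cons hw
    (.cons ((F.regY hg).trans hw) .nil))))))

theorem Col.eq {g : G} {v v' : List ℤ} (h : F.Col g v) (h' : F.Col g v') : v = v' := by
  obtain ⟨va, vb, vc, ve, w, rfl, h0, h1, h2, h3, hw⟩ := h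
  obtain ⟨va', vb', vc', ve', w', rfl, h0', h1', h2', h3', hw'⟩ := h'
  rw [h0] at h0'; rw [h1] at h1'; rw [h2] at h2'; rw [h3] at h3'; rw [hw] at hw'
  simp only [Int.cast_inj] at h0' h1' h2' h3' hw'
  subst h0' h1' h2' h3' hw'
  rfl

theorem Col.conj {g k : G} {v : List ℤ} (h : F.Col g v) (hgk : IsConj g k) : F.Col k v := by
  obtain ⟨va, vb, vc, ve, w, rfl, h0, h1, h2, h3, hw⟩ := h
  obtain ⟨x, rfl⟩ := isConj_iff.1 hgk
  refine ⟨va, vb, vc, ve, w, rfl, ?_, ?_, ?_, ?_, ?_⟩ <;>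
    rw [isClassFunction_character (irr_isCharacter (Subtype.prop _)) g x] <;> assumption

/-- a column exists as soon as the values are rational -/
theorem exists_col {g : G} (hc : ∀ i, ∃ z : ℤ, (F.c i : G → ℂ) g = z) (hθ : ∃ z : ℤ, (F.θ : G → ℂ) g = z) :
    ∃ v, F.Col g v := by
  obtain ⟨w, hw⟩ := hθ
  choose z hz using hc
  exact ⟨_, z 0, z 1, z 2, z 3, w, rfl, hz 0, hz 1, hz 2, hz 3, hw⟩

theorem one_lt_d (i : Fin 4) : 1 < F.d i := one_lt_degree (na F.card) (F.c_ne i)

/-- Galois conjugation permutes the characters of the block. -/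
theorem gal_mem {χ : IrrCharacter G} (hχ : χ ∈ F.B.S) {k : ℕ} (hk : k.Coprime (Nat.card G)) :
    SmallOrderGraph.galConj χ hk ∈ F.B.S := by
  rw [F.B.mem_iff, SmallOrderGraph.charDegree_galConj]
  exact F.B.not_dvd hχ

theorem gal_c (i : Fin 4) {k : ℕ} (hk : k.Coprime (Nat.card G)) :
    ∃ j, SmallOrderGraph.galConj (F.c i) hk = F.c j := by
  have hdeg : charDegree (SmallOrderGraph.galConj (F.c i) hk : G → ℂ) = F.d i :=
    SmallOrderGraph.charDegree_galConj _ hk
  have h := F.cover _ (F.gal_mem (F.B.mem_S.2 (Or.inl (F.c_mem i))) hk)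
  have hd := F.d_mod i
  have hg := F.g0_mod
  have h1 := F.one_lt_d i
  simp only [List.mem_cons, List.not_mem_nil, or_false] at h
  rcases h with h | h | h | h | h | h | h
  · rw [h, deg_one] at hdeg; omega
  · exact ⟨0, h⟩
  · exact ⟨1, h⟩
  · exact ⟨2, h⟩
  · exact ⟨3, h⟩
  · rw [h] at hdeg; simp only [g0] at hg; omega
  · rw [h, F.deg_θ'] at hdeg; omega

theorem theta_int {g : G} (hg : ¬ 11 ∣ orderOf g) : ∃ w : ℤ, (F.θ : G → ℂ) g = w := by
  refine int_value F.θ fun k hk => ?_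
  have hdeg : charDegree (SmallOrderGraph.galConj F.θ hk : G → ℂ) = F.g0 := SmallOrderGraph.charDegree_galConj _ hk
  rw [← SmallOrderGraph.galConj_apply F.θ hk]
  have h := F.cover _ (F.gal_mem (F.B.mem_S.2 (Or.inr F.θ_mem)) hk)
  have hgm := F.g0_mod
  simp only [List.mem_cons, List.not_mem_nil, or_false] at h
  rcases h with h | h | h | h | h | h | h
  · rw [h, deg_one] at hdeg; omega
  · have hd := F.d_mod 0; rw [h] at hdeg; simp only [d] at hd; omega
  · have hd := F.d_mod 1; rw [h] at hdeg; simp only [d] at hd; omega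
  · have hd := F.d_mod 2; rw [h] at hdeg; simp only [d] at hd; omega
  · have hd := F.d_mod 3; rw [h] at hdeg; simp only [d] at hd; omega
  · rw [h]
  · rw [h, F.regY hg]

/-- A character determined by its degree and a rational value is rational. -/
theorem c_int (i : Fin 4) {x : G} {z : ℤ} (hx : orderOf x ≤ 2) (hz : (F.c i : G → ℂ) x = z)
    (huniq : ∀ j, F.d j = F.d i → (F.c j : G → ℂ) x = z → j = i) (g : G) : ∃ v : ℤ, (F.c i : G → ℂ) g = v := by
  refine int_value _ fun k hk => ?_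
  obtain ⟨j, hj⟩ := F.gal_c i hk
  have hxk : x ^ k = x := by
    have h0 := orderOf_pos x
    rcases (show orderOf x = 1 ∨ orderOf x = 2 by omega) with e | e
    · rw [orderOf_eq_one_iff.1 e, one_pow]
    · have hodd : k % 2 = 1 := by
        by_contra h
        have h2 : Nat.gcd 2 (Nat.card G) = 1 := Nat.Coprime.coprime_dvd_left (show 2 ∣ k by omega) hk
        rw [F.card] at h2
        norm_num at h2
      rw [pow_eq_pow_mod k (e ▸ pow_orderOf_eq_one x), hodd, pow_one]
  have hji : j = i := huniq j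
    (by
      have hdeg := SmallOrderGraph.charDegree_galConj (F.c i) hk
      rw [hj] at hdeg
      exact hdeg)
    (by rw [← hj, SmallOrderGraph.galConj_apply, hxk, hz])
  rw [← SmallOrderGraph.galConj_apply (F.c i) hk, hj, hji]

theorem invol_col {t : G} (ht : orderOf t = 2) : ∃ v, F.Col t v := by
  refine F.exists_col (fun i => ?_) ?_
  · obtain ⟨z, hz, -⟩ := SmallOrderGraph.invol_value (na F.card) (F.c_ne i) ht
    exact ⟨z, hz⟩
  · obtain ⟨z, hz, -⟩ := SmallOrderGraph.invol_value (na F.card) F.θ_ne ht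
    exact ⟨z, hz⟩

theorem three_col {x : G} (hx : orderOf x = 3) : ∃ v, F.Col x v := by
  refine F.exists_col (fun i => ?_) ?_
  · obtain ⟨z, hz, -⟩ := three_value F.card (F.c i) hx
    exact ⟨z, hz⟩
  · obtain ⟨z, hz, -⟩ := three_value F.card F.θ hx
    exact ⟨z, hz⟩

include F in
/-- The centraliser of an element of order prime to eleven has order prime to eleven. -/
theorem cc_dvd {g : G} (hg : ¬ 11 ∣ orderOf g) (hg1 : g ≠ 1) : cc g ∣ 40320 := by
  have hd : cc g ∣ 11 * 40320 := by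
    rw [show 11 * 40320 = Nat.card G from F.card.symm]; exact Subgroup.card_subgroup_dvd_card _
  refine (((show Nat.Prime 11 by norm_num).coprime_iff_not_dvd.2 fun h11 => ?_).symm).dvd_of_dvd_mul_left hd
  obtain ⟨⟨y, hy⟩, hyo⟩ := exists_prime_orderOf_dvd_card' (G := Subgroup.centralizer ({g} : Set G)) 11 h11
  rw [Subgroup.orderOf_mk] at hyo
  obtain ⟨Q, hQ⟩ := PrimeSylowCount.exists_sylow_eq F.B.P F.B.cardP y hyo
  have hQc : Nat.card (Subgroup.centralizer ((Q : Subgroup G) : Set G)) = 11 := by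
    exact (PrimeSylowCount.centCard_eq F.B.P Q).symm.trans F.B.cent
  have hgy : g ∈ Subgroup.centralizer ((Q : Subgroup G) : Set G) := by
    rw [hQ, Subgroup.mem_centralizer_iff]
    rintro _ ⟨j, rfl⟩
    exact ((show Commute y g from Subgroup.mem_centralizer_singleton_iff.1 hy).zpow_left j).eq
  have h := Subgroup.orderOf_dvd_natCard _ hgy
  rw [hQc] at h
  rcases (Nat.dvd_prime (by norm_num)).1 h with h' | h'
  · exact hg1 (orderOf_eq_one_iff.1 h')
  · exact hg (by rw [h'])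

/-- A column is found by the searches. -/
theorem mem_cols {g : G} (hg : ¬ 11 ∣ orderOf g) {v : List ℤ} (h : F.Col g v) {f : ℕ → List ℤ}
    (hc : ∀ i (z : ℤ), (F.c i : G → ℂ) g = z → z ∈ f (F.d i))
    (hθ : ∀ z : ℤ, (F.θ : G → ℂ) g = z → z ∈ f F.g0) : v ∈ colsOf F.row (cc g) f := by
  have hv := Col.vals F hg h
  have h1 := F.B.lin_zero F.L_nodup F.L_cover hg hv
  have h2 := dot_le F.L_nodup hv
  rw [F.degs_L] at h1
  obtain ⟨va, vb, vc, ve, w, rfl, e0, e1, e2, e3, ew⟩ := h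
  exact mem_colsOf (hc 0 _ e0) (hc 1 _ e1) (hc 2 _ e2) (hc 3 _ e3) (hθ _ ew) h1 h2

theorem pl_col {g k : G} (hg : ¬ 11 ∣ orderOf g) (hk : ¬ 11 ∣ orderOf k) {v w : List ℤ} (h : F.Col g v)
    (h' : F.Col k w) :
    0 ≤ pl 11 (fullD F.row) (fullV v) (fullV w) ∧
      pl 11 (fullD F.row) (fullV v) (fullV w) % (2 * ((cc g : ℤ) * (cc k : ℤ))) = 0 ∧
      (orderOf g = 2 → orderOf k = 2 → pl 11 (fullD F.row) (fullV v) (fullV w) = 0) := by
  obtain ⟨h1, h2, h3⟩ := F.B.pl_facts F.card F.L_nodup F.L_cover hg hk (Col.vals F hg h) (Col.vals F hk h')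
  rw [F.degs_L] at h1 h2 h3
  exact ⟨h1, Int.emod_eq_zero_of_dvd h2, h3 (by rw [F.e5]; decide)⟩

theorem orth_col {g k : G} (hg : ¬ 11 ∣ orderOf g) (hk : ¬ 11 ∣ orderOf k) {v w : List ℤ} (h : F.Col g v)
    (h' : F.Col k w) (hne : ¬ IsConj g k) : orthOk (cc g) (fullV v) (cc k) (fullV w) = true :=
  orth F.L_nodup (Col.vals F hg h) (Col.vals F hk h') hne

theorem okk_col {g k : G} (hg : ¬ 11 ∣ orderOf g) (hk : ¬ 11 ∣ orderOf k) {v w : List ℤ} (h : F.Col g v)
    (h' : F.Col k w) (hne : ¬ IsConj g k) : okk F.row (cc g, v) (cc k, w) = true := by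
  obtain ⟨h1, h2, -⟩ := F.pl_col hg hk h h'
  simp [okk, h1, h2, F.orth_col hg hk h h' hne]

/-- the values of a character at an element of prime order, in the form of the searches -/
theorem rng_invol {χ : IrrCharacter G} (hne : χ ≠ oneChar) {t : G} (ht : orderOf t = 2) {z : ℤ}
    (hz : (χ : G → ℂ) t = z) (hG : Nat.card G = 443520) : z ∈ rng (charDegree (χ : G → ℂ)) (cc t) 4 := by
  obtain ⟨z', hz', h4, -⟩ := SmallOrderGraph.invol_value (na hG) hne ht
  have : z' = z := by exact_mod_cast hz'.symm.trans hz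
  subst this
  exact mem_rng_val hG hne (fun e => by rw [e, orderOf_one] at ht; omega) hz (by norm_num) h4

theorem invol_mem {t : G} (ht : orderOf t = 2) {v : List ℤ} (h : F.Col t v) :
    v ∈ colsOf F.row (cc t) (fun d => rng d (cc t) 4) :=
  F.mem_cols (by rw [ht]; norm_num) h (fun i z hz => rng_invol (F.c_ne i) ht hz F.card)
    fun z hz => rng_invol F.θ_ne ht hz F.card

theorem prime_mem {p : ℕ} (hp : p = 5 ∨ p = 7) {x : G} (hx : orderOf x = p) {v : List ℤ} (h : F.Col x v) :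
    v ∈ colsOf F.row (cc x) (fun d => rngP p d (cc x)) := by
  have hpp : p.Prime := by rcases hp with rfl | rfl <;> norm_num
  have key : ∀ χ : IrrCharacter G, χ ≠ oneChar → ∀ z : ℤ, (χ : G → ℂ) x = z →
      z ∈ rngP p (charDegree (χ : G → ℂ)) (cc x) := by
    intro χ hne z hz
    by_cases hd : charDegree (χ : G → ℂ) % p = 0
    · have h0 := vanish F.card (p := p) (by rcases hp with rfl | rfl <;> simp) (Nat.dvd_of_mod_eq_zero hd)
        (g := x) (by rw [hx])
      rw [hz] at h0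
      simp [rngP, hd, Int.cast_eq_zero.1 h0]
    · have hb : (charDegree (χ : G → ℂ) % p == 0) = false := by simpa using hd
      simp only [rngP, hb, cond_false]
      exact mem_rng_val F.card hne (fun e => by rw [e, orderOf_one] at hx; exact hpp.ne_one hx.symm) hz hpp.pos
        (int_congr_deg hpp hx hz)
  exact F.mem_cols (by rw [hx]; rcases hp with rfl | rfl <;> norm_num) h (fun i => key _ (F.c_ne i)) (key _ F.θ_ne)

theorem three_mem {x : G} (hx : orderOf x = 3) {v : List ℤ} (h : F.Col x v) :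
    v ∈ colsOf F.row (cc x) (fun d => rng d (cc x) 3) := by
  have key : ∀ χ : IrrCharacter G, χ ≠ oneChar → ∀ z : ℤ, (χ : G → ℂ) x = z →
      z ∈ rng (charDegree (χ : G → ℂ)) (cc x) 3 := fun χ hne z hz =>
    mem_rng_val F.card hne (fun e => by rw [e, orderOf_one] at hx; omega) hz (by norm_num)
      (int_congr_deg Nat.prime_three hx hz)
  exact F.mem_cols (by rw [hx]; norm_num) h (fun i => key _ (F.c_ne i)) (key _ F.θ_ne)

end Front

end Cfsg.Agent.MTwentyTwo.ByOrder
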