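import Cfsg.Agent.Lib.Spor.MTwentyTwoOrder.Columns

/-!
Orthogonality of the columns of a complete list of characters.
-/

set_option autoImplicit false
set_option linter.unusedSectionVars false

namespace Cfsg.Agent.MTwentyTwo.ByOrder

open Cfsg Cfsg.Agent.Char Cfsg.Agent.Small.Order459648
open scoped ComplexConjugate

universe u

/-- the weighted sum of the cubes of a column -/
def tri : List ℕ → List ℤ → ℤ
  | d :: ds, z :: zs => ((443520 / d : ℕ) : ℤ) * (z * z * z) + tri ds zs
  | _, _ => 0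

variable {G : Type u} [Group G] [Fintype G] {L : List (IrrCharacter G)}

theorem sum_all (hL : L.Nodup) (hall : ∀ χ, χ ∈ L) (f : IrrCharacter G → ℂ) :
    ∑ χ, f χ = (L.map f).sum := by
  classical
  rw [← List.sum_toFinset _ hL]
  exact Finset.sum_congr (Finset.ext fun χ => by simp [hall χ]) fun _ _ => rfl

/-- Orthogonality of two full columns. -/
theorem dot_conj (hL : L.Nodup) (hall : ∀ χ, χ ∈ L) {g k : G} {V W : List ℤ} (h : Vals L g V) (h' : Vals L k W) :
    (IsConj g k → dot V W = (cc k : ℤ)) ∧ (¬ IsConj g k → dot V W = 0) := by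
  classical
  have h1 := dot_cast h h'
  rw [← sum_all hL hall, second_orth] at h1
  refine ⟨fun hc => ?_, fun hc => ?_⟩
  · rw [if_pos hc] at h1
    have hcls := Subgroup.card_mul_index (Subgroup.centralizer ({k} : Set G))
    rw [← card_conjClass_eq_index] at hcls
    have : (dot V W : ℂ) = ((cc k : ℤ) : ℂ) := by
      rw [h1, div_eq_iff (Nat.cast_ne_zero.2 (card_conjClass_ne_zero k)), ← hcls, cc]
      push_cast
      ring
    exact_mod_cast this
  · rw [if_neg hc] at h1
    exact_mod_cast h1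

theorem dot_self (hL : L.Nodup) (hall : ∀ χ, χ ∈ L) {g : G} {V : List ℤ} (h : Vals L g V) :
    dot V V = (cc g : ℤ) :=
  (dot_conj hL hall h h).1 (IsConj.refl g)

theorem dot_degs (hL : L.Nodup) (hall : ∀ χ, χ ∈ L) {g : G} (hg : g ≠ 1) {V : List ℤ} (h : Vals L g V) :
    dot V ((degs L).map fun d : ℕ => (d : ℤ)) = 0 :=
  (dot_conj hL hall h (vals_one L)).2 fun hc => hg (isConj_one_left.1 hc)

theorem tri_cast (hN : Nat.card G = 443520) {g : G} : ∀ {L : List (IrrCharacter G)} {V : List ℤ}, Vals L g V →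
    (tri (degs L) V : ℂ) = (Nat.card G : ℂ) *
      (L.map fun χ : IrrCharacter G => conj ((χ : G → ℂ) g) *
        ((χ : G → ℂ) g * (χ : G → ℂ) g / (χ : G → ℂ) 1)).sum := by
  intro L V h
  induction h with
  | nil => simp [degs, tri]
  | @cons χ z L' V' hz _ ih =>
    have hd : charDegree (χ : G → ℂ) ∣ 443520 := hN ▸ deg_dvd_card χ.2
    have hd0 : (charDegree (χ : G → ℂ) : ℂ) ≠ 0 := Nat.cast_ne_zero.2 (deg_pos χ.2).ne'
    have he : (((443520 / charDegree (χ : G → ℂ) : ℕ) : ℤ) : ℂ) =
        (Nat.card G : ℂ) / (charDegree (χ : G → ℂ) : ℂ) := by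
      rw [hN, Int.cast_natCast, Nat.cast_div hd hd0]
    simp only [degs, List.map_cons, tri, List.sum_cons, Int.cast_add, Int.cast_mul] at ih ⊢
    rw [ih, hz, map_intCast, MTwelve.OrderFront.val_one, he, mul_add]
    push_cast
    ring

/-- The number of triples gives a sign. -/
theorem tri_eq (hN : Nat.card G = 443520) (hL : L.Nodup) (hall : ∀ χ, χ ∈ L) {g : G} {V : List ℤ}
    (h : Vals L g V) : ∃ R : ℕ, tri (degs L) V = (R : ℤ) ∧
      open scoped Classical in R = ((Finset.univ : Finset (G × G)).filter fun t =>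
        t.1 * g * t.1⁻¹ * (t.2 * g * t.2⁻¹) = g).card := by
  classical
  refine ⟨_, ?_, rfl⟩
  have h1 := tri_cast hN h
  rw [← sum_all hL hall, ← BrauerTuan.pairs_formula_two g g g] at h1
  exact_mod_cast h1

end Cfsg.Agent.MTwentyTwo.ByOrder
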