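import Cfsg.Agent.Lib.Spor.MTwentyTwoOrder.Central
import Cfsg.Agent.Lib.Spor.MTwentyTwoOrder.Orth

/-!
The degrees of all irreducible characters of a group of the order of the Mathieu group of degree twenty-two.
-/

set_option autoImplicit false
set_option linter.unusedSectionVars false
set_option linter.style.haveILetI false
set_option maxRecDepth 100000

namespace Cfsg.Agent.MTwentyTwo.ByOrder

open Cfsg Cfsg.Agent.Char Cfsg.Agent.Small.Order459648
open Cfsg.Agent.MTwelve.OrderFront (val_one)
open scoped ComplexConjugate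

universe u

/-- the sum of the squares -/
def sqSum (D : List ℕ) : ℕ := (D.map fun d => d * d).sum

/-- the characters of degree divisible by seven in the block of five -/
def sevenPart (e : Ext) : Ext := ((extDegs e).filter fun d => d % 7 == 0).map fun d => (d, 1)

/-- the possible degrees of the characters outside the eleven-block -/
def fullExts (r : List ℕ) : List Ext :=
  (extSevenC r).flatMap fun e7 => (extFiveC r).filterMap fun e5 =>
    bif List.isPerm ((extDegs e5).filter fun d => d % 7 != 0) ((extDegs e7).filter fun d => d % 5 != 0) &&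
      decide (sqSum (fullD r ++ extDegs (e7 ++ sevenPart e5)) ≤ 443520) &&
      ((443520 - sqSum (fullD r ++ extDegs (e7 ++ sevenPart e5))) % 148225 == 0)
    then some (e7 ++ sevenPart e5 ++
      List.replicate ((443520 - sqSum (fullD r ++ extDegs (e7 ++ sevenPart e5))) / 148225) (385, 1))
    else none

/-- the possible full columns at a central involution -/
def fullCols (r : List ℕ) (A : Col) : List (List ℤ) :=
  (fullExts r).flatMap fun ex => ((extSols 5 (fullD r) ex (el A 4)).map fun z => fullV A.2 ++ expand ex z).filter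
    fun V => lin 7 (fullD r ++ extDegs ex) V == 0 &&
      dot V ((fullD r ++ extDegs ex).map fun d : ℕ => (d : ℤ)) == 0 && dot V V == (A.1 : ℤ)

theorem fullExts_good : fullExts [21, 45, 45, 210, 280] = [[(55, 1), (99, 1), (154, 1), (231, 1), (385, 1)]] := by
  decide +kernel

theorem fullCols_bad : fullCols [21, 120, 210, 210, 280] (1152, [-3, 0, 6, 6, 16]) = [] ∧
    fullCols [21, 120, 210, 210, 280] (2688, [-7, 8, 14, -14, 0]) = [] ∧
    fullCols [21, 120, 210, 210, 280] (2688, [-7, 8, -14, 14, 0]) = [] := by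
  decide +kernel

theorem dEleven_max : ∀ d ∈ dEleven, d % 5 = 0 → d % 7 = 0 → d = 385 := by decide +kernel

theorem extDegs_append : ∀ a b : Ext, extDegs (a ++ b) = extDegs a ++ extDegs b
  | [], b => rfl
  | (d, m) :: a, b => by simp [extDegs, extDegs_append a b]

theorem extDegs_ones : ∀ l : List ℕ, extDegs (l.map fun d => (d, 1)) = l
  | [] => rfl
  | d :: l => by simp [extDegs, extDegs_ones l]

theorem sqSum_append (a b : List ℕ) : sqSum (a ++ b) = sqSum a + sqSum b := by simp [sqSum]

theorem sqSum_replicate (k d : ℕ) : sqSum (List.replicate k d) = k * (d * d) := by simp [sqSum]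

variable {G : Type u} [Group G] [Fintype G] [IsSimpleGroup G]

theorem rep_singles : ∀ l : List (IrrCharacter G), List.Forall₂ (fun (x : ℕ × ℕ) (m : List (IrrCharacter G)) =>
    m.length = x.2 ∧ 0 < x.2 ∧ ∀ χ ∈ m, charDegree (χ : G → ℂ) = x.1) ((degs l).map fun d => (d, 1))
      (l.map fun χ => [χ])
  | [] => .nil
  | χ :: l => .cons ⟨rfl, Nat.one_pos, fun ψ hψ => by rw [List.mem_singleton.1 hψ]⟩ (rep_singles l)

/-- All characters outside the eleven-block. -/
structure Full (F : Front G) (ex : Ext) : Type u where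
  /-- the groups of characters with the same values at elements of order prime to seven -/
  Ls : List (List (IrrCharacter G))
  rep : List.Forall₂ (fun (x : ℕ × ℕ) (l : List (IrrCharacter G)) =>
    l.length = x.2 ∧ 0 < x.2 ∧ ∀ χ ∈ l, charDegree (χ : G → ℂ) = x.1) ex Ls
  nodup : (F.L ++ Ls.flatten).Nodup
  all : ∀ χ, χ ∈ F.L ++ Ls.flatten
  const : ∀ l ∈ Ls, ∀ χ ∈ l, ∀ χ' ∈ l, ∀ g : G, ¬ 7 ∣ orderOf g → (χ : G → ℂ) g = (χ' : G → ℂ) g

variable (F : Front G)

namespace Front

theorem exists_full [Fact (Nat.Prime 5)] [Fact (Nat.Prime 7)] {x y : G} (hx : orderOf x = 5) (hcx : cc x = 5)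
    (hy : orderOf y = 7) (hcy : cc y = 7) : ∃ ex ∈ fullExts F.row, Nonempty (Full F ex) := by
  classical
  obtain ⟨B5, -⟩ := F.exists_pblk_prime (Or.inl rfl) hx hcx
  obtain ⟨B7, -⟩ := F.exists_pblk_prime (Or.inr rfl) hy hcy
  obtain ⟨e5, he5, ⟨E5⟩⟩ := F.exists_rep_five B5
  obtain ⟨e7, he7, ⟨E7⟩⟩ := F.exists_rep_seven B7
  set M5 := E5.Ls.flatten with hM5
  set M7 := E7.Ls.flatten with hM7
  have hm5 : ∀ χ, χ ∈ M5 ↔ χ ∉ F.L ∧ ¬ 5 ∣ charDegree (χ : G → ℂ) := fun χ => by
    constructor
    · intro h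
      obtain ⟨l, hl, hχ⟩ := List.mem_flatten.1 h
      exact ⟨fun hL => (List.nodup_append.1 E5.nodup).2.2 χ hL χ h rfl, B5.not_dvd (E5.mem l hl χ hχ).1⟩
    · rintro ⟨h1, h2⟩
      exact (List.mem_append.1 (E5.cover χ (B5.mem_iff.2 h2))).resolve_left h1
  have hm7 : ∀ χ, χ ∈ M7 ↔ χ ∉ F.L ∧ ¬ 7 ∣ charDegree (χ : G → ℂ) := fun χ => by
    constructor
    · intro h
      obtain ⟨l, hl, hχ⟩ := List.mem_flatten.1 h
      exact ⟨fun hL => (List.nodup_append.1 E7.nodup).2.2 χ hL χ h rfl, B7.not_dvd (E7.mem l hl χ hχ).1⟩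
    · rintro ⟨h1, h2⟩
      exact (List.mem_append.1 (E7.cover χ (B7.mem_iff.2 h2))).resolve_left h1
  have hnd5 : M5.Nodup := (List.nodup_append.1 E5.nodup).2.1
  have hnd7 : M7.Nodup := (List.nodup_append.1 E7.nodup).2.1
  have hD5 : degs M5 = extDegs e5 := degs_flatten E5.rep
  have hD7 : degs M7 = extDegs e7 := degs_flatten E7.rep
  have hperm : ((extDegs e5).filter fun d => d % 7 != 0).Perm ((extDegs e7).filter fun d => d % 5 != 0) := by
    rw [← hD5, ← hD7, degs, degs, List.filter_map, List.filter_map]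
    refine List.Perm.map _ ((List.perm_ext_iff_of_nodup (hnd5.filter _) (hnd7.filter _)).2 fun χ => ?_)
    simp only [List.mem_filter, hm5, hm7, Function.comp_apply, bne_iff_ne, ne_eq, ← Nat.dvd_iff_mod_eq_zero]
    tauto
  set A := M5.filter fun χ : IrrCharacter G => charDegree (χ : G → ℂ) % 7 == 0 with hA
  set R := (Finset.univ.filter fun χ : IrrCharacter G => χ ∉ F.L ∧ 5 ∣ charDegree (χ : G → ℂ) ∧
    7 ∣ charDegree (χ : G → ℂ)).toList with hR
  have hR' : ∀ χ, χ ∈ R ↔ χ ∉ F.L ∧ 5 ∣ charDegree (χ : G → ℂ) ∧ 7 ∣ charDegree (χ : G → ℂ) := by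
    simp [hR]
  have hRdeg : degs R = List.replicate R.length 385 := List.eq_replicate_iff.2 ⟨List.length_map _, fun d hd => by
    obtain ⟨χ, hχ, rfl⟩ := List.mem_map.1 hd
    obtain ⟨h1, h2, h3⟩ := (hR' χ).1 hχ
    exact dEleven_max _ (F.mem_eleven (F.eleven_of_notMem h1)) (Nat.mod_eq_zero_of_dvd h2)
      (Nat.mod_eq_zero_of_dvd h3)⟩
  have hA' : degs A = (extDegs e5).filter fun d => d % 7 == 0 := by
    rw [← hD5, hA, degs, degs, List.filter_map]
    rfl
  set ex := e7 ++ sevenPart e5 ++ List.replicate R.length (385, 1) with hex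
  have hexD : extDegs ex = extDegs (e7 ++ sevenPart e5) ++ List.replicate R.length 385 := by
    rw [hex, extDegs_append, show List.replicate R.length ((385 : ℕ), 1) =
      (List.replicate R.length 385).map (fun d => (d, 1)) by rw [List.map_replicate], extDegs_ones]
  have E : Full F ex :=
    { Ls := E7.Ls ++ A.map (fun χ => [χ]) ++ R.map (fun χ => [χ])
      rep := by
        refine List.rel_append (List.rel_append E7.rep ?_) ?_
        · rw [sevenPart, ← hA']; exact rep_singles A
        · have := rep_singles R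
          rwa [hRdeg, List.map_replicate] at this
      nodup := by
        rw [List.flatten_append, List.flatten_append, flatten_singles, flatten_singles, ← hM7]
        simp only [List.nodup_append, List.mem_append]
        refine ⟨F.L_nodup, ⟨⟨hnd7, hnd5.filter _, fun a ha b hb e => ?_⟩, Finset.nodup_toList _,
          fun a ha b hb e => ?_⟩, fun a ha b hb e => ?_⟩
        · subst e
          exact ((hm7 a).1 ha).2 (Nat.dvd_of_mod_eq_zero (by simpa using (List.mem_filter.1 hb).2))
        · subst e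
          rcases ha with ha | ha
          · exact ((hm7 a).1 ha).2 ((hR' a).1 hb).2.2
          · exact ((hm5 a).1 (List.mem_filter.1 ha).1).2 ((hR' a).1 hb).2.1
        · subst e
          rcases hb with (hb | hb) | hb
          · exact ((hm7 a).1 hb).1 ha
          · exact ((hm5 a).1 (List.mem_filter.1 hb).1).1 ha
          · exact ((hR' a).1 hb).1 ha
      all := fun χ => by
        rw [List.flatten_append, List.flatten_append, flatten_singles, flatten_singles, ← hM7]
        simp only [List.mem_append, hA, List.mem_filter, hm5, hm7, hR', beq_iff_eq, ← Nat.dvd_iff_mod_eq_zero]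
        tauto
      const := fun l hl χ hχ χ' hχ' g hg => by
        rcases List.mem_append.1 hl with hl | hl
        · rcases List.mem_append.1 hl with hl | hl
          · exact E7.const l hl χ hχ χ' hχ' g hg
          · obtain ⟨ψ, -, rfl⟩ := List.mem_map.1 hl
            rw [List.mem_singleton.1 hχ, List.mem_singleton.1 hχ']
        · obtain ⟨ψ, -, rfl⟩ := List.mem_map.1 hl
          rw [List.mem_singleton.1 hχ, List.mem_singleton.1 hχ'] }
  have hDall : degs (F.L ++ E.Ls.flatten) = fullD F.row ++ extDegs ex := by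
    rw [← degs_flatten E.rep, ← F.degs_L]
    exact List.map_append
  have hsum : sqSum (fullD F.row ++ extDegs ex) = 443520 := by
    have h := dot_self E.nodup E.all (vals_one (F.L ++ E.Ls.flatten))
    have hc1 : cc (1 : G) = 443520 := by
      rw [cc, show Subgroup.centralizer ({1} : Set G) = ⊤ from eq_top_iff.2 fun g _ =>
        Subgroup.mem_centralizer_singleton_iff.2 (by rw [mul_one, one_mul]), Subgroup.card_top, F.card]
    rw [hDall, sq_sum_eq, hc1] at h
    exact_mod_cast h
  rw [hexD, ← List.append_assoc, sqSum_append, sqSum_replicate] at hsum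
  refine ⟨ex, List.mem_flatMap.2 ⟨e7, he7, List.mem_filterMap.2 ⟨e5, he5, ?_⟩⟩, ⟨E⟩⟩
  have hle : sqSum (fullD F.row ++ extDegs (e7 ++ sevenPart e5)) ≤ 443520 := by omega
  have hrest : 443520 - sqSum (fullD F.row ++ extDegs (e7 ++ sevenPart e5)) = R.length * 148225 := by omega
  simp [List.isPerm_iff.2 hperm, hle, hrest, hex]

/-- The row of degrees and the central involutions are those of the Mathieu group. -/
theorem good_row {a : G} (ha : orderOf a = 2) (h128 : 128 ∣ cc a) {va : List ℤ} (hva : F.Col a va) :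
    F.row = [21, 45, 45, 210, 280] ∧ cc a = 384 ∧ va = [5, -3, -3, 2, -8] := by
  haveI : Fact (Nat.Prime 5) := ⟨by norm_num⟩
  haveI : Fact (Nat.Prime 7) := ⟨by norm_num⟩
  obtain ⟨hout, x, y, hx, hcx, hy, hcy⟩ := F.central_cases ha h128 hva
  refine hout.resolve_right fun hbad => ?_
  obtain ⟨ex, hex, ⟨E⟩⟩ := F.exists_full hx hcx hy hcy
  obtain ⟨hrow, hcases⟩ := hbad
  have ha11 : ¬ 11 ∣ orderOf a := by rw [ha]; norm_num
  have ha7 : ¬ 7 ∣ orderOf a := by rw [ha]; norm_num
  have ha1 : a ≠ 1 := fun e => by rw [e, orderOf_one] at ha; omega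
  have hne : ∀ l ∈ E.Ls, ∀ χ ∈ l, χ ≠ oneChar := fun l hl χ hχ e =>
    (List.nodup_append.1 E.nodup).2.2 χ (by rw [e]; simp [Front.L]) χ (List.mem_flatten.2 ⟨l, hl, hχ⟩) rfl
  obtain ⟨zs, hzs⟩ := Rep.exists_zs (g := a) (Ls := E.Ls) fun l hl => by
    cases l with
    | nil => exact ⟨0, fun χ h => (List.not_mem_nil h).elim⟩
    | cons χ l =>
      obtain ⟨z, hz, -, -⟩ := SmallOrderGraph.invol_value (na F.card) (hne _ hl χ (by simp)) ha
      exact ⟨z, fun ψ hψ => (E.const _ hl ψ hψ χ (by simp) a ha7).trans hz⟩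
  have hV : Vals (F.L ++ E.Ls.flatten) a (fullV va ++ expand ex zs) :=
    vals_append (Front.Col.vals F ha11 hva) (vals_flatten E.rep hzs)
  have hD : degs (F.L ++ E.Ls.flatten) = fullD F.row ++ extDegs ex := by
    rw [← degs_flatten E.rep, ← F.degs_L]
    exact List.map_append
  obtain ⟨B5, -⟩ := F.exists_pblk_prime (Or.inl rfl) hx hcx
  obtain ⟨B7, -⟩ := F.exists_pblk_prime (Or.inr rfl) hy hcy
  have h5 := B5.lin_zero E.nodup (fun χ _ => E.all χ) (g := a) (by rw [ha]; norm_num) hV
  have h7 := B7.lin_zero E.nodup (fun χ _ => E.all χ) ha7 hV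
  have h0 := dot_degs E.nodup E.all ha1 hV
  have hn := dot_self E.nodup E.all hV
  rw [hD] at h5 h7 h0
  have hmem : fullV va ++ expand ex zs ∈ fullCols F.row (cc a, va) := by
    refine List.mem_flatMap.2 ⟨ex, hex, List.mem_filter.2 ⟨List.mem_map.2 ⟨zs, mem_extSols ?_ ?_ h5 hn.le, rfl⟩,
      by simp only [h7, h0, hn, beq_self_eq_true, Bool.and_self]⟩⟩
    · rw [← F.degs_L, degs, List.length_map]
      exact (Front.Col.vals F ha11 hva).length_eq
    · suffices key : ∀ {ex : Ext} {Ls : List (List (IrrCharacter G))} {zs : List ℤ},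
          List.Forall₂ (fun (x : ℕ × ℕ) (l : List (IrrCharacter G)) =>
            l.length = x.2 ∧ 0 < x.2 ∧ ∀ χ ∈ l, charDegree (χ : G → ℂ) = x.1) ex Ls →
          List.Forall₂ (fun (l : List (IrrCharacter G)) (z : ℤ) => ∀ χ ∈ l, (χ : G → ℂ) a = (z : ℂ)) Ls zs →
          (∀ l ∈ Ls, ∀ χ ∈ l, χ ≠ oneChar) →
          List.Forall₂ (fun x z => z ∈ rngE 4 x.1 (cc a)) ex zs from key E.rep hzs hne
      intro ex Ls zs h
      induction h generalizing zs with
      | nil => intro hz _; cases hz; exact .nil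
      | @cons x l ex' Ls' hx _ ih =>
        intro hz hi
        cases hz with
        | @cons _ z _ zs' hl hr =>
          refine .cons ?_ (ih hr fun m hm => hi m (List.mem_cons_of_mem _ hm))
          obtain ⟨hlen, hpos, hd⟩ := hx
          obtain ⟨χ, hχ⟩ := List.exists_mem_of_length_pos (l := l) (by omega)
          rw [← hd χ hχ]
          exact Front.rng_invol (hi l (by simp) χ hχ) ha (hl χ hχ) F.card
  rw [hrow] at hmem
  rcases hcases with ⟨hc, rfl⟩ | ⟨hc, rfl | rfl⟩
  · rw [hc, fullCols_bad.1] at hmem; exact List.not_mem_nil hmem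
  · rw [hc, fullCols_bad.2.1] at hmem; exact List.not_mem_nil hmem
  · rw [hc, fullCols_bad.2.2] at hmem; exact List.not_mem_nil hmem

end Front

end Cfsg.Agent.MTwentyTwo.ByOrder
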