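import Cfsg.Agent.Lib.Spor.MTwentyTwoOrder.Twelve
import Cfsg.Agent.Lib.Spor.Srg77.Points

/-!
The graph on the seventy-seven subgroups of order sixteen is strongly regular.
-/

set_option autoImplicit false
set_option linter.unusedSectionVars false
set_option linter.style.haveILetI false

namespace Cfsg.Agent.MTwentyTwo.ByOrder

open Cfsg
open scoped Pointwise

universe u

variable {G : Type u} [Group G] [Fintype G] {H : Cls G}

/-- A subgroup to start from. -/
structure Base (E : Subgroup G) : Prop where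
  hex : Hexad E
  norm : Nat.card (Subgroup.normalizer (E : Set G)) = 5760
  ti : ∀ g : G, g ∉ Subgroup.normalizer (E : Set G) → ∀ x ∈ E, g * x * g⁻¹ ∈ E → x = 1

include H in
theorem exists_base : ∃ E : Subgroup G, Base E := by
  obtain ⟨E, h1, h2, h3, -, h5, h6⟩ := exists_block (H := H)
  exact ⟨E, ⟨⟨h1, h2, h6⟩, h3, h5⟩⟩

variable {E : Subgroup G}

/-- the conjugates -/
def Pt (E : Subgroup G) : Type u := {X : Subgroup G // ∃ g : G, MulAut.conj g • E = X}

noncomputable instance : Fintype (Pt E) := Fintype.ofFinite {X : Subgroup G // ∃ g : G, MulAut.conj g • E = X}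

noncomputable instance : DecidableEq (Pt E) := Classical.decEq _

namespace Pt

/-- the given one -/
def base (E : Subgroup G) : Pt E := ⟨E, 1, by simp⟩

/-- conjugation -/
def act (g : G) (X : Pt E) : Pt E :=
  ⟨MulAut.conj g • X.1, by obtain ⟨h, hh⟩ := X.2; exact ⟨g * h, by rw [map_mul, mul_smul, hh]⟩⟩

theorem act_one (X : Pt E) : act 1 X = X := Subtype.ext (by simp [act])

theorem act_mul (a b : G) (X : Pt E) : act (a * b) X = act a (act b X) :=
  Subtype.ext (by simp [act, mul_smul])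

theorem act_inj (g : G) : Function.Injective (act (E := E) g) := fun X Y e => by
  have := congrArg (act g⁻¹) e
  rwa [← act_mul, ← act_mul, inv_mul_cancel, act_one, act_one] at this

theorem exists_act (X : Pt E) : ∃ g : G, act g (base E) = X := by
  obtain ⟨g, hg⟩ := X.2
  exact ⟨g, Subtype.ext hg⟩

theorem act_eq {g : G} {X : Pt E} : act g X = X ↔ g ∈ Subgroup.normalizer (X.1 : Set G) := by
  rw [normal_iff_smul]
  exact ⟨fun e => congrArg Subtype.val e, fun e => Subtype.ext e⟩

theorem mem_act {g x : G} {X : Pt E} : g * x * g⁻¹ ∈ (act g X).1 ↔ x ∈ X.1 := by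
  show _ ∈ MulAut.conj g • X.1 ↔ _
  rw [Subgroup.mem_pointwise_smul_iff_inv_smul_mem, MulAut.smul_def]
  simp [mul_assoc]

theorem norm_act {g x : G} {X : Pt E} :
    g * x * g⁻¹ ∈ Subgroup.normalizer ((act g X).1 : Set G) ↔ x ∈ Subgroup.normalizer (X.1 : Set G) := by
  rw [← act_eq, ← act_eq, ← act_mul, show g * x * g⁻¹ * g = g * x by group, act_mul, (act_inj g).eq_iff]

end Pt

open Pt

/-- the graph -/
def gr (E : Subgroup G) : SimpleGraph (Pt E) where
  Adj X Y := X ≠ Y ∧ X.1 ⊓ Subgroup.normalizer (Y.1 : Set G) = ⊥ ∧ Y.1 ⊓ Subgroup.normalizer (X.1 : Set G) = ⊥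
  symm := ⟨fun _ _ h => ⟨h.1.symm, h.2.2, h.2.1⟩⟩
  loopless := ⟨fun _ h => h.1 rfl⟩

noncomputable instance : DecidableRel (gr E).Adj := fun _ _ => Classical.dec _

theorem gr_act_mp (g : G) {X Y : Pt E} (h : (gr E).Adj X Y) : (gr E).Adj (act g X) (act g Y) := by
  have key : ∀ {P R : Pt E}, P.1 ⊓ Subgroup.normalizer (R.1 : Set G) = ⊥ →
      (act g P).1 ⊓ Subgroup.normalizer ((act g R).1 : Set G) = ⊥ := fun {P R} hPR => by
    rw [eq_bot_iff]
    intro x hx
    obtain ⟨x', rfl⟩ : ∃ x', g * x' * g⁻¹ = x := ⟨g⁻¹ * x * g, by group⟩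
    have : x' = 1 := Subgroup.mem_bot.1 (hPR ▸ Subgroup.mem_inf.2 ⟨mem_act.1 hx.1, norm_act.1 hx.2⟩)
    simp [this]
  exact ⟨fun e => h.1 (act_inj g e), key h.2.1, key h.2.2⟩

theorem gr_act (g : G) {X Y : Pt E} : (gr E).Adj (act g X) (act g Y) ↔ (gr E).Adj X Y :=
  ⟨fun h => by
    have := gr_act_mp g⁻¹ h
    rwa [← act_mul, ← act_mul, inv_mul_cancel, act_one, act_one] at this, gr_act_mp g⟩

theorem nb_act (g : G) (X : Pt E) :
    Spor.Srg77.nb (gr E) (act g X) = (Spor.Srg77.nb (gr E) X).image (act g) := by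
  ext Y
  simp only [Spor.Srg77.mem_nb, Finset.mem_image]
  constructor
  · intro h
    refine ⟨act g⁻¹ Y, ?_, by rw [← act_mul, mul_inv_cancel, act_one]⟩
    rwa [← gr_act g, ← act_mul, mul_inv_cancel, act_one]
  · rintro ⟨Z, hZ, rfl⟩
    exact (gr_act g).2 hZ

variable (hB : Base E)
include H hB

theorem Pt.hexad (X : Pt E) : Hexad X.1 := by
  obtain ⟨g, hg⟩ := X.2
  exact hg ▸ hB.hex.conj (H := H) g

theorem card_pt : Fintype.card (Pt E) = 77 := by
  classical
  have h := card_orbit ⊤ (Subgroup.normalizer (E : Set G)) le_top (fun g => act g (base E)) fun a _ b _ => by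
    show act a (base E) = act b (base E) ↔ _
    rw [← act_inj a⁻¹ |>.eq_iff, ← act_mul, ← act_mul, inv_mul_cancel, act_one, eq_comm, act_eq]
    rfl
  rw [Subgroup.card_top, H.card, hB.norm] at h
  have he : (Finset.univ.filter fun x : G => x ∈ (⊤ : Subgroup G)).image (fun g => act g (base E)) = Finset.univ := by
    refine Finset.eq_univ_of_forall fun X => ?_
    obtain ⟨g, hg⟩ := exists_act X
    exact Finset.mem_image.2 ⟨g, by simp, hg⟩
  rw [he, Finset.card_univ] at h
  omega

/-- Non-adjacency from a single element. -/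
theorem meet_four {X Y : Pt E} (hne : X ≠ Y) {a : G} (ha : a ∈ Y.1) (ha1 : a ≠ 1)
    (haX : a ∈ Subgroup.normalizer (X.1 : Set G)) :
    Nat.card ↥(X.1 ⊓ Subgroup.normalizer (Y.1 : Set G)) = 4 ∧
      ∀ b ∈ X.1, (b ∈ Subgroup.normalizer (Y.1 : Set G) ↔ Commute a b) :=
  (Y.hexad (H := H) hB).meet (H := H) (X.hexad (H := H) hB) (fun e => hne (Subtype.ext e)) ha ha1 haX

theorem adj_iff {X Y : Pt E} :
    (gr E).Adj X Y ↔ X ≠ Y ∧ ∀ a ∈ Y.1, a ∈ Subgroup.normalizer (X.1 : Set G) → a = 1 := by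
  constructor
  · intro h
    exact ⟨h.1, fun a ha haX => Subgroup.mem_bot.1 (h.2.2 ▸ Subgroup.mem_inf.2 ⟨ha, haX⟩)⟩
  · rintro ⟨hne, h⟩
    have h2 : Y.1 ⊓ Subgroup.normalizer (X.1 : Set G) = ⊥ :=
      eq_bot_iff.2 fun a ha => Subgroup.mem_bot.2 (h a ha.1 ha.2)
    refine ⟨hne, eq_bot_iff.2 fun a ha => Subgroup.mem_bot.2 ?_, h2⟩
    by_contra ha1
    have := (meet_four (H := H) hB hne.symm ha.1 ha1 ha.2).1
    rw [h2, Subgroup.card_bot] at this
    omega

theorem exists_mem_pt {i : G} (hi : i * i = 1) (hi1 : i ≠ 1) : ∃ X : Pt E, i ∈ X.1 := by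
  haveI : Fact (Nat.Prime 2) := ⟨Nat.prime_two⟩
  haveI : Nontrivial ↥E := Finite.one_lt_card_iff_nontrivial.1 (by rw [hB.hex.card]; norm_num)
  obtain ⟨⟨e, he⟩, he1⟩ := exists_ne (1 : ↥E)
  obtain ⟨g, hg⟩ := isConj_iff.1 (H.invol_conj e i
    (orderOf_eq_prime (by rw [pow_two]; exact hB.hex.sq e he) fun q => he1 (Subtype.ext q))
    (orderOf_eq_prime (by rw [pow_two]; exact hi) hi1))
  exact ⟨act g (base E), hg ▸ mem_act.2 he⟩

theorem pt_unique {i : G} (hi1 : i ≠ 1) {X Y : Pt E} (hX : i ∈ X.1) (hY : i ∈ Y.1) : X = Y :=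
  Subtype.ext ((Y.hexad (H := H) hB).eq_of_mem (H := H) (X.hexad (H := H) hB) hY hX hi1)

/-- The twelve. -/
theorem card_twelve {t : G} (ht : t ∈ E) (ht1 : t ≠ 1) :
    open scoped Classical in (Finset.univ.filter fun X : Pt E => X ≠ base E ∧
      t ∈ Subgroup.normalizer (X.1 : Set G)).card = 12 := by
  classical
  haveI : Fact (Nat.Prime 2) := ⟨Nat.prime_two⟩
  set T := Finset.univ.filter fun X : Pt E => X ≠ base E ∧ t ∈ Subgroup.normalizer (X.1 : Set G) with hT
  have ho : orderOf t = 2 := orderOf_eq_prime (by rw [pow_two]; exact hB.hex.sq t ht) ht1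
  have hout : (invs t).filter (fun i => i ∉ E) =
      T.biUnion fun X => (invs t).filter fun i => i ∈ X.1 := by
    ext i
    simp only [Finset.mem_filter, Finset.mem_biUnion, hT, Finset.mem_univ, true_and]
    constructor
    · rintro ⟨hi, hiE⟩
      obtain ⟨h1, h2, h3, h4⟩ := mem_invs.1 hi
      obtain ⟨X, hX⟩ := exists_mem_pt (H := H) hB h1 h2
      exact ⟨X, ⟨fun e => hiE (e ▸ hX :), (X.hexad (H := H) hB).stab (H := H) hX h2 h4.symm⟩, hi, hX⟩
    · rintro ⟨X, ⟨hne, -⟩, hi, hX⟩
      exact ⟨hi, fun hiE => hne (pt_unique (H := H) hB (mem_invs.1 hi).2.1 hX hiE)⟩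
  have hfib : ∀ X ∈ T, ((invs t).filter fun i => i ∈ X.1).card = 3 := by
    intro X hX
    simp only [hT, Finset.mem_filter, Finset.mem_univ, true_and] at hX
    obtain ⟨h4, hb⟩ := meet_four (H := H) hB (Y := base E) hX.1 ht ht1 hX.2
    have : ((invs t).filter fun i => i ∈ X.1) =
        (Finset.univ.filter fun b => b ∈ X.1 ⊓ Subgroup.normalizer ((base E).1 : Set G)).erase 1 := by
      ext b
      simp only [Finset.mem_filter, Finset.mem_erase, Finset.mem_univ, true_and, Subgroup.mem_inf]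
      constructor
      · rintro ⟨hb', hbX⟩
        obtain ⟨-, h2, -, h4⟩ := mem_invs.1 hb'
        exact ⟨h2, hbX, (hb b hbX).2 h4.symm⟩
      · rintro ⟨hb1, hbX, hbN⟩
        refine ⟨mem_invs.2 ⟨(X.hexad (H := H) hB).sq b hbX, hb1, fun e => ?_, ((hb b hbX).1 hbN).symm⟩, hbX⟩
        exact hX.1 (pt_unique (H := H) hB ht1 (e ▸ hbX) ht)
    rw [this, Finset.card_erase_of_mem (by simp), card_filter, h4]
  have hin : ((invs t).filter fun i => i ∈ E).card = 14 := by
    have : (invs t).filter (fun i => i ∈ E) = ((Finset.univ.filter fun i => i ∈ E).erase 1).erase t := by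
      ext i
      simp only [Finset.mem_filter, Finset.mem_erase, Finset.mem_univ, true_and, mem_invs]
      exact ⟨fun ⟨⟨_, h2, h3, _⟩, h5⟩ => ⟨h3, h2, h5⟩,
        fun ⟨h3, h2, h5⟩ => ⟨⟨hB.hex.sq i h5, h2, h3, hB.hex.comm h5 ht⟩, h5⟩⟩
    rw [this, Finset.card_erase_of_mem (by simp [ht, ht1]), Finset.card_erase_of_mem (by simp), card_filter,
      hB.hex.card]
  have h36 : ((invs t).filter fun i => i ∉ E).card = 36 := by
    have := Finset.card_filter_add_card_filter_not (s := invs t) (fun i => i ∈ E)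
    rw [hin, card_invs (H := H) ho] at this
    omega
  rw [hout, Finset.card_biUnion, Finset.sum_congr rfl hfib, Finset.sum_const, smul_eq_mul] at h36
  · omega
  · intro X _ Y _ hne
    rw [Function.onFun, Finset.disjoint_left]
    intro i hi hi'
    simp only [Finset.mem_filter] at hi hi'
    exact hne (pt_unique (H := H) hB (mem_invs.1 hi.1).2.1 hi.2 hi'.2)

/-- The others not joined to the base. -/
theorem card_far : open scoped Classical in
    (Finset.univ.filter fun X : Pt E => X ≠ base E ∧ ¬ (gr E).Adj (base E) X).card = 60 := by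
  classical
  set U := Finset.univ.filter fun X : Pt E => X ≠ base E ∧ ¬ (gr E).Adj (base E) X with hU
  set S := (Finset.univ.filter fun t : G => t ∈ E).erase 1 with hS
  have hSm : ∀ t, t ∈ S ↔ t ≠ 1 ∧ t ∈ E := fun t => by simp [hS]
  have hT : ∀ t ∈ S, (U.filter fun X => t ∈ Subgroup.normalizer (X.1 : Set G)).card = 12 := by
    intro t ht
    rw [hSm] at ht
    rw [← card_twelve (H := H) hB ht.2 ht.1]
    congr 1
    ext X
    simp only [hU, Finset.mem_filter, Finset.mem_univ, true_and]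
    refine ⟨fun h => ⟨h.1.1, h.2⟩, fun h => ⟨⟨h.1, fun a => ht.1 ?_⟩, h.2⟩⟩
    exact ((adj_iff (H := H) hB).1 a.symm).2 t ht.2 h.2
  have hX : ∀ X ∈ U, (S.filter fun t => t ∈ Subgroup.normalizer (X.1 : Set G)).card = 3 := by
    intro X hX
    simp only [hU, Finset.mem_filter, Finset.mem_univ, true_and] at hX
    have : ∃ a ∈ X.1, a ∈ Subgroup.normalizer (E : Set G) ∧ a ≠ 1 := by
      by_contra hc
      push Not at hc
      exact hX.2 ((adj_iff (H := H) hB).2 ⟨hX.1.symm, fun a h1 h2 => hc a h1 h2⟩)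
    obtain ⟨a, ha, haN, ha1⟩ := this
    have h4 := (meet_four (H := H) hB (X := base E) hX.1.symm ha ha1 haN).1
    have : S.filter (fun t => t ∈ Subgroup.normalizer (X.1 : Set G)) =
        (Finset.univ.filter fun b => b ∈ (base E).1 ⊓ Subgroup.normalizer (X.1 : Set G)).erase 1 := by
      ext b
      simp only [Finset.mem_filter, Finset.mem_erase, Finset.mem_univ, true_and, Subgroup.mem_inf, hSm]
      exact and_assoc
    rw [this, Finset.card_erase_of_mem (by simp), card_filter, h4]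
  have h15 : S.card = 15 := by rw [hS, Finset.card_erase_of_mem (by simp), card_filter, hB.hex.card]
  have hd := Finset.sum_card_bipartiteAbove_eq_sum_card_bipartiteBelow
    (fun (t : G) (X : Pt E) => t ∈ Subgroup.normalizer (X.1 : Set G)) (s := S) (t := U)
  simp only [Finset.bipartiteAbove, Finset.bipartiteBelow] at hd
  rw [Finset.sum_congr rfl hT, Finset.sum_congr rfl hX, Finset.sum_const, Finset.sum_const, smul_eq_mul, smul_eq_mul,
    h15] at hd
  omega

theorem deg_base : (Spor.Srg77.nb (gr E) (base E)).card = 16 := by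
  classical
  have h := Finset.card_filter_add_card_filter_not (s := (Finset.univ : Finset (Pt E)).erase (base E))
    ((gr E).Adj (base E))
  rw [Finset.card_erase_of_mem (Finset.mem_univ _), Finset.card_univ, card_pt (H := H) hB] at h
  have h1 : ((Finset.univ : Finset (Pt E)).erase (base E)).filter ((gr E).Adj (base E)) =
      Spor.Srg77.nb (gr E) (base E) := by
    ext X
    simp only [Finset.mem_filter, Finset.mem_erase, Finset.mem_univ, and_true, Spor.Srg77.mem_nb]
    exact ⟨And.right, fun a => ⟨a.ne', a⟩⟩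
  have h2 : ((Finset.univ : Finset (Pt E)).erase (base E)).filter (fun X => ¬ (gr E).Adj (base E) X) =
      Finset.univ.filter fun X : Pt E => X ≠ base E ∧ ¬ (gr E).Adj (base E) X := by
    ext X; simp
  rw [h1, h2, card_far (H := H) hB] at h
  omega

theorem deg (X : Pt E) : (Spor.Srg77.nb (gr E) X).card = 16 := by
  obtain ⟨g, rfl⟩ := exists_act X
  rw [nb_act, Finset.card_image_of_injective _ (act_inj g), deg_base (H := H) hB]

omit hB H in
theorem base_fix {n : G} (hn : n ∈ Subgroup.normalizer (E : Set G)) : act n (base E) = base E := act_eq.2 hn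

/-- The base is regular on its neighbours. -/
theorem nb_regular {X Y : Pt E} (hX : (gr E).Adj (base E) X) (hY : (gr E).Adj (base E) Y) :
    ∃ e ∈ E, act e X = Y := by
  classical
  have hfix : ∀ e ∈ E, act e (base E) = base E := fun e he => base_fix (Subgroup.le_normalizer he)
  have hI : (Finset.univ.filter fun e : G => e ∈ E).image (fun e => act e X) = Spor.Srg77.nb (gr E) (base E) := by
    refine Finset.eq_of_subset_of_card_le (fun Z hZ => ?_) ?_
    · obtain ⟨e, he, rfl⟩ := Finset.mem_image.1 hZ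
      rw [Spor.Srg77.mem_nb, ← hfix e (Finset.mem_filter.1 he).2, gr_act]
      exact hX
    · rw [deg_base (H := H) hB, Finset.card_image_of_injOn, card_filter, hB.hex.card]
      intro a ha b hb e
      simp only [Finset.coe_filter, Finset.mem_univ, true_and, Set.mem_setOf_eq] at ha hb
      have h1 : a⁻¹ * b = 1 := ((adj_iff (H := H) hB).1 hX.symm).2 _ (mul_mem (inv_mem ha) hb) (act_eq.1 (by
        rw [act_mul]
        change act a X = act b X at e
        rw [← e, ← act_mul, inv_mul_cancel, act_one]))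
      exact inv_mul_eq_one.1 h1
  rw [← Spor.Srg77.mem_nb, ← hI] at hY
  obtain ⟨e, he, e'⟩ := Finset.mem_image.1 hY
  exact ⟨e, (Finset.mem_filter.1 he).2, e'⟩

theorem conjugator {a b : G} (ha : a ∈ E) (ha1 : a ≠ 1) (hb : b ∈ E) (hb1 : b ≠ 1) :
    ∃ n ∈ Subgroup.normalizer (E : Set G), n * a * n⁻¹ = b := by
  haveI : Fact (Nat.Prime 2) := ⟨Nat.prime_two⟩
  obtain ⟨g, hg⟩ := isConj_iff.1 (H.invol_conj a b
    (orderOf_eq_prime (by rw [pow_two]; exact hB.hex.sq a ha) ha1)
    (orderOf_eq_prime (by rw [pow_two]; exact hB.hex.sq b hb) hb1))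
  exact ⟨g, not_not.1 fun hn => ha1 (hB.ti g hn a ha (hg ▸ hb)), hg⟩

/-- No triangle at the base. -/
theorem no_triangle_base {X Y : Pt E} (hX : (gr E).Adj (base E) X) (hY : (gr E).Adj (base E) Y) :
    ¬ (gr E).Adj X Y := by
  classical
  intro hXY
  obtain ⟨e, he, rfl⟩ := nb_regular (H := H) hB hX hY
  have he1 : e ≠ 1 := fun q => hXY.ne (by rw [q, act_one])
  -- all neighbours of the base are joined
  have hall : ∀ d ∈ E, d ≠ 1 → (gr E).Adj X (act d X) := by
    intro d hd hd1
    obtain ⟨n, hn, hnd⟩ := conjugator (H := H) hB he he1 hd hd1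
    have hnX : (gr E).Adj (base E) (act n X) := by rw [← base_fix hn, gr_act]; exact hX
    obtain ⟨c, hc, hcX⟩ := nb_regular (H := H) hB hX hnX
    have := (gr_act (c⁻¹ * n)).2 hXY
    have hfix : act (c⁻¹ * n) X = X := by rw [act_mul, ← hcX, ← act_mul, inv_mul_cancel, act_one]
    rw [hfix, ← act_mul, show c⁻¹ * n * e = c⁻¹ * (n * e * n⁻¹) * n by group, hnd, act_mul, ← hcX, ← act_mul,
      show c⁻¹ * d * c = d by rw [mul_assoc, (hB.hex.comm hd hc).eq, inv_mul_cancel_left]] at this
    exact this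
  have hclique : ∀ {A B : Pt E}, (gr E).Adj (base E) A → (gr E).Adj (base E) B → A ≠ B → (gr E).Adj A B := by
    intro A B hA hB' hne
    obtain ⟨a, ha, rfl⟩ := nb_regular (H := H) hB hX hA
    obtain ⟨b, hb, rfl⟩ := nb_regular (H := H) hB hX hB'
    have hab : a * (a⁻¹ * b) = b := mul_inv_cancel_left a b
    rw [← hab, act_mul, gr_act]
    exact hall _ (mul_mem (inv_mem ha) hb) fun q => hne (by rw [← hab, q, mul_one])
  -- so the closed neighbourhoods are classes
  let S : Pt E → Finset (Pt E) := fun v => insert v (Spor.Srg77.nb (gr E) v)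
  have hS : ∀ v w, w ∈ S v → S w = S v := by
    intro v w hw
    rw [Finset.mem_insert, Spor.Srg77.mem_nb] at hw
    rcases hw with rfl | hvw
    · rfl
    refine (Finset.eq_of_subset_of_card_le (fun z hz => ?_) ?_).symm
    · rw [Finset.mem_insert, Spor.Srg77.mem_nb] at hz ⊢
      rcases hz with rfl | hvz
      · exact Or.inr hvw.symm
      rcases eq_or_ne z w with e' | hne
      · exact Or.inl e'
      obtain ⟨g, rfl⟩ := exists_act v
      obtain ⟨z', rfl⟩ : ∃ z', act g z' = z := ⟨act g⁻¹ z, by rw [← act_mul, mul_inv_cancel, act_one]⟩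
      obtain ⟨w', rfl⟩ : ∃ w', act g w' = w := ⟨act g⁻¹ w, by rw [← act_mul, mul_inv_cancel, act_one]⟩
      rw [gr_act] at hvw hvz ⊢
      exact Or.inr (hclique hvw hvz fun q => hne (by rw [q]))
    · simp only [S]
      rw [Finset.card_insert_of_notMem (by simp [Spor.Srg77.mem_nb]),
        Finset.card_insert_of_notMem (by simp [Spor.Srg77.mem_nb]), deg (H := H) hB, deg (H := H) hB]
  have hcount := Finset.card_eq_sum_card_fiberwise (f := S) (s := (Finset.univ : Finset (Pt E)))
    (t := Finset.univ.image S) fun v _ => Finset.mem_coe.2 (Finset.mem_image_of_mem _ (Finset.mem_univ v))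
  have h17 : ∀ C ∈ Finset.univ.image S, (Finset.univ.filter fun w => S w = C).card = 17 := by
    intro C hC
    obtain ⟨v, -, rfl⟩ := Finset.mem_image.1 hC
    have : (Finset.univ.filter fun w => S w = S v) = S v := by
      ext w
      simp only [Finset.mem_filter, Finset.mem_univ, true_and]
      exact ⟨fun q => q ▸ Finset.mem_insert_self _ _, hS v w⟩
    rw [this]
    simp only [S]
    rw [Finset.card_insert_of_notMem (by simp [Spor.Srg77.mem_nb]), deg (H := H) hB]
  rw [Finset.card_univ, card_pt (H := H) hB, Finset.sum_congr rfl h17, Finset.sum_const, smul_eq_mul] at hcount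
  omega

theorem lam {v w : Pt E} (h : (gr E).Adj v w) : Spor.Srg77.com (gr E) v w = ∅ := by
  rw [Finset.eq_empty_iff_forall_notMem]
  intro x hx
  rw [Spor.Srg77.mem_com] at hx
  obtain ⟨g, rfl⟩ := exists_act v
  obtain ⟨x', rfl⟩ : ∃ x', act g x' = x := ⟨act g⁻¹ x, by rw [← act_mul, mul_inv_cancel, act_one]⟩
  obtain ⟨w', rfl⟩ : ∃ w', act g w' = w := ⟨act g⁻¹ w, by rw [← act_mul, mul_inv_cancel, act_one]⟩
  rw [gr_act] at h
  rw [gr_act, gr_act] at hx
  exact no_triangle_base (H := H) hB h hx.1 hx.2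

/-- The stabiliser of the base is transitive on those not joined to it. -/
theorem far_trans {X Y : Pt E} (hX : X ≠ base E) (hXa : ¬ (gr E).Adj (base E) X) (hY : Y ≠ base E)
    (hYa : ¬ (gr E).Adj (base E) Y) : ∃ n ∈ Subgroup.normalizer (E : Set G), act n X = Y := by
  have hex : ∀ {Z : Pt E}, Z ≠ base E → ¬ (gr E).Adj (base E) Z →
      ∃ t ∈ E, t ≠ 1 ∧ t ∈ Subgroup.normalizer (Z.1 : Set G) := fun {Z} hZ hZa => by
    by_contra hc
    push Not at hc
    exact hZa ((adj_iff (H := H) hB).2 ⟨hZ, fun a h1 h2 => by_contra fun h3 => hc a h1 h3 h2⟩).symm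
  obtain ⟨t, ht, ht1, htX⟩ := hex hX hXa
  obtain ⟨t', ht', ht1', htY⟩ := hex hY hYa
  obtain ⟨n, hn, hnt⟩ := conjugator (H := H) hB ht ht1 ht' ht1'
  have htnX : t' ∈ Subgroup.normalizer ((act n X).1 : Set G) := hnt ▸ norm_act.2 htX
  have hneX : (act n X).1 ≠ E := fun e => hX (act_inj n (by rw [base_fix hn]; exact Subtype.ext e))
  obtain ⟨c, hc, hcX⟩ := hB.hex.trans_twelve (H := H) ht' ht1' ((act n X).hexad (H := H) hB)
    (Y.hexad (H := H) hB) hneX (fun e => hY (Subtype.ext e)) htnX htY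
  exact ⟨c * n, mul_mem (hB.hex.stab (H := H) ht' ht1' hc) hn, by rw [act_mul]; exact Subtype.ext hcX⟩

theorem mu {v w : Pt E} (h : Spor.Srg77.Non (gr E) v w) : (Spor.Srg77.com (gr E) v w).card = 4 := by
  classical
  have hcom : ∀ g (a b : Pt E), Spor.Srg77.com (gr E) (act g a) (act g b) =
      (Spor.Srg77.com (gr E) a b).image (act g) := fun g a b => by
    rw [Spor.Srg77.com, Spor.Srg77.com, nb_act, nb_act, Finset.image_inter _ _ (act_inj g)]
  obtain ⟨g, rfl⟩ := exists_act v
  obtain ⟨X, rfl⟩ : ∃ X, act g X = w := ⟨act g⁻¹ w, by rw [← act_mul, mul_inv_cancel, act_one]⟩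
  rw [hcom, Finset.card_image_of_injective _ (act_inj g)]
  obtain ⟨hne, hna⟩ := h
  replace hne : X ≠ base E := fun e => hne (by rw [e])
  rw [gr_act] at hna
  set U := Finset.univ.filter fun X : Pt E => X ≠ base E ∧ ¬ (gr E).Adj (base E) X with hU
  have hUm : ∀ Y, Y ∈ U ↔ Y ≠ base E ∧ ¬ (gr E).Adj (base E) Y := fun Y => by simp [hU]
  have hconst : ∀ Y ∈ U, ((Spor.Srg77.nb (gr E) (base E)).filter fun z => (gr E).Adj z Y).card =
      (Spor.Srg77.com (gr E) (base E) X).card := by
    intro Y hY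
    rw [hUm] at hY
    obtain ⟨n, hn, rfl⟩ := far_trans (H := H) hB hne hna hY.1 hY.2
    have e : ((Spor.Srg77.nb (gr E) (base E)).filter fun z => (gr E).Adj z (act n X)) =
        Spor.Srg77.com (gr E) (base E) (act n X) := by
      ext z
      simp only [Finset.mem_filter, Spor.Srg77.mem_nb, Spor.Srg77.mem_com]
      exact and_congr_right fun _ => ⟨fun a => a.symm, fun a => a.symm⟩
    rw [e]
    conv_lhs => rw [← base_fix hn]
    rw [hcom, Finset.card_image_of_injective _ (act_inj n)]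
  have h15 : ∀ z ∈ Spor.Srg77.nb (gr E) (base E), (U.filter fun Y => (gr E).Adj z Y).card = 15 := by
    intro z hz
    rw [Spor.Srg77.mem_nb] at hz
    have : U.filter (fun Y => (gr E).Adj z Y) = (Spor.Srg77.nb (gr E) z).erase (base E) := by
      ext Y
      simp only [Finset.mem_filter, Finset.mem_erase, hUm, Spor.Srg77.mem_nb]
      refine ⟨fun q => ⟨q.1.1, q.2⟩, fun q => ⟨⟨q.1, fun a => ?_⟩, q.2⟩⟩
      exact no_triangle_base (H := H) hB hz a q.2
    rw [this, Finset.card_erase_of_mem (by rw [Spor.Srg77.mem_nb]; exact hz.symm), deg (H := H) hB]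
  have hd := Finset.sum_card_bipartiteAbove_eq_sum_card_bipartiteBelow
    (fun (z Y : Pt E) => (gr E).Adj z Y) (s := Spor.Srg77.nb (gr E) (base E)) (t := U)
  simp only [Finset.bipartiteAbove, Finset.bipartiteBelow] at hd
  rw [Finset.sum_congr rfl h15, Finset.sum_congr rfl hconst, Finset.sum_const, Finset.sum_const, smul_eq_mul,
    smul_eq_mul, deg_base (H := H) hB, hU, card_far (H := H) hB] at hd
  omega

/-- The parameters. -/
theorem params : Spor.Srg77.Params (gr E) :=
  ⟨card_pt (H := H) hB, deg (H := H) hB, fun _ _ => lam (H := H) hB, fun _ _ => mu (H := H) hB⟩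

end Cfsg.Agent.MTwentyTwo.ByOrder
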