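import Cfsg.Agent.Lib.Spor.MTwentyTwoOrder.Graph
import Cfsg.Agent.S0414
import Cfsg.Agent.Lib.Local.FS.MathieuPerms

/-!
The group acts faithfully on the system of the graph, hence is the Mathieu group.
-/

set_option autoImplicit false
set_option linter.unusedSectionVars false
set_option linter.style.haveILetI false

namespace Cfsg.Agent.MTwentyTwo.ByOrder

open Cfsg
open scoped Pointwise

universe u

variable {G : Type u} [Group G] [Fintype G] {H : Cls G} {E : Subgroup G}

open Pt

/-- the twenty-two points -/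
abbrev Pts (E : Subgroup G) : Type u := ↥(Spor.Srg77.pts (gr E))

theorem image_mem {g : G} {C : Finset (Pt E)} (hC : C ∈ Spor.Srg77.pts (gr E)) :
    C.image (act g) ∈ Spor.Srg77.pts (gr E) := by
  rw [Spor.Srg77.mem_pts] at hC ⊢
  refine ⟨by rw [Finset.card_image_of_injective _ (act_inj g)]; exact hC.1, fun a ha b hb => ?_⟩
  obtain ⟨a', ha', rfl⟩ := Finset.mem_image.1 ha
  obtain ⟨b', hb', rfl⟩ := Finset.mem_image.1 hb
  rw [gr_act]
  exact hC.2 a' ha' b' hb'

theorem image_act_one (C : Finset (Pt E)) : C.image (act 1) = C := by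
  ext X; simp [act_one]

theorem image_act_mul (a b : G) (C : Finset (Pt E)) :
    C.image (act (a * b)) = (C.image (act b)).image (act a) := by
  rw [Finset.image_image]
  exact Finset.image_congr fun X _ => act_mul a b X

/-- on the points -/
noncomputable def perm (g : G) : Equiv.Perm (Pts E) where
  toFun C := ⟨C.1.image (act g), image_mem C.2⟩
  invFun C := ⟨C.1.image (act g⁻¹), image_mem C.2⟩
  left_inv C := Subtype.ext (by
    show (C.1.image (act g)).image (act g⁻¹) = C.1
    rw [← image_act_mul, inv_mul_cancel, image_act_one])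
  right_inv C := Subtype.ext (by
    show (C.1.image (act g⁻¹)).image (act g) = C.1
    rw [← image_act_mul, mul_inv_cancel, image_act_one])

theorem perm_mul (a b : G) : perm (E := E) (a * b) = perm a * perm b :=
  Equiv.ext fun C => Subtype.ext (image_act_mul a b C.1)

theorem perm_blk (g : G) (X : Pt E) :
    (Spor.Srg77.blk (gr E) X).image (perm g) = Spor.Srg77.blk (gr E) (act g X) := by
  ext C
  simp only [Finset.mem_image, Spor.Srg77.blk, Finset.mem_filter, Finset.mem_univ, true_and]
  constructor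
  · rintro ⟨D, hD, rfl⟩
    exact Finset.mem_image_of_mem _ hD
  · intro hC
    refine ⟨(perm g).symm C, ?_, Equiv.apply_symm_apply _ _⟩
    show X ∈ C.1.image (act g⁻¹)
    exact Finset.mem_image.2 ⟨act g X, hC, by rw [← act_mul, inv_mul_cancel, act_one]⟩

/-- into the automorphisms of the system -/
noncomputable def toAut (E : Subgroup G) :
    G →* Cfsg.setSystemAut (Set.range (Spor.Srg77.blk (gr E))) :=
  MonoidHom.mk' (fun g => ⟨perm g, by
    show perm g • Set.range (Spor.Srg77.blk (gr E)) = Set.range (Spor.Srg77.blk (gr E))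
    ext s
    constructor
    · rintro ⟨_, ⟨X, rfl⟩, rfl⟩
      exact ⟨act g X, (perm_blk g X).symm⟩
    · rintro ⟨X, rfl⟩
      refine ⟨_, ⟨act g⁻¹ X, rfl⟩, (perm_blk g _).trans ?_⟩
      rw [← act_mul, mul_inv_cancel, act_one]⟩) fun a b => Subtype.ext (perm_mul a b)

variable (hB : Base E)
include H hB

theorem blk_inj : Function.Injective (Spor.Srg77.blk (gr E)) := by
  intro b c e
  by_contra hne
  have h := Spor.Srg77.card_blk (params (H := H) hB) b
  rw [← Finset.inter_self (Spor.Srg77.blk (gr E) b)] at h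
  conv at h => lhs; arg 1; arg 2; rw [e]
  rw [Spor.Srg77.card_blk_inter] at h
  rcases em ((gr E).Adj b c) with a | a
  · rw [Spor.Srg77.pts_adj (params (H := H) hB) a] at h; omega
  · rw [Spor.Srg77.pts_pair (params (H := H) hB) ⟨hne, a⟩] at h; omega

theorem steiner : Cfsg.IsSteinerSystem 3 6 (Set.range (Spor.Srg77.blk (gr E))) := by
  classical
  have h := params (H := H) hB
  have hone : ∀ {s : Finset (Pts E)}, s.card = 3 → ∀ {b c}, s ⊆ Spor.Srg77.blk (gr E) b →
      s ⊆ Spor.Srg77.blk (gr E) c → b = c := by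
    intro s hs b c sb sc
    by_contra hne
    have hle := Finset.card_le_card (Finset.subset_inter sb sc)
    rw [Spor.Srg77.card_blk_inter] at hle
    rcases em ((gr E).Adj b c) with a | a
    · rw [Spor.Srg77.pts_adj h a] at hle; omega
    · rw [Spor.Srg77.pts_pair h ⟨hne, a⟩] at hle; omega
  have hU : (Finset.univ.biUnion fun v => (Spor.Srg77.blk (gr E) v).powersetCard 3) =
      (Finset.univ : Finset (Pts E)).powersetCard 3 := by
    refine Finset.eq_of_subset_of_card_le (fun t ht => ?_) ?_
    · obtain ⟨v, -, ht⟩ := Finset.mem_biUnion.1 ht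
      rw [Finset.mem_powersetCard] at ht ⊢
      exact ⟨Finset.subset_univ _, ht.2⟩
    · rw [Finset.card_powersetCard, Finset.card_univ, Fintype.card_coe, Spor.Srg77.card_pts h, Finset.card_biUnion]
      · rw [Finset.sum_congr rfl (fun v _ => by rw [Finset.card_powersetCard, Spor.Srg77.card_blk h v]),
          Finset.sum_const, Finset.card_univ, h.card]
        decide
      · intro b _ c _ hne
        rw [Function.onFun, Finset.disjoint_left]
        intro t tb tc
        rw [Finset.mem_powersetCard] at tb tc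
        exact hne (hone tb.2 tb.1 tc.1)
  refine ⟨by rintro b ⟨v, rfl⟩; exact Spor.Srg77.card_blk h v, fun s hs => ?_⟩
  have : s ∈ (Finset.univ.biUnion fun v => (Spor.Srg77.blk (gr E) v).powersetCard 3) := by
    rw [hU, Finset.mem_powersetCard]; exact ⟨Finset.subset_univ _, hs⟩
  obtain ⟨v, -, hv⟩ := Finset.mem_biUnion.1 this
  rw [Finset.mem_powersetCard] at hv
  refine ⟨Spor.Srg77.blk (gr E) v, ⟨⟨v, rfl⟩, hv.1⟩, ?_⟩
  rintro b ⟨⟨w, rfl⟩, hw⟩
  rw [hone hs hw hv.1]

theorem toAut_injective [IsSimpleGroup G] : Function.Injective (toAut E) := by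
  rw [← MonoidHom.ker_eq_bot_iff]
  refine (IsSimpleGroup.eq_bot_or_eq_top_of_normal _ inferInstance).resolve_right fun e => ?_
  have h : Subgroup.normalizer (E : Set G) = ⊤ := by
    refine Subgroup.eq_top_iff' _ |>.2 fun g => ?_
    have hg : toAut E g = 1 := MonoidHom.mem_ker.1 (e ▸ Subgroup.mem_top g)
    have hp : perm (E := E) g = 1 := congrArg Subtype.val hg
    refine (act_eq (X := base E)).1 (blk_inj (H := H) hB ?_)
    rw [← perm_blk, hp]
    simp
  have := hB.norm
  rw [h, Subgroup.card_top, H.card] at this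
  omega

omit hB in
theorem iso_model [IsSimpleGroup G] {α : Type u} [Fintype α] [DecidableEq α] (hα : Fintype.card α = 22)
    {B : Set (Finset α)} (hS : Cfsg.IsSteinerSystem 3 6 B) (ρ : G →* Cfsg.setSystemAut B)
    (hρ : Function.Injective ρ) : Cfsg.Spor.IsoM22 G := by
  classical
  have hc : Nat.card (Cfsg.setSystemAut B) = 887040 := (Cfsg.Agent.S0414.result hα hS).1
  obtain ⟨F, rfl⟩ := Cfsg.Agent.Spor.Steiner.exists_finset B
  have h : Cfsg.Agent.Spor.Code24.Sys 2 F := ⟨by norm_num, by omega, hS⟩
  set p : Cfsg.GolayPt := none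
  set q : Cfsg.GolayPt := some 0
  have hpq : p ≠ q := fun e => Option.some_ne_none _ e.symm
  let x : Fin 2 ↪ Cfsg.GolayPt := ⟨![p, q], fun i j hij => by
    fin_cases i <;> fin_cases j <;> first | rfl | (exfalso; first | exact hpq hij | exact hpq hij.symm)⟩
  obtain ⟨g, -, -, Φ, -⟩ := h.aut_equiv x
  set S := MulAction.stabilizer Cfsg.M24 (Finset.univ.image x) with hSdef
  set S2 := MulAction.stabilizer Cfsg.M24 p ⊓ MulAction.stabilizer Cfsg.M24 q with hS2
  have hP : Finset.univ.image x = {p, q} := rfl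
  have hle : S2 ≤ S := by
    intro σ hσ
    rw [hSdef, MulAction.mem_stabilizer_iff, hP, Finset.smul_finset_insert, Finset.smul_finset_singleton,
      MulAction.mem_stabilizer_iff.1 hσ.1, MulAction.mem_stabilizer_iff.1 hσ.2]
  set K := (S2.subgroupOf S).map Φ.toMonoidHom with hK
  have eK : K ≃* S2 :=
    ((S2.subgroupOf S).equivMapOfInjective _ Φ.injective).symm.trans (Subgroup.subgroupOfEquivOfLe hle)
  have hKc : Nat.card K = 443520 :=
    (Nat.card_congr eK.toEquiv).trans (Cfsg.Agent.Spor.card_stabilizer_two hpq)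
  have hKi : K.index = 2 := by
    have e := Subgroup.card_mul_index K
    rw [hc, hKc] at e
    omega
  haveI : K.Normal := Subgroup.normal_of_index_eq_two hKi
  have hRc : Nat.card ρ.range = 443520 :=
    (Nat.card_congr (MonoidHom.ofInjective hρ).toEquiv).symm.trans H.card
  haveI : IsSimpleGroup ρ.range := (MonoidHom.ofInjective hρ).symm.isSimpleGroup
  have hRK : ρ.range = K := by
    rcases IsSimpleGroup.eq_bot_or_eq_top_of_normal (K.subgroupOf ρ.range) inferInstance with e | e
    · exfalso
      have h1 := Subgroup.relIndex_mul_index (H := K.subgroupOf ρ.range) (K := ⊤) le_top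
      have h2 : (K.subgroupOf ρ.range).index ∣ K.index := Subgroup.relIndex_dvd_index_of_normal K ρ.range
      rw [e, Subgroup.index_bot, hKi, hRc] at h2
      exact absurd (Nat.le_of_dvd (by norm_num) h2) (by norm_num)
    · exact Subgroup.eq_of_le_of_card_ge (Subgroup.subgroupOf_eq_top.1 e) (by rw [hRc, hKc])
  obtain ⟨eM⟩ : Nonempty (S2 ≃* Cfsg.Spor.M22) := ⟨
    { toFun := fun σ => ⟨σ.1.1, ⟨σ.1.2, σ.2.1⟩, σ.2.2⟩
      invFun := fun σ => ⟨⟨σ.1, σ.2.1.1⟩, σ.2.1.2, σ.2.2⟩
      left_inv := fun _ => rfl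
      right_inv := fun _ => rfl
      map_mul' := fun _ _ => rfl }⟩
  exact ⟨((MonoidHom.ofInjective hρ).trans (MulEquiv.subgroupCongr hRK)).trans (eK.trans eM)⟩

omit hB in
/-- A simple group with these classes is the Mathieu group. -/
theorem iso_of_cls [IsSimpleGroup G] : Cfsg.Spor.IsoM22 G := by
  obtain ⟨E, hB⟩ := exists_base (H := H)
  exact iso_model (H := H) (by rw [Fintype.card_coe, Spor.Srg77.card_pts (params (H := H) hB)])
    (steiner (H := H) hB) (toAut E) (toAut_injective (H := H) hB)

end Cfsg.Agent.MTwentyTwo.ByOrder
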