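import Cfsg.Agent.Lib.Spor.MTwentyTwoOrder.Rad

/-!
The four-groups in the two-part of the centraliser of a four-group.
-/

set_option autoImplicit false
set_option linter.unusedSectionVars false
set_option linter.style.haveILetI false

namespace Cfsg.Agent.MTwentyTwo.ByOrder

open Cfsg
open scoped Pointwise

universe u

variable {G : Type u} [Group G] [Fintype G] {H : Cls G}

/-- A subgroup of order nine with two independent elements. -/
structure Duo (S : Subgroup G) (a b : G) : Prop where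
  nine : Nine S
  left : a ∈ S
  right : b ∈ S
  three : orderOf a = 3
  three' : orderOf b = 3
  indep : b ∉ Subgroup.zpowers a
  indep' : a ∉ Subgroup.zpowers b

theorem Nine.duo {S : Subgroup G} (hS : Nine S) {a b : G} (ha : a ∈ S) (hb : b ∈ S) (hao : orderOf a = 3)
    (h : b ∉ Subgroup.zpowers a) : Duo S a b := by
  have hb1 : b ≠ 1 := fun e => h (e ▸ one_mem _)
  have hbo := hS.orderOf_eq hb hb1
  refine ⟨hS, ha, hb, hao, hbo, h, fun hh => h ?_⟩
  rw [Subgroup.eq_of_le_of_card_ge (Subgroup.zpowers_le.2 hh) (by rw [Nat.card_zpowers, Nat.card_zpowers, hao, hbo])]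
  exact Subgroup.mem_zpowers b

theorem Duo.symm {S : Subgroup G} {a b : G} (h : Duo S a b) : Duo S b a :=
  ⟨h.nine, h.right, h.left, h.three', h.three, h.indep', h.indep⟩

theorem Duo.comm {S : Subgroup G} {a b : G} (h : Duo S a b) : Commute a b := h.nine.comm a h.left b h.right

include H in
theorem Duo.disjoint {S : Subgroup G} {a b x : G} (h : Duo S a b) (ha : x ∈ four a) (hb : x ∈ four b) : x = 1 := by
  have hne : a ≠ 1 := fun e => h.indep' (e ▸ one_mem _)
  exact (h.nine.exists_four (H := H) h.left hne).fixed b h.right h.indep x ha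
    ((ByOrder.mem_four (H := H) h.three').1 hb).1.symm

include H in
/-- The product of two commuting four-groups. -/
theorem Duo.dbl {S : Subgroup G} {a b : G} (h : Duo S a b)
    (hle : four b ≤ Subgroup.centralizer (four a : Set G)) :
    Nat.card ↥(four a ⊔ four b) = 16 ∧ (∀ x ∈ four a ⊔ four b, x * x = 1) ∧
      ∀ x ∈ four a ⊔ four b, ∃ v ∈ four a, ∃ w ∈ four b, x = v * w := by
  have hA := h.nine.exists_four (H := H) h.left fun e => h.indep' (e ▸ one_mem _)
  have hB := h.nine.exists_four (H := H) h.right fun e => h.indep (e ▸ one_mem _)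
  have hc : ∀ v ∈ four a, ∀ w ∈ four b, Commute v w := fun v hv w hw => Subgroup.mem_centralizer_iff.1 (hle hw) v hv
  let K : Subgroup G :=
    { carrier := {x | ∃ v ∈ four a, ∃ w ∈ four b, x = v * w}
      one_mem' := ⟨1, one_mem _, 1, one_mem _, by rw [mul_one]⟩
      mul_mem' := by
        rintro _ _ ⟨v, hv, w, hw, rfl⟩ ⟨v', hv', w', hw', rfl⟩
        refine ⟨v * v', mul_mem hv hv', w * w', mul_mem hw hw', ?_⟩
        calc v * w * (v' * w') = v * (w * v') * w' := by group
          _ = v * (v' * w) * w' := by rw [(hc v' hv' w hw).eq]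
          _ = v * v' * (w * w') := by group
      inv_mem' := by
        rintro _ ⟨v, hv, w, hw, rfl⟩
        refine ⟨v⁻¹, inv_mem hv, w⁻¹, inv_mem hw, ?_⟩
        rw [(hc v hv w hw).eq, mul_inv_rev] }
  have e : four a ⊔ four b = K := le_antisymm
    (sup_le (fun v hv => ⟨v, hv, 1, one_mem _, by rw [mul_one]⟩) fun w hw => ⟨1, one_mem _, w, hw, by rw [one_mul]⟩)
    (by rintro _ ⟨v, hv, w, hw, rfl⟩; exact Subgroup.mul_mem_sup hv hw)
  rw [e]
  refine ⟨?_, ?_, fun x hx => hx⟩
  · let f : four a × four b → K := fun p => ⟨(p.1 : G) * p.2, p.1, p.1.2, p.2, p.2.2, rfl⟩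
    have hf : Function.Bijective f := by
      refine ⟨fun p q hpq => ?_, ?_⟩
      · have hpq' : (p.1 : G) * p.2 = q.1 * q.2 := congrArg Subtype.val hpq
        have h1 : ((q.1 : G))⁻¹ * p.1 = q.2 * (p.2 : G)⁻¹ := by
          calc ((q.1 : G))⁻¹ * p.1 = (q.1 : G)⁻¹ * (p.1 * p.2) * (p.2 : G)⁻¹ := by group
            _ = _ := by rw [hpq']; group
        have h2 := h.disjoint (H := H) (mul_mem (inv_mem q.1.2) p.1.2) (h1 ▸ mul_mem q.2.2 (inv_mem p.2.2))
        have h3 : (q.1 : G) = p.1 := inv_mul_eq_one.1 h2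
        exact Prod.ext (Subtype.ext h3.symm) (Subtype.ext (by rw [h3] at hpq'; exact mul_left_cancel hpq'))
      · rintro ⟨_, v, hv, w, hw, rfl⟩
        exact ⟨(⟨v, hv⟩, ⟨w, hw⟩), rfl⟩
    rw [← Nat.card_eq_of_bijective f hf, Nat.card_prod, hA.card, hB.card]
  · rintro _ ⟨v, hv, w, hw, rfl⟩
    calc v * w * (v * w) = v * (w * v) * w := by group
      _ = v * (v * w) * w := by rw [(hc v hv w hw).eq]
      _ = (v * v) * (w * w) := by group
      _ = 1 := by rw [hA.sq v hv, hB.sq w hw, one_mul]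

include H in
theorem Duo.smul_four {S : Subgroup G} {a b : G} (h : Duo S a b) :
    a ∈ Subgroup.normalizer (four b : Set G) :=
  four_normal (H := H) h.three' (Or.inl (mul_inv_eq_iff_eq_mul.2 h.comm.eq))

/-- The number of four-groups in the two-part. -/
structure Count (y : G) (S : Subgroup G) (f : Fin 3 → G) (n : ℕ) : Prop where
  duo : ∀ i, Duo S y (f i)
  sep : ∀ i j, i ≠ j → Duo S (f i) (f j)
  all : ∀ k ∈ S, k ∉ Subgroup.zpowers y → ∃ i, four k = four (f i)
  num : open scoped Classical in (Finset.univ.filter fun i => four (f i) ≤ rad y).card = n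

include H in
theorem exists_count {t y : G} {Q : Subgroup G} (h : Pair t y) (hQ : Core t y Q) {S : Subgroup G} (hS : Nine S)
    (hyS : y ∈ S) : ∃ f : Fin 3 → G, (Nat.card (rad y) = 16 → Count y S f 1) ∧
      (Nat.card (rad y) = 64 → Count y S f 2) := by
  classical
  obtain ⟨s, hs, hsy⟩ := exists_outside hS h.three
  have hy3 : y * y * y = 1 := by rw [← hS.cube y hyS]; simp [pow_succ, mul_assoc]
  have hs3 : s * s * s = 1 := by rw [← hS.cube s hs]; simp [pow_succ, mul_assoc]
  have hso := hS.orderOf_eq hs fun e => hsy (e ▸ one_mem _)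
  have hys : y ∉ Subgroup.zpowers s := (hS.duo hyS hs h.three hsy).indep'
  have hcm : Commute y s := hS.comm y hyS s hs
  let f : Fin 3 → G := fun i => y ^ (i : ℕ) * s
  have hfS : ∀ i, f i ∈ S := fun i => mul_mem (pow_mem hyS _) hs
  have hfy : ∀ i, f i ∉ Subgroup.zpowers y := fun i hh => hsy (by
    have := mul_mem (inv_mem (pow_mem (Subgroup.mem_zpowers y) (i : ℕ))) hh
    rwa [inv_mul_cancel_left] at this)
  have hduo : ∀ i, Duo S y (f i) := fun i => hS.duo hyS (hfS i) h.three (hfy i)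
  have hpow : ∀ a : G, a * a * a = 1 → a⁻¹ = a * a := fun a ha => inv_eq_of_mul_eq_one_right (by rw [← mul_assoc, ha])
  let g : Fin 3 × Fin 3 → S := fun p => ⟨y ^ (p.1 : ℕ) * s ^ (p.2 : ℕ), mul_mem (pow_mem hyS _) (pow_mem hs _)⟩
  have hginj : Function.Injective g := by
    intro p q hpq
    have e : y ^ (p.1 : ℕ) * s ^ (p.2 : ℕ) = y ^ (q.1 : ℕ) * s ^ (q.2 : ℕ) := congrArg Subtype.val hpq
    have e2 : (y ^ (q.1 : ℕ))⁻¹ * y ^ (p.1 : ℕ) = s ^ (q.2 : ℕ) * (s ^ (p.2 : ℕ))⁻¹ := by
      calc _ = (y ^ (q.1 : ℕ))⁻¹ * (y ^ (p.1 : ℕ) * s ^ (p.2 : ℕ)) * (s ^ (p.2 : ℕ))⁻¹ := by group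
        _ = _ := by rw [e]; group
    have h1 : s ^ (q.2 : ℕ) * (s ^ (p.2 : ℕ))⁻¹ = 1 := by
      by_contra hne
      refine hsy ?_
      have hmy : s ^ (q.2 : ℕ) * (s ^ (p.2 : ℕ))⁻¹ ∈ Subgroup.zpowers y :=
        e2 ▸ mul_mem (inv_mem (pow_mem (Subgroup.mem_zpowers y) _)) (pow_mem (Subgroup.mem_zpowers y) _)
      have hms : s ^ (q.2 : ℕ) * (s ^ (p.2 : ℕ))⁻¹ ∈ Subgroup.zpowers s :=
        mul_mem (pow_mem (Subgroup.mem_zpowers s) _) (inv_mem (pow_mem (Subgroup.mem_zpowers s) _))
      have := of_zpowers hso hms hne (Commute.refl _)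
      have hz : Subgroup.zpowers (s ^ (q.2 : ℕ) * (s ^ (p.2 : ℕ))⁻¹) = Subgroup.zpowers s := by
        refine Subgroup.eq_of_le_of_card_ge (Subgroup.zpowers_le.2 hms) ?_
        rw [Nat.card_zpowers, Nat.card_zpowers, hso, hS.orderOf_eq (mul_mem (pow_mem hs _) (inv_mem (pow_mem hs _))) hne]
      have hle : Subgroup.zpowers s ≤ Subgroup.zpowers y := hz ▸ Subgroup.zpowers_le.2 hmy
      exact hle (Subgroup.mem_zpowers s)
    rw [h1, inv_mul_eq_one] at e2
    have h3 : ∀ {a : G} {i j : Fin 3}, orderOf a = 3 → a ^ (i : ℕ) = a ^ (j : ℕ) → i = j := by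
      intro a i j ha hij
      have := pow_injOn_Iio_orderOf (x := a) (by simp [ha]) (by simp [ha]) hij
      exact Fin.ext this
    exact Prod.ext (h3 h.three e2.symm) (h3 hso (mul_inv_eq_one.1 h1).symm)
  have hgsurj : Function.Surjective g := by
    refine ((Nat.bijective_iff_injective_and_card g).2 ⟨hginj, ?_⟩).2
    rw [Nat.card_eq_fintype_card, hS.card]
    rfl
  have hall : ∀ k ∈ S, k ∉ Subgroup.zpowers y → ∃ i, four k = four (f i) := by
    intro k hk hky
    obtain ⟨⟨i, j⟩, hij⟩ := hgsurj ⟨k, hk⟩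
    have hk' : k = y ^ (i : ℕ) * s ^ (j : ℕ) := (congrArg Subtype.val hij).symm
    fin_cases j
    · exact absurd (by rw [hk']; simpa using pow_mem (Subgroup.mem_zpowers y) (i : ℕ)) hky
    · exact ⟨i, by rw [hk']; simp [f]⟩
    · refine ⟨-i, ?_⟩
      rw [← four_inv (H := H) (hS.orderOf_eq hk fun e => hky (e ▸ one_mem _))]
      refine congrArg four ?_
      rw [hk']
      show (y ^ (i : ℕ) * s ^ 2)⁻¹ = y ^ ((-i : Fin 3) : ℕ) * s
      rw [mul_inv_rev, show (s ^ 2)⁻¹ = s from inv_eq_of_mul_eq_one_right (by rw [pow_two, hs3]),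
        ((hcm.pow_left (i : ℕ)).inv_left.eq).symm]
      congr 1
      refine inv_eq_of_mul_eq_one_right ?_
      fin_cases i <;> simp [pow_succ, ← mul_assoc, hy3, show ((-2 : Fin 3) : ℕ) = 1 from rfl,
        show ((-1 : Fin 3) : ℕ) = 2 from rfl]
  have hsep : ∀ i j, i ≠ j → Duo S (f i) (f j) := by
    intro i j hij
    refine hS.duo (hfS i) (hfS j) (hduo i).three' fun hh => ?_
    -- the quotient of two of them lies in the line of `y`
    have hd : f i * (f j)⁻¹ ∈ Subgroup.zpowers (f i) := mul_mem (Subgroup.mem_zpowers _) (inv_mem hh)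
    have hd' : f i * (f j)⁻¹ = y ^ (i : ℕ) * (y ^ (j : ℕ))⁻¹ := by simp only [f]; group
    have hne : y ^ (i : ℕ) * (y ^ (j : ℕ))⁻¹ ≠ 1 := fun e => hij (Fin.ext (pow_injOn_Iio_orderOf (x := y)
      (by simp [h.three]) (by simp [h.three]) (mul_inv_eq_one.1 e)))
    have hz : Subgroup.zpowers (y ^ (i : ℕ) * (y ^ (j : ℕ))⁻¹) = Subgroup.zpowers y := by
      refine Subgroup.eq_of_le_of_card_ge (Subgroup.zpowers_le.2 (mul_mem (pow_mem (Subgroup.mem_zpowers y) _)
        (inv_mem (pow_mem (Subgroup.mem_zpowers y) _)))) ?_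
      rw [Nat.card_zpowers, Nat.card_zpowers, h.three,
        hS.orderOf_eq (mul_mem (pow_mem hyS _) (inv_mem (pow_mem hyS _))) hne]
    exact (hduo i).indep' (by
      have : Subgroup.zpowers y ≤ Subgroup.zpowers (f i) := hz ▸ Subgroup.zpowers_le.2 (hd' ▸ hd)
      exact this (Subgroup.mem_zpowers y))
  obtain ⟨hrad, -, -⟩ := hQ.rad_eq (H := H) h
  set I := Finset.univ.filter fun i => four (f i) ≤ rad y with hI
  let U : Finset G := (Finset.univ.filter fun x : G => x ∈ four y) ∪
    I.biUnion fun i => (Finset.univ.filter fun x : G => x ∈ four (f i)).erase 1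
  have hV := hS.exists_four (H := H) hyS fun e => by have := h.three; rw [e, orderOf_one] at this; omega
  have hW := fun i => hS.exists_four (H := H) (hfS i) fun e => hfy i (e ▸ one_mem _)
  have hUR : U ⊆ Finset.univ.filter fun x : G => x ∈ rad y := by
    intro x hx
    simp only [U, Finset.mem_union, Finset.mem_biUnion, Finset.mem_erase, Finset.mem_filter, Finset.mem_univ,
      true_and, hI] at hx ⊢
    rcases hx with hx | ⟨i, hi, -, hx⟩
    · rw [hrad]
      refine ⟨hQ.four_le hx, Subgroup.mem_centralizer_iff.2 fun z hz => ?_⟩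
      have h1 := hV.sq _ (mul_mem hx hz)
      calc z * x = (x * z * (x * z)) * z * x := by rw [h1, one_mul]
        _ = x * z * (x * (z * z) * x) := by group
        _ = x * z := by rw [hV.sq z hz, mul_one, hV.sq x hx, mul_one]
    · exact hi hx
  have hUc : U.card = 4 + 3 * I.card := by
    simp only [U]
    rw [Finset.card_union_of_disjoint, Finset.card_biUnion, card_filter, hV.card, Finset.sum_const_nat (m := 3)]
    · ring
    · intro i _
      rw [Finset.card_erase_of_mem (by simp [one_mem]), card_filter, (hW i).card]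
    · intro i _ j _ hij
      refine Finset.disjoint_left.2 fun x hx hx' => ?_
      simp only [Finset.mem_erase, Finset.mem_filter, Finset.mem_univ, true_and] at hx hx'
      exact hx.1 ((hsep i j hij).disjoint (H := H) hx.2 hx'.2)
    · refine Finset.disjoint_left.2 fun x hx hx' => ?_
      simp only [Finset.mem_biUnion, Finset.mem_erase, Finset.mem_filter, Finset.mem_univ, true_and] at hx hx'
      obtain ⟨i, -, hx1, hxi⟩ := hx'
      exact hx1 ((hduo i).disjoint (H := H) hx hxi)
  have h9 : 9 ∣ Nat.card (rad y) - (4 + 3 * I.card) := by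
    have hmemU : ∀ x, x ∈ U ↔ x ∈ four y ∨ ∃ i ∈ I, x ≠ 1 ∧ x ∈ four (f i) := by intro x; simp [U]
    have hnorm : ∀ k ∈ S, ∀ z ∈ S, orderOf z = 3 → k ∈ Subgroup.normalizer (four z : Set G) := fun k hk z hz hzo =>
      four_normal (H := H) hzo (Or.inl (mul_inv_eq_iff_eq_mul.2 (hS.comm k hk z hz).eq))
    have hd := free_dvd S ((Finset.univ.filter fun x : G => x ∈ rad y) \ U) (fun k hk x hx => by
        simp only [Finset.mem_sdiff, Finset.mem_filter, Finset.mem_univ, true_and, hmemU] at hx ⊢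
        refine ⟨(Subgroup.mem_normalizer_iff.1 (rad_normal (H := H) h.three
          (Or.inl (mul_inv_eq_iff_eq_mul.2 (hS.comm k hk y hyS).eq))) x).1 hx.1, fun e => hx.2 ?_⟩
        rcases e with e | ⟨i, hi, e1, e⟩
        · exact Or.inl ((Subgroup.mem_normalizer_iff.1 (hnorm k hk y hyS h.three) x).2 e)
        · exact Or.inr ⟨i, hi, fun e' => e1 (by rw [e']; group),
            (Subgroup.mem_normalizer_iff.1 (hnorm k hk _ (hfS i) (hduo i).three') x).2 e⟩)
      fun k hk x hx e => by
        simp only [Finset.mem_sdiff, Finset.mem_filter, Finset.mem_univ, true_and, hmemU, not_or] at hx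
        by_contra hk1
        have hkx : Commute k x := mul_inv_eq_iff_eq_mul.1 e
        have hx64 : x ^ 64 = 1 := by
          have := pow_card_eq_one' (G := Q) (x := ⟨x, (hrad ▸ hx.1 : x ∈ Q ⊓ _).1⟩)
          rw [hQ.card] at this
          exact congrArg Subtype.val this
        by_cases hky : k ∈ Subgroup.zpowers y
        · exact hx.2.1 (pow_four (H := H) h.three (of_zpowers h.three hky hk1 hkx).symm hx64)
        · obtain ⟨i, hi⟩ := hall k hk hky
          have hko := hS.orderOf_eq hk hk1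
          have hxi : x ∈ four (f i) := hi ▸ pow_four (H := H) hko hkx.symm hx64
          have hx1 : x ≠ 1 := fun e' => hx.2.1 (e' ▸ one_mem _)
          refine hx.2.2 ⟨i, Finset.mem_filter.2 ⟨Finset.mem_univ _, fun w hw => ?_⟩, hx1, hxi⟩
          by_cases hw1 : w = 1
          · exact hw1 ▸ one_mem _
          · have hyn := rad_normal (H := H) h.three (c := y) (Or.inl (by group))
            rcases (hW i).trans y hyS (hduo i).indep' x hxi hx1 w hw hw1 with rfl | rfl | rfl
            · exact hx.1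
            · exact (Subgroup.mem_normalizer_iff.1 hyn x).1 hx.1
            · simpa using (Subgroup.mem_normalizer_iff.1 (inv_mem hyn) x).1 hx.1
    rwa [hS.card, Finset.card_sdiff_of_subset hUR, hUc, card_filter] at hd
  have hI3 : I.card ≤ 3 := (Finset.card_le_univ _).trans (by simp)
  refine ⟨f, fun e => ⟨hduo, hsep, hall, ?_⟩, fun e => ⟨hduo, hsep, hall, ?_⟩⟩ <;> rw [← hI] <;> rw [e] at h9 <;>
    interval_cases I.card <;> omega

end Cfsg.Agent.MTwentyTwo.ByOrder
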