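import Cfsg.Agent.Lib.Spor.MTwentyTwoOrder.Three
import Cfsg.Agent.Lib.Spor.MTwentyTwoOrder.Free

/-!
The four-groups of elements of order three and their centralisers.
-/

set_option autoImplicit false
set_option linter.unusedSectionVars false
set_option linter.style.haveILetI false

namespace Cfsg.Agent.MTwentyTwo.ByOrder

open Cfsg
open scoped Pointwise

universe u

variable {G : Type u} [Group G] [Fintype G] {H : Cls G}

/-- An involution and an element of order three which commute. -/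
structure Pair (t y : G) : Prop where
  two : orderOf t = 2
  three : orderOf y = 3
  comm : Commute t y

/-- the two-part of the centraliser of the four-group -/
noncomputable def rad (y : G) : Subgroup G :=
  Subgroup.closure {x : G | x ∈ Subgroup.centralizer (four y : Set G) ∧ x ^ 64 = 1}

include H in
theorem exists_sg {y : G} (hy : orderOf y = 3) : ∃ S : Subgroup G, Nine S ∧ y ∈ S ∧ Four y S := by
  obtain ⟨S, hS, hyS⟩ := H.exists_nine hy
  exact ⟨S, hS, hyS, hS.exists_four (H := H) hyS fun e => by rw [e, orderOf_one] at hy; omega⟩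

theorem Pair.sq {t y : G} (h : Pair t y) : t * t = 1 := by
  rw [← pow_two, ← h.two, pow_orderOf_eq_one]

theorem Pair.ne_one {t y : G} (h : Pair t y) : t ≠ 1 := fun e => by
  have := h.two
  rw [e, orderOf_one] at this
  omega

include H in
theorem mem_four {y x : G} (hy : orderOf y = 3) : x ∈ four y ↔ Commute x y ∧ x ^ 4 = 1 := by
  obtain ⟨S, -, -, h⟩ := exists_sg (H := H) hy
  exact h.mem x

include H in
theorem Pair.mem_four {t y : G} (h : Pair t y) : t ∈ four y :=
  (ByOrder.mem_four (H := H) h.three).2 ⟨h.comm, by rw [show (4 : ℕ) = 2 * 2 from rfl, pow_mul, show t ^ 2 = 1 by rw [pow_two, h.sq], one_pow]⟩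

include H in
theorem four_conj {y : G} (hy : orderOf y = 3) (g x : G) :
    x ∈ four (g * y * g⁻¹) ↔ g⁻¹ * x * g ∈ four y := by
  rw [mem_four (H := H) hy, mem_four (H := H) (by rw [← hy]; exact orderOf_conj (isConj_iff.2 ⟨g⁻¹, by group⟩))]
  constructor
  · rintro ⟨h1, h2⟩
    refine ⟨?_, ?_⟩
    · have h := h1.map (MulAut.conj g⁻¹)
      simp only [MulAut.conj_apply, inv_inv] at h
      rwa [show g⁻¹ * (g * y * g⁻¹) * g = y by group] at h
    · have := congrArg (MulAut.conj g⁻¹) h2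
      rw [map_pow, map_one] at this
      simpa [MulAut.conj_apply] using this
  · rintro ⟨h1, h2⟩
    refine ⟨?_, ?_⟩
    · have h := h1.map (MulAut.conj g)
      simp only [MulAut.conj_apply] at h
      rwa [show g * (g⁻¹ * x * g) * g⁻¹ = x by group] at h
    · have := congrArg (MulAut.conj g) h2
      simp only [map_pow, MulAut.conj_apply, mul_one, mul_inv_cancel] at this
      rwa [show g * (g⁻¹ * x * g) * g⁻¹ = x by group] at this

include H in
theorem four_inv {y : G} (hy : orderOf y = 3) : four y⁻¹ = four y := by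
  ext x
  rw [mem_four (H := H) hy, mem_four (H := H) (by rw [orderOf_inv, hy])]
  exact ⟨fun h => ⟨by simpa using h.1.inv_right, h.2⟩, fun h => ⟨h.1.inv_right, h.2⟩⟩

theorem rad_conj {y y' g : G} (h : ∀ x, x ∈ four y' ↔ g⁻¹ * x * g ∈ four y) (x : G) :
    x ∈ rad y' ↔ g⁻¹ * x * g ∈ rad y := by
  have hm : ∀ z, z ∈ {x : G | x ∈ Subgroup.centralizer (four y' : Set G) ∧ x ^ 64 = 1} ↔
      (MulAut.conj g⁻¹) z ∈ {x : G | x ∈ Subgroup.centralizer (four y : Set G) ∧ x ^ 64 = 1} := by
    intro z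
    simp only [Set.mem_setOf_eq, MulAut.conj_apply, inv_inv, Subgroup.mem_centralizer_iff, SetLike.mem_coe]
    constructor
    · rintro ⟨h1, h2⟩
      refine ⟨fun w hw => ?_, by rw [show g⁻¹ * z * g = (MulAut.conj g⁻¹) z by simp, ← map_pow, h2, map_one]⟩
      have := h1 (g * w * g⁻¹) ((h _).2 (by rwa [show g⁻¹ * (g * w * g⁻¹) * g = w by group]))
      calc w * (g⁻¹ * z * g) = g⁻¹ * (g * w * g⁻¹ * z) * g := by group
        _ = g⁻¹ * z * g * w := by rw [this]; group
    · rintro ⟨h1, h2⟩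
      refine ⟨fun w hw => ?_, ?_⟩
      · have := h1 _ ((h w).1 hw)
        calc w * z = g * (g⁻¹ * w * g * (g⁻¹ * z * g)) * g⁻¹ := by group
          _ = z * w := by rw [this]; group
      · rw [show g⁻¹ * z * g = (MulAut.conj g⁻¹) z by simp, ← map_pow] at h2
        exact (MulEquiv.map_eq_one_iff _).1 h2
  have e : rad y' = (rad y).comap (MulAut.conj g⁻¹).toMonoidHom := by
    refine le_antisymm ((Subgroup.closure_le _).2 fun z hz => Subgroup.subset_closure ((hm z).1 hz)) fun z hz => ?_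
    have : (rad y).map (MulAut.conj g).toMonoidHom ≤ rad y' := by
      rw [rad, MonoidHom.map_closure]
      refine (Subgroup.closure_le _).2 ?_
      rintro w ⟨v, hv, rfl⟩
      refine Subgroup.subset_closure ((hm _).2 ?_)
      have hv' : (MulAut.conj g⁻¹) ((MulAut.conj g).toMonoidHom v) = v := by
        simp [mul_assoc]
      rw [hv']
      exact hv
    refine this ⟨_, hz, ?_⟩
    simp [mul_assoc]
  rw [e]
  simp

/-- A two-group complement in the centraliser of an involution. -/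
structure Core (t y : G) (Q : Subgroup G) : Prop where
  card : Nat.card Q = 64
  le : ∀ x ∈ Q, Commute x t
  normal : ∀ c : G, Commute c t → c ∈ Subgroup.normalizer (Q : Set G)
  four_le : four y ≤ Q
  gen : ∀ M : Subgroup G, Q ≤ M → y ∈ M → (∀ r : G, Commute r t → r * y * r⁻¹ = y⁻¹ → r ∈ M) →
    ∀ c : G, Commute c t → c ∈ M
  sylow : ∀ z : G, orderOf z = 3 → Commute t z →
    ∃ c : G, Commute c t ∧ (z = c * y * c⁻¹ ∨ z = c * y⁻¹ * c⁻¹)

include H in
/-- Inverting elements fix an involution but do not centralise the four-group. -/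
theorem Pair.inverters {t y : G} (h : Pair t y) :
    (∃ r : G, Commute r t ∧ r * y * r⁻¹ = y⁻¹) ∧
      ∀ n : G, n * y * n⁻¹ = y⁻¹ → ¬ ∀ x ∈ four y, Commute n x := by
  obtain ⟨S, hS, hyS, hV⟩ := exists_sg (H := H) h.three
  have hy1 : y ≠ 1 := fun e => by have := h.three; rw [e, orderOf_one] at this; omega
  obtain ⟨r, hr, -⟩ := hS.exists_inv (H := H) hyS hy1
  obtain ⟨s, hs, hsy⟩ : ∃ s ∈ S, s ∉ Subgroup.zpowers y := by
    by_contra hcon
    push Not at hcon
    have := Nat.le_of_dvd Nat.card_pos (Subgroup.card_dvd_of_le (H := S) (K := Subgroup.zpowers y) hcon)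
    rw [hS.card, Nat.card_zpowers, h.three] at this
    omega
  have hsc : Commute s y := hS.comm s hs y hyS
  have hrV : ∀ x ∈ four y, r * x * r⁻¹ ∈ four y := fun x hx => by
    rw [← four_inv (H := H) h.three, ← hr y hyS, four_conj (H := H) h.three]
    simpa [mul_assoc] using hx
  have ht := h.mem_four (H := H)
  refine ⟨?_, fun n hn hnV => ?_⟩
  · have hru : r * t * r⁻¹ ≠ 1 := fun e => h.ne_one (by
      calc t = r⁻¹ * (r * t * r⁻¹) * r := by group
        _ = 1 := by rw [e]; group)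
    rcases hV.trans s hs hsy t ht h.ne_one _ (hrV t ht) hru with e | e | e
    · exact ⟨r, mul_inv_eq_iff_eq_mul.1 e, hr y hyS⟩
    · refine ⟨s⁻¹ * r, mul_inv_eq_iff_eq_mul.1 ?_, ?_⟩
      · rw [show s⁻¹ * r * t * (s⁻¹ * r)⁻¹ = s⁻¹ * (r * t * r⁻¹) * s by group, e]; group
      · rw [show s⁻¹ * r * y * (s⁻¹ * r)⁻¹ = s⁻¹ * (r * y * r⁻¹) * s by group, hr y hyS,
          (hsc.inv_left.inv_right).eq]
        group
    · refine ⟨s * r, mul_inv_eq_iff_eq_mul.1 ?_, ?_⟩
      · rw [show s * r * t * (s * r)⁻¹ = s * (r * t * r⁻¹) * s⁻¹ by group, e]; group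
      · rw [show s * r * y * (s * r)⁻¹ = s * (r * y * r⁻¹) * s⁻¹ by group, hr y hyS, hsc.inv_right.eq]
        group
  · have hc : Commute (r⁻¹ * n) y := mul_inv_eq_iff_eq_mul.1 (by
      calc r⁻¹ * n * y * (r⁻¹ * n)⁻¹ = r⁻¹ * (n * y * n⁻¹) * r := by group
        _ = r⁻¹ * (r * y * r⁻¹) * r := by rw [hn, hr y hyS]
        _ = y := by group)
    obtain ⟨v, hv, s0, hs0, hdec⟩ := hV.decomp _ hc
    have hn' : n = r * v * s0 := by rw [mul_assoc r, ← hdec]; group
    -- the commutator centralises the four-group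
    set w := n * s * n⁻¹ * s⁻¹ with hw
    have hwV : ∀ x ∈ four y, Commute w x := by
      intro x hx
      have h1 : s⁻¹ * x * s ∈ four y := by simpa using hV.conj _ hsc.inv_left x hx
      have a1 : Commute n (s⁻¹ * x * s) := hnV _ h1
      have a2 : Commute n x := hnV x hx
      refine mul_inv_eq_iff_eq_mul.1 ?_
      calc w * x * w⁻¹ = n * s * (n⁻¹ * (s⁻¹ * x * s * n)) * s⁻¹ * n⁻¹ := by rw [hw]; group
        _ = n * s * (n⁻¹ * (n * (s⁻¹ * x * s))) * s⁻¹ * n⁻¹ := by rw [a1.eq]
        _ = n * x * n⁻¹ := by group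
        _ = x := mul_inv_eq_iff_eq_mul.2 a2.eq
    set v' := v * s * v⁻¹ * s⁻¹ with hv'
    have hv'V : v' ∈ four y := by
      rw [hv', mul_assoc v, mul_assoc v]
      exact mul_mem hv (by simpa [mul_assoc] using hV.conj s hsc _ (inv_mem hv))
    set u := r * v' * r⁻¹ with hu
    have huV : u ∈ four y := hrV _ hv'V
    have hweq : w = u * (s⁻¹ * s⁻¹) := by
      rw [hw, hn', hu, hv']
      calc r * v * s0 * s * (r * v * s0)⁻¹ * s⁻¹ = r * v * (s0 * s * s0⁻¹) * v⁻¹ * r⁻¹ * s⁻¹ := by group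
        _ = r * v * s * v⁻¹ * r⁻¹ * s⁻¹ := by
          rw [mul_inv_eq_iff_eq_mul.2 (hS.comm s0 hs0 s hs).eq]
        _ = r * (v * s * v⁻¹ * s⁻¹) * r⁻¹ * ((r * s * r⁻¹) * s⁻¹) := by group
        _ = _ := by rw [hr s hs]
    have hsx : ∀ x ∈ four y, Commute s x := by
      intro x hx
      have h2 : Commute u x := by
        have h3 := hV.sq u huV
        have h4 := hV.sq x hx
        have h5 := hV.sq _ (mul_mem huV hx)
        calc u * x = u * x * (u * x * (u * x))⁻¹ := by rw [h5]; group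
          _ = x⁻¹ * u⁻¹ := by group
          _ = x * u := by rw [inv_eq_of_mul_eq_one_right h3, inv_eq_of_mul_eq_one_right h4]
      have h1 : Commute (s⁻¹ * s⁻¹) x := by
        have := (h2.inv_left).mul_left (hwV x hx)
        rwa [hweq, inv_mul_cancel_left] at this
      rwa [show s⁻¹ * s⁻¹ = s by
        calc s⁻¹ * s⁻¹ = (s * s * s)⁻¹ * s := by group
          _ = s := by rw [show s * s * s = 1 by rw [← hS.cube s hs]; simp [pow_succ, mul_assoc]]; group] at h1
    exact h.ne_one (hV.fixed s hs hsy t ht (hsx t ht))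

include H in
theorem Pair.exists_core {t y : G} (h : Pair t y) : ∃ Q : Subgroup G, Core t y Q := by
  classical
  haveI : Fact (Nat.Prime 2) := ⟨Nat.prime_two⟩
  haveI : Fact (Nat.Prime 3) := ⟨Nat.prime_three⟩
  obtain ⟨⟨r, hrt, hry⟩, -⟩ := h.inverters (H := H)
  set C := Subgroup.centralizer ({t} : Set G) with hC
  have hCc : Nat.card C = 384 := H.invol t h.two
  obtain ⟨T⟩ : Nonempty (Sylow 2 C) := inferInstance
  have hTc : Nat.card T = 128 := by
    rw [T.card_eq_multiplicity, hCc, show (384 : ℕ) = 2 ^ 7 * 3 from rfl,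
      Nat.factorization_mul (by norm_num) (by norm_num), Nat.factorization_pow, Finsupp.add_apply,
      Finsupp.smul_apply, Nat.prime_two.factorization_self,
      Nat.factorization_eq_zero_of_not_dvd (by norm_num : ¬ 2 ∣ 3)]
    rfl
  have hTi : (T : Subgroup C).index = 3 := by
    have := Subgroup.card_mul_index (T : Subgroup C)
    rw [hCc, show Nat.card (T : Subgroup C) = 128 from hTc] at this
    omega
  set yC : C := ⟨y, mem_cent.2 h.comm.symm⟩
  set rC : C := ⟨r, mem_cent.2 hrt⟩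
  have hrel : rC * yC * rC⁻¹ = yC⁻¹ := Subtype.ext hry
  have hyo : orderOf yC = 3 := by rw [Subgroup.orderOf_mk, h.three]
  have hnotT : ∀ {K : Subgroup C}, Nat.card K ∣ 128 → yC ∉ K := fun hK hy => by
    have := (Subgroup.orderOf_dvd_natCard _ hy).trans hK
    rw [hyo] at this
    norm_num at this
  -- the quotient is not abelian
  have hnab : ∀ (K : Subgroup C) [K.Normal], Nat.card K ∣ 128 →
      ¬ ∀ a b : C ⧸ K, a * b = b * a := by
    intro K _ hK hab
    have h1 : (QuotientGroup.mk (rC * yC * rC⁻¹) : C ⧸ K) = QuotientGroup.mk yC := by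
      rw [QuotientGroup.mk_mul, QuotientGroup.mk_mul, hab (QuotientGroup.mk rC), mul_assoc, ← QuotientGroup.mk_mul,
        mul_inv_cancel]
      exact mul_one _
    rw [hrel, QuotientGroup.eq, inv_inv] at h1
    have h2 : yC = (yC * yC) * (yC * yC) := by
      calc yC = yC ^ 4 := by rw [show 4 = 3 + 1 from rfl, pow_succ, ← hyo, pow_orderOf_eq_one, one_mul]
        _ = _ := by simp [pow_succ, mul_assoc]
    exact hnotT hK (h2 ▸ mul_mem h1 h1)
  set K := (T : Subgroup C).normalCore with hK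
  have hKdvd : Nat.card K ∣ 128 := hTc ▸ Subgroup.card_dvd_of_le (Subgroup.normalCore_le _)
  have hKi : K.index ∣ 6 := by
    have h1 : K.index ∣ Nat.card (Equiv.Perm (C ⧸ (T : Subgroup C))) := by
      rw [hK, Subgroup.normalCore_eq_ker, Subgroup.index_ker]
      exact Subgroup.card_subgroup_dvd_card _
    rwa [Nat.card_perm, ← Subgroup.index_eq_card, hTi] at h1
  have h3i : 3 ∣ K.index := hTi ▸ Subgroup.index_dvd_of_le (Subgroup.normalCore_le _)
  have hKmul := Subgroup.card_mul_index K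
  rw [hCc] at hKmul
  have hK6 : K.index = 6 := by
    obtain ⟨j, hj⟩ := h3i
    rw [hj] at hKi ⊢
    have : j ∣ 2 := Nat.dvd_of_mul_dvd_mul_left (by norm_num : 0 < 3) (by simpa using hKi)
    rcases (Nat.dvd_prime Nat.prime_two).1 this with rfl | rfl
    · exfalso
      haveI : Fact (Nat.Prime 3) := ⟨Nat.prime_three⟩
      haveI : IsCyclic (C ⧸ K) := isCyclic_of_prime_card (p := 3) (by rw [← Subgroup.index_eq_card, hj])
      exact hnab K hKdvd fun a b => (IsCyclic.commutative.is_comm).comm a b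
    · rfl
  have hKc : Nat.card K = 64 := by rw [hK6] at hKmul; omega
  have hq6 : Nat.card (C ⧸ K) = 6 := by rw [← Subgroup.index_eq_card, hK6]
  set π := QuotientGroup.mk' K
  have hπy : orderOf (π yC) = 3 := by
    have h1 : orderOf (π yC) ∣ 3 := hyo ▸ orderOf_map_dvd π yC
    refine ((Nat.dvd_prime Nat.prime_three).1 h1).resolve_left fun e => hnotT hKdvd ?_
    exact (QuotientGroup.eq_one_iff yC).1 (orderOf_eq_one_iff.1 e)
  set Q := K.map C.subtype with hQ
  refine ⟨Q, (Subgroup.card_map_of_injective C.subtype_injective).trans hKc, ?_, ?_, ?_, ?_, ?_⟩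
  · rintro x ⟨z, -, rfl⟩
    exact mem_cent.1 z.2
  · intro c hc
    refine Subgroup.mem_normalizer_iff.2 fun x => ⟨?_, ?_⟩
    · rintro ⟨z, hz, rfl⟩
      exact ⟨⟨c, mem_cent.2 hc⟩ * z * ⟨c, mem_cent.2 hc⟩⁻¹,
        (Subgroup.normalCore_normal (T : Subgroup C)).conj_mem z hz _, rfl⟩
    · rintro ⟨z, hz, hze⟩
      refine ⟨⟨c, mem_cent.2 hc⟩⁻¹ * z * ⟨c, mem_cent.2 hc⟩, ?_, ?_⟩
      · simpa using (Subgroup.normalCore_normal (T : Subgroup C)).conj_mem z hz (⟨c, mem_cent.2 hc⟩⁻¹)
      · have hze' : (z : G) = c * x * c⁻¹ := hze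
        show c⁻¹ * (z : G) * c = x
        rw [hze']; group
  · intro x hx
    obtain ⟨hxy, hx4⟩ := (ByOrder.mem_four (H := H) h.three).1 hx
    obtain ⟨S, -, -, hV⟩ := exists_sg (H := H) h.three
    have hxt : Commute x t := by
      have ht := h.mem_four (H := H)
      calc x * t = x * t * (x * t * (x * t))⁻¹ := by rw [hV.sq _ (mul_mem hx ht)]; group
        _ = t⁻¹ * x⁻¹ := by group
        _ = t * x := by rw [inv_eq_of_mul_eq_one_right h.sq, inv_eq_of_mul_eq_one_right (hV.sq x hx)]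
    refine ⟨⟨x, mem_cent.2 hxt⟩, ?_, rfl⟩
    by_contra hnK
    set xq := π ⟨x, mem_cent.2 hxt⟩
    have hxo : orderOf xq = 2 := orderOf_eq_prime (by
      rw [← map_pow, show (⟨x, mem_cent.2 hxt⟩ : C) ^ 2 = 1 from Subtype.ext (by
        show x ^ 2 = 1
        rw [pow_two, hV.sq x hx]), map_one]) fun e => hnK ((QuotientGroup.eq_one_iff _).1 e)
    have hcm : Commute xq (π yC) := (show Commute (⟨x, mem_cent.2 hxt⟩ : C) yC from Subtype.ext hxy).map π
    haveI : IsCyclic (C ⧸ K) := isCyclic_of_orderOf_eq_card (xq * π yC) (by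
      rw [hcm.orderOf_mul_eq_mul_orderOf_of_coprime (by rw [hxo, hπy]; norm_num), hxo, hπy, hq6])
    exact hnab K hKdvd fun a b => (IsCyclic.commutative.is_comm).comm a b
  · intro M hQM hyM hrM c hc
    have hr := hrM r hrt hry
    have hKM : K ≤ M.subgroupOf C := fun z hz => hQM ⟨z, hz, rfl⟩
    have hy2 : yC ∈ M.subgroupOf C := hyM
    have hr2 : rC ∈ M.subgroupOf C := hr
    have himg : (M.subgroupOf C).map π = ⊤ := by
      refine Subgroup.eq_top_of_card_eq _ ?_
      have h3 : 3 ∣ Nat.card ((M.subgroupOf C).map π) :=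
        hπy ▸ Subgroup.orderOf_dvd_natCard _ (Subgroup.mem_map_of_mem π hy2)
      have h6 : Nat.card ((M.subgroupOf C).map π) ∣ 6 := hq6 ▸ Subgroup.card_subgroup_dvd_card _
      obtain ⟨j, hj⟩ := h3
      rw [hj] at h6
      have : j ∣ 2 := Nat.dvd_of_mul_dvd_mul_left (by norm_num : 0 < 3) (by simpa using h6)
      rcases (Nat.dvd_prime Nat.prime_two).1 this with rfl | rfl
      · exfalso
        have he : Subgroup.zpowers (π yC) = (M.subgroupOf C).map π :=
          Subgroup.eq_of_le_of_card_ge (Subgroup.zpowers_le.2 (Subgroup.mem_map_of_mem π hy2))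
            (by rw [Nat.card_zpowers, hπy, hj])
        have hr' := Subgroup.mem_map_of_mem π hr2
        rw [← he] at hr'
        obtain ⟨i, hi⟩ := hr'
        have hcm : π rC * π yC * (π rC)⁻¹ = π yC := by
          rw [← show π yC ^ i = π rC from hi]; group
        rw [← map_inv, ← map_mul, ← map_mul, hrel] at hcm
        rw [map_inv] at hcm
        have := orderOf_le_of_pow_eq_one (x := π yC) (by norm_num : 0 < 2) (by
          rw [pow_two]; nth_rewrite 1 [← hcm]; exact inv_mul_cancel _)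
        omega
      · rw [hj, hq6]
    obtain ⟨z, hz, hzc⟩ : π ⟨c, mem_cent.2 hc⟩ ∈ (M.subgroupOf C).map π := by rw [himg]; trivial
    have hk : z⁻¹ * ⟨c, mem_cent.2 hc⟩ ∈ K := QuotientGroup.eq.1 hzc
    have := (M.subgroupOf C).mul_mem hz (hKM hk)
    rw [mul_inv_cancel_left] at this
    exact this
  · intro z hz hzt
    set zC : C := ⟨z, mem_cent.2 hzt.symm⟩
    have mk : ∀ w : C, orderOf w = 3 → ∃ P : Sylow 3 C, (P : Subgroup C) = Subgroup.zpowers w := by
      intro w hw
      refine ⟨Sylow.ofCard (Subgroup.zpowers w) ?_, rfl⟩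
      rw [Nat.card_zpowers, hw, hCc, show (384 : ℕ) = 3 ^ 1 * 128 from rfl,
        Nat.factorization_mul (by norm_num) (by norm_num), Nat.factorization_pow, Finsupp.add_apply,
        Finsupp.smul_apply, Nat.prime_three.factorization_self,
        Nat.factorization_eq_zero_of_not_dvd (by norm_num : ¬ 3 ∣ 128)]
      rfl
    obtain ⟨P, hP⟩ := mk yC hyo
    obtain ⟨P', hP'⟩ := mk zC (by rw [Subgroup.orderOf_mk, hz])
    obtain ⟨c, hc⟩ := MulAction.exists_smul_eq C P P'
    have hzm : zC ∈ (MulAut.conj c • (P : Subgroup C) : Subgroup C) := by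
      rw [show (MulAut.conj c • (P : Subgroup C) : Subgroup C) = (P' : Subgroup C) by rw [← hc]; rfl, hP']
      exact Subgroup.mem_zpowers zC
    rw [hP, Subgroup.mem_smul_pointwise_iff_exists] at hzm
    obtain ⟨w, hw, hwz⟩ := hzm
    obtain ⟨i, hi⟩ := (Subgroup.mem_zpowers_iff).1 hw
    have hzG : (c : G) * y ^ i * (c : G)⁻¹ = z := by
      have := congrArg Subtype.val hwz
      rw [← hi] at this
      simpa [yC, zC, MulAut.smul_def] using this
    refine ⟨c, mem_cent.1 c.2, ?_⟩
    have hi3 := Int.emod_emod_of_dvd i (dvd_refl (3 : ℤ))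
    have hyi : y ^ i = y ^ (i % 3) := by
      have := zpow_mod_orderOf y i
      rw [h.three] at this
      exact_mod_cast this.symm
    rcases (show i % 3 = 0 ∨ i % 3 = 1 ∨ i % 3 = 2 by omega) with e | e | e <;> rw [hyi, e] at hzG
    · exfalso
      rw [← hzG] at hz
      simp at hz
    · exact Or.inl (by rw [← hzG, zpow_one])
    · refine Or.inr ?_
      rw [← hzG, show (2 : ℤ) = ((2 : ℕ) : ℤ) from rfl, zpow_natCast,
        show y ^ 2 = y⁻¹ from eq_inv_of_mul_eq_one_left (by rw [← pow_succ, show 2 + 1 = orderOf y by rw [h.three], pow_orderOf_eq_one])]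

include H in
/-- All commuting pairs are conjugate. -/
theorem Pair.conj {t y t' y' : G} (h : Pair t y) (h' : Pair t' y') :
    ∃ g : G, g * t * g⁻¹ = t' ∧ g * y * g⁻¹ = y' := by
  obtain ⟨g, hg⟩ := isConj_iff.1 (H.three_conj y y' h.three h'.three)
  obtain ⟨S, hS, hyS, hV⟩ := exists_sg (H := H) h'.three
  obtain ⟨s, hs, hsy⟩ : ∃ s ∈ S, s ∉ Subgroup.zpowers y' := by
    by_contra hcon
    push Not at hcon
    have := Nat.le_of_dvd Nat.card_pos (Subgroup.card_dvd_of_le (H := S) (K := Subgroup.zpowers y') hcon)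
    rw [hS.card, Nat.card_zpowers, h'.three] at this
    omega
  have hsc : Commute s y' := hS.comm s hs y' hyS
  have hu : g * t * g⁻¹ ∈ four y' := by
    rw [← hg, four_conj (H := H) h.three]
    simpa [mul_assoc] using h.mem_four (H := H)
  have hu1 : g * t * g⁻¹ ≠ 1 := fun e => h.ne_one (by
    calc t = g⁻¹ * (g * t * g⁻¹) * g := by group
      _ = 1 := by rw [e]; group)
  rcases hV.trans s hs hsy _ hu hu1 t' (h'.mem_four (H := H)) h'.ne_one with e | e | e
  · exact ⟨g, e.symm, hg⟩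
  · refine ⟨s * g, by rw [e]; group, ?_⟩
    rw [show s * g * y * (s * g)⁻¹ = s * (g * y * g⁻¹) * s⁻¹ by group, hg]
    exact mul_inv_eq_iff_eq_mul.2 hsc.eq
  · refine ⟨s⁻¹ * g, by rw [e]; group, ?_⟩
    rw [show s⁻¹ * g * y * (s⁻¹ * g)⁻¹ = s⁻¹ * (g * y * g⁻¹) * s⁻¹⁻¹ by group, hg]
    exact mul_inv_eq_iff_eq_mul.2 hsc.inv_left.eq

end Cfsg.Agent.MTwentyTwo.ByOrder
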