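import Cfsg.Agent.Lib.Spor.MTwentyTwoOrder.Blocks

/-!
Two of the seventy-seven subgroups of order sixteen meet their normalisers in trivial or four-groups.
-/

set_option autoImplicit false
set_option linter.unusedSectionVars false
set_option linter.style.haveILetI false

namespace Cfsg.Agent.MTwentyTwo.ByOrder

open Cfsg
open scoped Pointwise

universe u

variable {G : Type u} [Group G] [Fintype G] {H : Cls G}

/-- One of the subgroups of order sixteen. -/
structure Hexad (E : Subgroup G) : Prop where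
  card : Nat.card E = 16
  sq : ∀ x ∈ E, x * x = 1
  pair : ∀ x ∈ E, x ≠ 1 → ∃ y, Pair x y ∧ rad y = E

include H in
theorem Hexad.eq_of_mem {E X : Subgroup G} (hE : Hexad E) (hX : Hexad X) {u : G} (hu : u ∈ E) (hu' : u ∈ X)
    (hu1 : u ≠ 1) : X = E := by
  obtain ⟨y, hy, rfl⟩ := hE.pair u hu hu1
  obtain ⟨y', hy', rfl⟩ := hX.pair u hu' hu1
  exact rad_unique (H := H) hy hy'

include H in
theorem Hexad.stab {E : Subgroup G} (hE : Hexad E) {x c : G} (hx : x ∈ E) (hx1 : x ≠ 1) (hc : Commute c x) :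
    c ∈ Subgroup.normalizer (E : Set G) := by
  obtain ⟨y, hy, rfl⟩ := hE.pair x hx hx1
  exact rad_stable (H := H) hy hc

theorem Hexad.comm {E : Subgroup G} (hE : Hexad E) {a b : G} (ha : a ∈ E) (hb : b ∈ E) : Commute a b := by
  calc a * b = (b * a) * ((b * a)⁻¹ * (a * b)) := by group
    _ = b * a * (a⁻¹ * b⁻¹ * (a * b)) := by rw [mul_inv_rev]
    _ = b * a * 1 := by
      rw [inv_eq_of_mul_eq_one_right (hE.sq a ha), inv_eq_of_mul_eq_one_right (hE.sq b hb),
        hE.sq _ (mul_mem ha hb)]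
    _ = b * a := mul_one _

include H in
theorem Hexad.conj {E : Subgroup G} (hE : Hexad E) (g : G) : Hexad (MulAut.conj g • E) := by
  have hmem : ∀ {x : G}, x ∈ MulAut.conj g • E → g⁻¹ * x * g ∈ E := fun {x} hx => by
    rw [Subgroup.mem_pointwise_smul_iff_inv_smul_mem, MulAut.smul_def] at hx
    simpa using hx
  refine ⟨?_, fun x hx => ?_, fun x hx hx1 => ?_⟩
  · rw [← hE.card]
    exact Nat.card_congr (Subgroup.equivSMul (MulAut.conj g) E).toEquiv.symm
  · calc x * x = g * (g⁻¹ * x * g * (g⁻¹ * x * g)) * g⁻¹ := by group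
      _ = 1 := by rw [hE.sq _ (hmem hx)]; group
  · obtain ⟨y, hy, rfl⟩ := hE.pair _ (hmem hx) fun e => hx1 (by
      calc x = g * (g⁻¹ * x * g) * g⁻¹ := by group
        _ = 1 := by rw [e]; group)
    refine ⟨g * y * g⁻¹, ⟨?_, three_conj_order hy.three g, ?_⟩, rad_conj_eq (H := H) hy.three g⟩
    · rw [← hy.two]
      exact orderOf_conj (isConj_iff.2 ⟨g⁻¹, by group⟩)
    · have := hy.comm.map (MulAut.conj g)
      simp only [MulAut.conj_apply] at this
      rwa [show g * (g⁻¹ * x * g) * g⁻¹ = x by group] at this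

include H in
/-- The index of the part in the core. -/
theorem Core.index_part {t y : G} (h : Pair t y) {Q : Subgroup G} (hQ : Core t y Q) (K : Subgroup G)
    (hK : ∀ x ∈ K, Commute x t) : ∃ j, j ∣ 6 ∧ Nat.card K = Nat.card ↥(Q ⊓ K) * j := by
  set C := Subgroup.centralizer ({t} : Set G) with hC
  have hQC : Q ≤ C := fun x hx => mem_cent.2 (hQ.le x hx)
  have hKC : K ≤ C := fun x hx => mem_cent.2 (hK x hx)
  haveI : (Q.subgroupOf C).Normal := ⟨fun x hx c => by
    exact (Subgroup.mem_normalizer_iff.1 (hQ.normal c (mem_cent.1 c.2)) x).1 hx⟩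
  have hidx : (Q.subgroupOf C).index = 6 := by
    have := Subgroup.card_mul_index (Q.subgroupOf C)
    rw [Nat.card_congr (Subgroup.subgroupOfEquivOfLe hQC).toEquiv, hQ.card,
      show Nat.card C = 384 from H.invol t h.two] at this
    omega
  set K' := K.subgroupOf C with hK'
  refine ⟨(Q.subgroupOf C).relIndex K', hidx ▸ Subgroup.relIndex_dvd_index_of_normal _ _, ?_⟩
  have h1 := Subgroup.card_mul_index ((Q.subgroupOf C).subgroupOf K')
  rw [show ((Q.subgroupOf C).subgroupOf K').index = (Q.subgroupOf C).relIndex K' from rfl,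
    Nat.card_congr (Subgroup.subgroupOfEquivOfLe hKC).toEquiv] at h1
  rw [← h1]
  congr 1
  rw [← Subgroup.inf_subgroupOf_right, Nat.card_congr (Subgroup.subgroupOfEquivOfLe inf_le_right).toEquiv,
    show Q.subgroupOf C ⊓ K' = (Q ⊓ K).subgroupOf C by ext x; simp [K', Subgroup.mem_subgroupOf]]
  exact Nat.card_congr (Subgroup.subgroupOfEquivOfLe (show Q ⊓ K ≤ C from inf_le_left.trans hQC)).toEquiv

include H in
/-- No further element acts on the subgroup of order sixteen as a transvection. -/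
theorem Hexad.no_transvection {E : Subgroup G} (hE : Hexad E) {t b : G} (ht : t ∈ E) (ht1 : t ≠ 1)
    (hbt : Commute b t) (hb : ∀ x ∈ E, b * x * b⁻¹ = x ∨ b * x * b⁻¹ = t * x) : b ∈ E := by
  classical
  haveI : Fact (Nat.Prime 2) := ⟨Nat.prime_two⟩
  haveI : Fact (Nat.Prime 3) := ⟨Nat.prime_three⟩
  obtain ⟨y, h, hrad⟩ := hE.pair t ht ht1
  obtain ⟨Q, hQ⟩ := h.exists_core (H := H)
  have htt : t * t = 1 := hE.sq t ht
  let K : Subgroup G :=
    { carrier := {g | Commute g t ∧ ∀ x ∈ E, g * x * g⁻¹ = x ∨ g * x * g⁻¹ = t * x}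
      one_mem' := ⟨Commute.one_left t, fun x _ => Or.inl (by group)⟩
      mul_mem' := by
        rintro g k ⟨hg, hg'⟩ ⟨hk, hk'⟩
        refine ⟨hg.mul_left hk, fun x hx => ?_⟩
        have e : g * k * x * (g * k)⁻¹ = g * (k * x * k⁻¹) * g⁻¹ := by group
        rw [e]
        rcases hk' x hx with e' | e' <;> rw [e']
        · exact hg' x hx
        · rw [show g * (t * x) * g⁻¹ = (g * t * g⁻¹) * (g * x * g⁻¹) by group, mul_inv_eq_iff_eq_mul.2 hg.eq]
          rcases hg' x hx with e'' | e'' <;> rw [e'']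
          · exact Or.inr rfl
          · exact Or.inl (by rw [← mul_assoc, htt, one_mul])
      inv_mem' := by
        rintro g ⟨hg, hg'⟩
        refine ⟨hg.inv_left, fun x hx => ?_⟩
        rcases hg' x hx with e | e
        · exact Or.inl (by calc g⁻¹ * x * g⁻¹⁻¹ = g⁻¹ * (g * x * g⁻¹) * g := by rw [e, inv_inv]
                              _ = x := by group)
        · refine Or.inr ?_
          have hgt : g⁻¹ * t * g = t := by rw [hg.inv_left.eq]; group
          calc g⁻¹ * x * g⁻¹⁻¹ = g⁻¹ * ((t * t) * x) * g := by rw [htt, one_mul, inv_inv]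
            _ = (g⁻¹ * t * g) * (g⁻¹ * (t * x) * g) := by group
            _ = t * (g⁻¹ * (g * x * g⁻¹) * g) := by rw [hgt, e]
            _ = t * x := by group }
  have hbK : b ∈ K := ⟨hbt, hb⟩
  have hKt : ∀ x ∈ K, Commute x t := fun x hx => hx.1
  have hEK : E ≤ K := fun x hx => ⟨hE.comm hx ht, fun z hz => Or.inl (mul_inv_eq_iff_eq_mul.2 (hE.comm hx hz).eq)⟩
  have hnorm : ∀ c : G, Commute c t → c ∈ Subgroup.normalizer (K : Set G) := fun c hc => normal_of_conj fun g hg => by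
    refine ⟨?_, fun x hx => ?_⟩
    · exact ((show Commute c t from hc).mul_left hg.1).mul_left hc.inv_left
    · have hn := hE.stab (H := H) ht ht1 hc
      have hx' : c⁻¹ * x * c ∈ E := by
        simpa using (Subgroup.mem_normalizer_iff.1 (inv_mem hn) x).1 hx
      rcases hg.2 _ hx' with e | e
      · left
        calc c * g * c⁻¹ * x * (c * g * c⁻¹)⁻¹ = c * (g * (c⁻¹ * x * c) * g⁻¹) * c⁻¹ := by group
          _ = x := by rw [e]; group
      · right
        calc c * g * c⁻¹ * x * (c * g * c⁻¹)⁻¹ = c * (g * (c⁻¹ * x * c) * g⁻¹) * c⁻¹ := by group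
          _ = c * t * c⁻¹ * x := by rw [e]; group
          _ = t * x := by rw [mul_inv_eq_iff_eq_mul.2 hc.eq]
  obtain ⟨S, z, hd, hz, hform⟩ := rad_form (H := H) h
  have hV := hd.nine.exists_four (H := H) hd.left fun e => hd.indep' (e ▸ one_mem _)
  have hW := hd.nine.exists_four (H := H) hd.right fun e => hd.indep (e ▸ one_mem _)
  have hVE : four y ≤ E := hrad ▸ four_le_rad (H := H) h.three
  have hWE : four z ≤ E := hrad ▸ hz
  have hy : y ∉ K := fun hyK => by
    haveI : Nontrivial (four z) := Finite.one_lt_card_iff_nontrivial.1 (by rw [hW.card]; norm_num)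
    obtain ⟨⟨w, hw⟩, hw1⟩ := exists_ne (1 : four z)
    refine hw1 (Subtype.ext ?_)
    rcases hyK.2 w (hWE hw) with e | e
    · exact hW.fixed y hd.left hd.indep' w hw (mul_inv_eq_iff_eq_mul.1 e)
    · exfalso
      have hyw : y * w * y⁻¹ ∈ four z := (Subgroup.mem_normalizer_iff.1 (hd.smul_four (H := H)) w).1 hw
      rw [e] at hyw
      exact ht1 (hd.disjoint (H := H) (h.mem_four (H := H)) (((four z).mul_mem_cancel_right hw).1 hyw))
  have h3 : ¬ 3 ∣ Nat.card K := fun h3 => by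
    obtain ⟨⟨g, hg⟩, hgo⟩ := exists_prime_orderOf_dvd_card' (G := K) 3 h3
    rw [Subgroup.orderOf_mk] at hgo
    obtain ⟨c, hc, e⟩ := hQ.sylow g hgo hg.1.symm
    have hcg := (Subgroup.mem_normalizer_iff.1 (inv_mem (hnorm c hc)) g).1 hg
    rcases e with e | e
    · rw [show c⁻¹ * g * c⁻¹⁻¹ = y by rw [e]; group] at hcg
      exact hy hcg
    · rw [show c⁻¹ * g * c⁻¹⁻¹ = y⁻¹ by rw [e]; group] at hcg
      exact hy (by simpa using K.inv_mem hcg)
  have hKc : Nat.card K ∣ 2 ^ 7 := by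
    have h1 : Nat.card K ∣ 3 * 128 := by
      rw [show 3 * 128 = 384 from rfl, ← H.invol t h.two]
      exact Subgroup.card_dvd_of_le fun x hx => mem_cent.2 hx.1
    exact ((Nat.prime_three.coprime_iff_not_dvd.2 h3).symm).dvd_of_dvd_mul_left h1
  obtain ⟨e, he, he'⟩ := (Nat.dvd_prime_pow Nat.prime_two).1 hKc
  have hdd := free_diff (Subgroup.zpowers y) E K hEK
    (fun k hk => (Subgroup.zpowers_le.2 (hE.stab (H := H) ht ht1 h.comm.symm)) hk)
    (fun k hk => (Subgroup.zpowers_le.2 (hnorm y h.comm.symm)) hk) fun k hk hk1 x hx hkx => hVE <| by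
      have hyx := (of_zpowers h.three hk hk1 hkx).symm
      refine (ByOrder.mem_four (H := H) h.three).2 ⟨hyx, orderOf_dvd_iff_pow_eq_one.1 ?_⟩
      have h1 := Subgroup.orderOf_dvd_natCard (s := Subgroup.centralizer ({y} : Set G)) (mem_cent.2 hyx)
      rw [show Nat.card (Subgroup.centralizer ({y} : Set G)) = 36 from H.three y h.three] at h1
      exact (Nat.dvd_gcd h1 ((Subgroup.orderOf_dvd_natCard _ hx).trans hKc)).trans (by norm_num)
  rw [Nat.card_zpowers, h.three, hE.card, he'] at hdd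
  obtain ⟨-, -, hnQ⟩ := hQ.rad_eq (H := H) h
  have hQK : Q ⊓ K ≤ E := fun x hx => hrad ▸ hnQ x hx.1 (normal_of_conj fun v hv => by
    rcases hx.2.2 v (hVE hv) with e | e <;> rw [e]
    · exact hv
    · exact mul_mem (h.mem_four (H := H)) hv)
  obtain ⟨j, hj, hjc⟩ := hQ.index_part (H := H) h K hKt
  have hle : Nat.card ↥(Q ⊓ K) ≤ 16 := hE.card ▸ Nat.le_of_dvd Nat.card_pos (Subgroup.card_dvd_of_le hQK)
  have hj3 : ¬ 3 ∣ j := fun e' => h3 (hjc ▸ dvd_mul_of_dvd_right e' _)
  have hj2 : j ≤ 2 := by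
    have := Nat.le_of_dvd (by norm_num) hj
    interval_cases j <;> omega
  have h32 : Nat.card K ≤ 32 := hjc ▸ Nat.mul_le_mul hle hj2
  have h16 : 16 ≤ Nat.card K := hE.card ▸ Nat.le_of_dvd Nat.card_pos (Subgroup.card_dvd_of_le hEK)
  rw [he'] at h32 h16
  have : Nat.card K = 16 := by rw [he']; interval_cases e <;> omega
  exact (Subgroup.eq_of_le_of_card_ge hEK (by rw [this, hE.card])).symm ▸ hbK

include H in
/-- Two different subgroups of order sixteen. -/
theorem Hexad.meet {E X : Subgroup G} (hE : Hexad E) (hX : Hexad X) (hne : X ≠ E) {a : G} (ha : a ∈ E) (ha1 : a ≠ 1)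
    (haX : a ∈ Subgroup.normalizer (X : Set G)) :
    Nat.card ↥(X ⊓ Subgroup.normalizer (E : Set G)) = 4 ∧
      ∀ b ∈ X, (b ∈ Subgroup.normalizer (E : Set G) ↔ Commute a b) := by
  classical
  have hB : ∀ b ∈ X, (b ∈ Subgroup.normalizer (E : Set G) ↔ Commute a b) := by
    intro b hb
    refine ⟨fun hbE => ?_, fun h => hE.stab (H := H) ha ha1 h.symm⟩
    refine mul_inv_eq_iff_eq_mul.1 (mul_inv_eq_one.1 (?_ : a * b * a⁻¹ * b⁻¹ = 1))
    by_contra hne1
    refine hne (Hexad.eq_of_mem (H := H) hE hX ?_ ?_ hne1)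
    · rw [mul_assoc, mul_assoc]
      exact mul_mem ha (by simpa [mul_assoc] using (Subgroup.mem_normalizer_iff.1 hbE a⁻¹).1 (inv_mem ha))
    · exact mul_mem ((Subgroup.mem_normalizer_iff.1 haX b).1 hb) (inv_mem hb)
  refine ⟨?_, hB⟩
  have hconj : ∀ x ∈ X, a * x * a⁻¹ ∈ X := fun x hx => (Subgroup.mem_normalizer_iff.1 haX x).1 hx
  let φ : X →* X := MonoidHom.mk' (fun x => ⟨(x : G) * (a * x * a⁻¹), mul_mem x.2 (hconj x x.2)⟩) fun x x' => Subtype.ext (by
    show (x : G) * x' * (a * (x * x') * a⁻¹) = x * (a * x * a⁻¹) * (x' * (a * x' * a⁻¹))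
    rw [show a * ((x : G) * x') * a⁻¹ = (a * x * a⁻¹) * (a * x' * a⁻¹) by group]
    have := (hX.comm x'.2 (hconj x x.2)).eq
    calc (x : G) * x' * (a * x * a⁻¹ * (a * x' * a⁻¹)) = x * (x' * (a * x * a⁻¹)) * (a * x' * a⁻¹) := by group
      _ = x * ((a * x * a⁻¹) * x') * (a * x' * a⁻¹) := by rw [this]
      _ = _ := by group)
  have hker : ∀ x : X, x ∈ φ.ker ↔ Commute a (x : G) := by
    intro x
    rw [MonoidHom.mem_ker, Subtype.ext_iff]
    show (x : G) * (a * x * a⁻¹) = 1 ↔ _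
    rw [mul_eq_one_iff_inv_eq, inv_eq_of_mul_eq_one_right (hX.sq x x.2), eq_comm, mul_inv_eq_iff_eq_mul]
    rfl
  have hkc : Nat.card φ.ker = Nat.card ↥(X ⊓ Subgroup.normalizer (E : Set G)) :=
    Nat.card_congr
      { toFun := fun x => ⟨((x : X) : G), (x : X).2, (hB _ (x : X).2).2 ((hker _).1 x.2)⟩
        invFun := fun x => ⟨⟨(x : G), x.2.1⟩, (hker _).2 ((hB _ x.2.1).1 x.2.2)⟩
        left_inv := fun _ => rfl
        right_inv := fun _ => rfl }
  have haa := hE.sq a ha
  have hrk : φ.range ≤ φ.ker := by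
    rintro _ ⟨x, rfl⟩
    rw [hker]
    show a * ((x : G) * (a * x * a⁻¹)) = (x : G) * (a * x * a⁻¹) * a
    rw [inv_eq_of_mul_eq_one_right haa]
    calc a * ((x : G) * (a * x * a)) = (a * x * a) * x * a := by group
      _ = (x : G) * (a * x * a) * a := by
        rw [(show Commute (a * (x : G) * a) (x : G) from by
          have := hX.comm (hconj x x.2) x.2
          rwa [inv_eq_of_mul_eq_one_right haa] at this).eq]
  have hmul : Nat.card φ.ker * Nat.card φ.range = 16 := by
    rw [← Subgroup.index_ker, Subgroup.card_mul_index, hX.card]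
  have hle : Nat.card φ.range ≤ Nat.card φ.ker := Nat.le_of_dvd Nat.card_pos (Subgroup.card_dvd_of_le hrk)
  rw [← hkc]
  by_contra h4
  have hk8 : 8 ≤ Nat.card φ.ker := by
    have h16 : Nat.card φ.ker ∣ 2 ^ 4 := ⟨_, by rw [hmul]; norm_num⟩
    obtain ⟨e, he, he'⟩ := (Nat.dvd_prime_pow Nat.prime_two).1 h16
    rw [he'] at hmul hle h4 ⊢
    interval_cases e <;> omega
  have hr2 : Nat.card φ.range ≤ 2 := by
    by_contra h3
    have : 8 * 3 ≤ Nat.card φ.ker * Nat.card φ.range := Nat.mul_le_mul hk8 (by omega)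
    omega
  have hanotX : a ∉ X := fun haX' => hne (hE.eq_of_mem (H := H) hX ha haX' ha1)
  obtain ⟨c, hc, hc1, hrange⟩ : ∃ c, c ∈ φ.ker ∧ c ≠ 1 ∧ ∀ r ∈ φ.range, r = 1 ∨ r = c := by
    by_cases h1 : Nat.card φ.range = 1
    · haveI : Nontrivial φ.ker := Finite.one_lt_card_iff_nontrivial.1 (by omega)
      obtain ⟨⟨c, hc⟩, hc1⟩ := exists_ne (1 : φ.ker)
      exact ⟨c, hc, fun e => hc1 (Subtype.ext e), fun r hr => Or.inl (by
        rw [Subgroup.card_eq_one.1 h1] at hr; simpa using hr)⟩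
    · have h2 : Nat.card φ.range = 2 := by
        have : 0 < Nat.card φ.range := Nat.card_pos
        omega
      haveI : Nontrivial φ.range := Finite.one_lt_card_iff_nontrivial.1 (by omega)
      obtain ⟨⟨c, hc⟩, hc1⟩ := exists_ne (1 : φ.range)
      refine ⟨c, hrk hc, fun e => hc1 (Subtype.ext e), fun r hr => ?_⟩
      obtain ⟨p, q, hpq, huniv⟩ := Nat.card_eq_two_iff.1 h2
      have hall : ∀ z : φ.range, z = p ∨ z = q := fun z => by
        have : z ∈ ({p, q} : Set φ.range) := by rw [huniv]; trivial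
        simpa using this
      rcases hall ⟨r, hr⟩ with e | e <;> rcases hall ⟨c, hc⟩ with e' | e' <;> rcases hall 1 with e'' | e''
      all_goals first
        | exact Or.inr (congrArg Subtype.val (e.trans e'.symm))
        | exact Or.inl (congrArg Subtype.val (e.trans e''.symm))
        | exact absurd (e'.trans e''.symm) hc1
  refine hanotX (hX.no_transvection (H := H) (t := (c : G)) c.2 (fun e => hc1 (Subtype.ext e)) ((hker c).1 hc)
    fun x hx => ?_)
  have hval : (x * (a * x * a⁻¹) : G) = ((φ ⟨x, hx⟩ : X) : G) := rfl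
  have hax : a * x * a⁻¹ = x * ((φ ⟨x, hx⟩ : X) : G) := by
    rw [← hval, ← mul_assoc, hX.sq x hx, one_mul]
  rcases hrange (φ ⟨x, hx⟩) ⟨_, rfl⟩ with e | e <;> rw [e] at hax
  · exact Or.inl (by simpa using hax)
  · exact Or.inr (by rw [hax, (hX.comm hx c.2).eq])

include H in
theorem Hexad.meet_symm {E X : Subgroup G} (hE : Hexad E) (hX : Hexad X) (hne : X ≠ E) {a : G} (ha : a ∈ E) (ha1 : a ≠ 1)
    (haX : a ∈ Subgroup.normalizer (X : Set G)) :
    Nat.card ↥(E ⊓ Subgroup.normalizer (X : Set G)) = 4 := by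
  have h4 := (hE.meet (H := H) hX hne ha ha1 haX).1
  haveI : Nontrivial ↥(X ⊓ Subgroup.normalizer (E : Set G)) :=
    Finite.one_lt_card_iff_nontrivial.1 (by rw [h4]; norm_num)
  obtain ⟨⟨b, hb⟩, hb1⟩ := exists_ne (1 : ↥(X ⊓ Subgroup.normalizer (E : Set G)))
  exact (hX.meet (H := H) hE hne.symm hb.1 (fun e => hb1 (Subtype.ext e)) hb.2).1

end Cfsg.Agent.MTwentyTwo.ByOrder
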