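import Cfsg.Agent.Lib.Spor.MTwentyTwoOrder.Lines

/-!
The four-group of an element of order three is not normal in the centraliser of its involutions.
-/

set_option autoImplicit false
set_option linter.unusedSectionVars false
set_option linter.style.haveILetI false

namespace Cfsg.Agent.MTwentyTwo.ByOrder

open Cfsg
open scoped Pointwise

universe u

variable {G : Type u} [Group G] [Fintype G] {H : Cls G}

/-- The orbit formula. -/
theorem card_orbit {α : Type*} [DecidableEq α] (N M : Subgroup G) (hMN : M ≤ N) (f : G → α)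
    (hf : ∀ a ∈ N, ∀ b ∈ N, (f a = f b ↔ a⁻¹ * b ∈ M)) :
    open scoped Classical in Nat.card N = ((Finset.univ.filter fun x : G => x ∈ N).image f).card * Nat.card M := by
  classical
  rw [← card_filter N, Finset.card_eq_sum_card_fiberwise (f := f) (t := (Finset.univ.filter fun x : G => x ∈ N).image f)
    fun x hx => Finset.mem_image_of_mem _ hx]
  refine Finset.sum_const_nat fun o ho => ?_
  obtain ⟨a, ha, rfl⟩ := Finset.mem_image.1 ho
  simp only [Finset.mem_filter, Finset.mem_univ, true_and] at ha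
  rw [← card_filter M, show (Finset.univ.filter fun x : G => x ∈ N).filter (fun b => f b = f a) =
    (Finset.univ.filter fun x : G => x ∈ M).image (a * ·) from ?_, Finset.card_image_of_injective _ (mul_right_injective a)]
  ext b
  simp only [Finset.mem_filter, Finset.mem_univ, true_and, Finset.mem_image]
  constructor
  · rintro ⟨hb, e⟩
    exact ⟨a⁻¹ * b, (hf a ha b hb).1 e.symm, by group⟩
  · rintro ⟨m, hm, rfl⟩
    exact ⟨mul_mem ha (hMN hm), ((hf a ha _ (mul_mem ha (hMN hm))).2 (by rwa [inv_mul_cancel_left])).symm⟩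

include H in
theorem exists_pair_of_three {y : G} (hy : orderOf y = 3) : ∃ t, Pair t y := by
  obtain ⟨S, -, -, hV⟩ := exists_sg (H := H) hy
  haveI : Nontrivial (four y) := Finite.one_lt_card_iff_nontrivial.1 (by rw [hV.card]; norm_num)
  obtain ⟨⟨t, ht⟩, ht1⟩ := exists_ne (1 : four y)
  haveI : Fact (Nat.Prime 2) := ⟨Nat.prime_two⟩
  exact ⟨t, ⟨orderOf_eq_prime (by rw [pow_two, hV.sq t ht]) fun e => ht1 (Subtype.ext e), hy, ((hV.mem t).1 ht).1⟩⟩

include H in
theorem pair_of_mem_four {x y : G} (hy : orderOf y = 3) (hx : x ∈ four y) (hx1 : x ≠ 1) : Pair x y := by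
  obtain ⟨S, -, -, hV⟩ := exists_sg (H := H) hy
  haveI : Fact (Nat.Prime 2) := ⟨Nat.prime_two⟩
  exact ⟨orderOf_eq_prime (by rw [pow_two, hV.sq x hx]) hx1, hy, ((hV.mem x).1 hx).1⟩

theorem three_conj_order {y : G} (hy : orderOf y = 3) (g : G) : orderOf (g * y * g⁻¹) = 3 := by
  rw [← hy]
  exact orderOf_conj (isConj_iff.2 ⟨g⁻¹, by group⟩)

include H in
theorem conj_four {y : G} (hy : orderOf y = 3) (g : G) : MulAut.conj g • four y = four (g * y * g⁻¹) := by
  ext x
  rw [four_conj (H := H) hy, Subgroup.mem_pointwise_smul_iff_inv_smul_mem, MulAut.smul_def]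
  simp

theorem normal_iff_smul {g : G} {K : Subgroup G} :
    g ∈ Subgroup.normalizer (K : Set G) ↔ MulAut.conj g • K = K := by
  constructor
  · intro h
    ext x
    rw [Subgroup.mem_pointwise_smul_iff_inv_smul_mem, MulAut.smul_def]
    simp only [MulAut.inv_apply, MulAut.conj_symm_apply]
    exact ((Subgroup.mem_normalizer_iff.1 (inv_mem h)) x).symm.trans Iff.rfl |> fun e => by simpa using e
  · intro h
    refine normal_of_conj fun x hx => ?_
    rw [← h, Subgroup.mem_pointwise_smul_iff_inv_smul_mem, MulAut.smul_def]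
    simpa [mul_assoc] using hx

include H in
theorem card_rad_eq {t y t' y' : G} (h : Pair t y) (h' : Pair t' y') : Nat.card (rad y) = Nat.card (rad y') := by
  obtain ⟨g, -, hg⟩ := h.conj (H := H) h'
  refine (Nat.card_congr (Equiv.subtypeEquiv (MulAut.conj g⁻¹).toEquiv fun x => ?_)).symm
  rw [rad_conj (y := y) (y' := y') (g := g) (fun z => by rw [← hg]; exact four_conj (H := H) h.three g z)]
  simp

include H in
/-- At most fifty further involutions centralise an involution. -/
theorem invol_le {t : G} (ht : orderOf t = 2) (Ω : Finset G)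
    (hΩ : ∀ i ∈ Ω, i * i = 1 ∧ i ≠ 1 ∧ i ≠ t ∧ Commute i t) : Ω.card ≤ 50 := by
  classical
  haveI : Fact (Nat.Prime 2) := ⟨Nat.prime_two⟩
  have htt : t * t = 1 := by rw [← pow_two, ← ht, pow_orderOf_eq_one]
  have key : ∀ i ∈ Ω, ∃ g k : G, g * t * g⁻¹ = i ∧ k * t * k⁻¹ = i * t := by
    intro i hi
    obtain ⟨h1, h2, h3, h4⟩ := hΩ i hi
    have hit : i * t ≠ 1 := fun e => h3 (by rw [eq_inv_of_mul_eq_one_left e, inv_eq_of_mul_eq_one_right htt])
    have hit2 : i * t * (i * t) = 1 := by
      calc i * t * (i * t) = i * (t * i) * t := by group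
        _ = i * (i * t) * t := by rw [h4.eq]
        _ = i * i * (t * t) := by group
        _ = 1 := by rw [h1, htt, one_mul]
    obtain ⟨g, hg⟩ := isConj_iff.1 (H.invol_conj t i ht (orderOf_eq_prime (by rw [pow_two, h1]) h2))
    obtain ⟨k, hk⟩ := isConj_iff.1 (H.invol_conj t (i * t) ht (orderOf_eq_prime (by rw [pow_two, hit2]) hit))
    exact ⟨g, k, hg, hk⟩
  choose! g k hg hk using key
  set C := Finset.univ.filter fun c : G => c ∈ Subgroup.centralizer ({t} : Set G) with hC
  have hCc : C.card = 384 := by rw [hC, card_filter]; exact H.invol t ht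
  have hfix : ∀ a : G, ∀ c ∈ C, a * c * t * (a * c)⁻¹ = a * t * a⁻¹ := fun a c hc => by
    have hct : Commute c t := mem_cent.1 (Finset.mem_filter.1 hc).2
    calc a * c * t * (a * c)⁻¹ = a * (c * t) * c⁻¹ * a⁻¹ := by group
      _ = a * (t * c) * c⁻¹ * a⁻¹ := by rw [hct.eq]
      _ = _ := by group
  have hle : (Ω ×ˢ (C ×ˢ C)).card ≤ ((Finset.univ : Finset (G × G)).filter fun p =>
      p.1 * t * p.1⁻¹ * (p.2 * t * p.2⁻¹) = t).card := by
    refine Finset.card_le_card_of_injOn (fun p => (g p.1 * p.2.1, k p.1 * p.2.2)) (fun p hp => ?_) fun p hp q hq e => ?_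
    · simp only [Finset.coe_product, Set.mem_prod, Finset.mem_coe] at hp
      simp only [Finset.coe_filter, Finset.mem_univ, true_and, Set.mem_setOf_eq]
      obtain ⟨h1, -, -, -⟩ := hΩ p.1 hp.1
      rw [hfix _ _ hp.2.1, hfix _ _ hp.2.2, hg _ hp.1, hk _ hp.1, ← mul_assoc, h1, one_mul]
    · simp only [Finset.coe_product, Set.mem_prod, Finset.mem_coe] at hp hq
      have e1 : g p.1 * p.2.1 = g q.1 * q.2.1 := congrArg Prod.fst e
      have e2 : k p.1 * p.2.2 = k q.1 * q.2.2 := congrArg Prod.snd e
      have hi : p.1 = q.1 := by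
        rw [← hg _ hp.1, ← hg _ hq.1, ← hfix (g p.1) _ hp.2.1, e1, hfix _ _ hq.2.1]
      rw [hi] at e1 e2
      exact Prod.ext hi (Prod.ext (mul_left_cancel e1) (mul_left_cancel e2))
  rw [H.pairs t ht, Finset.card_product, Finset.card_product, hCc] at hle
  omega

include H in
/-- The core normalises the product of two four-groups in the two-part. -/
theorem Core.dbl_normal {t y z : G} {Q S : Subgroup G} (h : Pair t y) (hQ : Core t y Q) (hd : Duo S y z)
    (hz : four z ≤ rad y) : ∀ q ∈ Q, q ∈ Subgroup.normalizer ((four y ⊔ four z : Subgroup G) : Set G) := by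
  obtain ⟨hrad, -, -⟩ := hQ.rad_eq (H := H) h
  set E := four y ⊔ four z with hE
  obtain ⟨hEc, -, -⟩ := hd.dbl (H := H) (hz.trans (hrad.le.trans inf_le_right))
  rw [← hE] at hEc
  have hEQ : E ≤ Q := sup_le hQ.four_le (hz.trans (hrad.le.trans inf_le_left))
  set M := Subgroup.normalizer (E : Set G) ⊓ Q with hM
  have hlt : E < M := lt_normalizer_inf (IsPGroup.of_card (n := 6) (by rw [hQ.card]; rfl)) hEQ fun e => by
    rw [e, hQ.card] at hEc; omega
  suffices hMc : Nat.card M = 64 by
    intro q hq
    have : M = Q := Subgroup.eq_of_le_of_card_ge inf_le_right (by rw [hMc, hQ.card])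
    exact (this.symm ▸ hq : q ∈ M).1
  have h1 : 16 < Nat.card M := hEc ▸ lt_of_le_of_ne (Nat.le_of_dvd Nat.card_pos (Subgroup.card_dvd_of_le hlt.le))
    fun e => hlt.ne (Subgroup.eq_of_le_of_card_ge hlt.le e.ge)
  have h2 : Nat.card M ∣ 2 ^ 6 := by
    rw [show (2 : ℕ) ^ 6 = 64 from rfl, ← hQ.card]; exact Subgroup.card_dvd_of_le inf_le_right
  have hyE : y ∈ Subgroup.normalizer (E : Set G) := by
    rw [normal_iff_smul, hE, Subgroup.smul_sup,
      normal_iff_smul.1 (four_normal (H := H) h.three (c := y) (Or.inl (by group))),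
      normal_iff_smul.1 (hd.smul_four (H := H))]
  have hyQ := hQ.normal y h.comm.symm
  have hd3 := free_diff (Subgroup.zpowers y) E M hlt.le (fun k hk => (Subgroup.zpowers_le.2 hyE) hk)
    (fun k hk => (Subgroup.zpowers_le.2 (normal_of_conj (K := M) (c := y) fun c hc =>
      ⟨(Subgroup.normalizer (E : Set G)).mul_mem ((Subgroup.normalizer (E : Set G)).mul_mem hyE hc.1) (inv_mem hyE),
        (Subgroup.mem_normalizer_iff.1 hyQ c).1 hc.2⟩)) hk)
    fun k hk hk1 x hx hkx => (le_sup_left : four y ≤ E) (pow_four (H := H) h.three (of_zpowers h.three hk hk1 hkx).symm (by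
      have := pow_card_eq_one' (G := Q) (x := ⟨x, hx.2⟩)
      rw [hQ.card] at this
      exact congrArg Subtype.val this))
  rw [Nat.card_zpowers, h.three, hEc] at hd3
  obtain ⟨j, hj, hj'⟩ := (Nat.dvd_prime_pow Nat.prime_two).1 h2
  rw [hj'] at h1 hd3 ⊢
  interval_cases j <;> omega

section big

variable (hbig : ∀ t y : G, Pair t y → Nat.card (rad y) = 64)

include H hbig in
theorem big_core {t y : G} (h : Pair t y) {Q : Subgroup G} (hQ : Core t y Q) :
    rad y = Q ∧ Q ≤ Subgroup.centralizer (four y : Set G) := by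
  obtain ⟨hrad, -, -⟩ := hQ.rad_eq (H := H) h
  have e : rad y = Q := Subgroup.eq_of_le_of_card_ge (hrad.le.trans inf_le_left) (by rw [hbig t y h, hQ.card])
  exact ⟨e, (e ▸ hrad.le : Q ≤ Q ⊓ _).trans inf_le_right⟩

include H hbig in
theorem big_line {t y y' : G} (h : Pair t y) (h' : Pair t y') : four y' = four y := by
  obtain ⟨Q, hQ⟩ := h.exists_core (H := H)
  obtain ⟨-, hQV⟩ := big_core (H := H) hbig h hQ
  obtain ⟨c, hc, hy'⟩ := hQ.sylow y' h'.three h'.comm
  have hn : c ∈ Subgroup.normalizer (four y : Set G) := by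
    refine hQ.gen _ (fun q hq => normal_of_conj fun x hx => ?_) (four_normal (H := H) h.three (Or.inl (by group)))
      (fun r _ hr => four_normal (H := H) h.three (Or.inr hr)) c hc
    rw [← Subgroup.mem_centralizer_iff.1 (hQV hq) x hx, mul_assoc, mul_inv_cancel, mul_one]
    exact hx
  have : four y' = MulAut.conj c • four y := by
    rcases hy' with e | e
    · rw [e, conj_four (H := H) h.three]
    · rw [e, conj_four (H := H) h.three, show c * y⁻¹ * c⁻¹ = (c * y * c⁻¹)⁻¹ by group,
        four_inv (H := H) (three_conj_order h.three c)]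
  rw [this]
  exact normal_iff_smul.1 hn

include H hbig in
theorem big_eq {x y y' : G} (hy : orderOf y = 3) (hy' : orderOf y' = 3) (hx : x ∈ four y) (hx' : x ∈ four y')
    (hx1 : x ≠ 1) : four y' = four y :=
  big_line (H := H) hbig (pair_of_mem_four (H := H) hy hx hx1) (pair_of_mem_four (H := H) hy' hx' hx1)

include H hbig in
/-- Some element of the two-part moves the second four-group. -/
theorem exists_mover {y z : G} {S : Subgroup G} (hd : Duo S y z) (hz : four z ≤ rad y) :
    ∃ q ∈ rad y, q ∈ Subgroup.normalizer ((four y ⊔ four z : Subgroup G) : Set G) ∧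
      MulAut.conj q • four z ≠ four z := by
  classical
  obtain ⟨t, h⟩ := exists_pair_of_three (H := H) hd.three
  obtain ⟨Q, hQ⟩ := h.exists_core (H := H)
  obtain ⟨hQe, hQV⟩ := big_core (H := H) hbig h hQ
  obtain ⟨f, -, hf⟩ := exists_count (H := H) h hQ hd.nine hd.left
  obtain ⟨hduo, hsep, hall, hnum⟩ := hf (hbig t y h)
  by_contra hcon
  push Not at hcon
  have hnorm : ∀ q ∈ Q, q ∈ Subgroup.normalizer (four z : Set G) := fun q hq =>
    normal_iff_smul.2 (hcon q (hQe.symm ▸ hq) (hQ.dbl_normal (H := H) h hd hz q hq))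
  have hW := hd.nine.exists_four (H := H) hd.right fun e => hd.indep (e ▸ one_mem _)
  have hzQ : four z ≤ Q := hQe ▸ hz
  have h64 : ∀ q ∈ Q, q ^ 64 = 1 := fun q hq => by
    have := pow_card_eq_one' (G := Q) (x := ⟨q, hq⟩)
    rw [hQ.card] at this
    exact congrArg Subtype.val this
  -- the core centralises it
  have hcentr : ∀ q ∈ Q, ∀ u ∈ four z, Commute q u := by
    intro q hq
    set φ : G → G → G := fun a x => a * x * a⁻¹ with hφ
    have hstab : ∀ a ∈ Q, ∀ u ∈ four z, ∀ v ∈ four z, u ≠ 1 → v ≠ 1 → u ≠ v → φ a u = u → φ a v = v := by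
      intro a ha u hu v hv hu1 hv1 huv hau
      by_contra hav
      -- the element `b = y a y⁻¹` fixes the next point
      have hyn := hd.smul_four (H := H)
      have mov : ∀ x ∈ four z, x ≠ 1 → x ≠ φ y x := fun x hx hx1 e => hx1 (hW.fixed y hd.left hd.indep' x hx
        (mul_inv_eq_iff_eq_mul.1 e.symm))
      have mem : ∀ x ∈ four z, φ y x ∈ four z := fun x hx => (Subgroup.mem_normalizer_iff.1 hyn x).1 hx
      have memq : ∀ b ∈ Q, ∀ x ∈ four z, φ b x ∈ four z := fun b hb x hx =>
        (Subgroup.mem_normalizer_iff.1 (hnorm b hb) x).1 hx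
      have inj : ∀ b : G, Function.Injective (φ b) := fun b x x' e => by simpa [φ] using e
      have one : ∀ b : G, ∀ x : G, x ≠ 1 → φ b x ≠ 1 := fun b x hx e => hx (inj b (by rw [e]; simp [φ]))
      have tot : ∀ x ∈ four z, x ≠ 1 → x ≠ u → x = φ y u ∨ x = φ y (φ y u) := by
        intro x hx hx1 hxu
        rcases hW.trans y hd.left hd.indep' u hu hu1 x hx hx1 with rfl | rfl | rfl
        · exact absurd rfl hxu
        · exact Or.inl rfl
        · refine Or.inr ?_
          show y⁻¹ * u * y = y * (y * u * y⁻¹) * y⁻¹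
          have hy3 : y * y * y = 1 := by rw [← hd.nine.cube y hd.left]; simp [pow_succ, mul_assoc]
          rw [show y * (y * u * y⁻¹) * y⁻¹ = y * y * u * (y * y)⁻¹ by group,
            inv_eq_of_mul_eq_one_right (show y * (y * y) = 1 by rw [← mul_assoc, hy3]),
            inv_eq_of_mul_eq_one_right (show y * y * y = 1 from hy3)]
      set u1 := φ y u
      set u2 := φ y u1
      have hu1m := mem u hu
      have hu11 : u1 ≠ 1 := one y u hu1
      have hu2m := mem u1 hu1m
      have hu21 : u2 ≠ 1 := one y u1 hu11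
      have d01 : u ≠ u1 := mov u hu hu1
      have d12 : u1 ≠ u2 := mov u1 hu1m hu11
      have d02 : u ≠ u2 := fun e => by
        have hy3 : y * y * y = 1 := by rw [← hd.nine.cube y hd.left]; simp [pow_succ, mul_assoc]
        have hyu : φ y u2 = u := by
          show y * (y * (y * u * y⁻¹) * y⁻¹) * y⁻¹ = u
          rw [show y * (y * (y * u * y⁻¹) * y⁻¹) * y⁻¹ = (y * y * y) * u * (y * y * y)⁻¹ by group, hy3]
          group
        rw [← e] at hyu
        exact d01 hyu.symm
      have hswap : φ a u1 = u2 ∧ φ a u2 = u1 := by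
        rcases tot _ (memq a ha u1 hu1m) (one a u1 hu11) (fun e => d01 (inj a (by rw [hau, e]))) with e | e
        · exfalso
          refine hav ?_
          rcases tot _ (memq a ha u2 hu2m) (one a u2 hu21) (fun e' => d02 (inj a (by rw [hau, e']))) with e' | e'
          · exact absurd (inj a (e'.trans e.symm)) d12.symm
          · rcases tot v hv hv1 huv.symm with rfl | rfl <;> assumption
        · refine ⟨e, ?_⟩
          rcases tot _ (memq a ha u2 hu2m) (one a u2 hu21) (fun e' => d02 (inj a (by rw [hau, e']))) with e' | e'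
          · exact e'
          · exact absurd (inj a (e'.trans e.symm)) d12.symm
      set b := y * a * y⁻¹ with hb
      have hbQ : b ∈ Q := (Subgroup.mem_normalizer_iff.1 (hQ.normal y h.comm.symm) a).1 ha
      have hby : ∀ x, φ b (φ y x) = φ y (φ a x) := fun x => by simp [φ, b]; group
      have hb1 : φ b u1 = u1 := by rw [show u1 = φ y u from rfl, hby, hau]
      have hb2 : φ b u2 ≠ u2 := by
        rw [show u2 = φ y u1 from rfl, hby, hswap.1]
        exact fun e => d12.symm (inj y e)
      have hb0 : φ b u2 = u := by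
        by_contra hne
        rcases tot _ (memq b hbQ u2 hu2m) (one b u2 hu21) hne with e | e
        · exact d12.symm (inj b (e.trans hb1.symm))
        · exact hb2 e
      have hb3 : φ b u = u2 := by
        rcases tot _ (memq b hbQ u hu) (one b u hu1) (fun e => d02 (inj b (e.trans hb0.symm))) with e | e
        · exact absurd (inj b (e.trans hb1.symm)) d01
        · exact e
      set p := b * a with hp
      have hcomp : ∀ x, φ p x = φ b (φ a x) := fun x => by simp [φ, p]; group
      have c0 : φ p u = u2 := by rw [hcomp, hau, hb3]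
      have c2 : φ p u2 = u1 := by rw [hcomp, hswap.2, hb1]
      have c1 : φ p u1 = u := by rw [hcomp, hswap.1, hb0]
      have hpp : ∀ m n : ℕ, ∀ x, φ (p ^ (m + n)) x = φ (p ^ m) (φ (p ^ n) x) := fun m n x => by
        simp [φ, pow_add]; group
      have c3 : φ (p ^ 3) u = u := by
        rw [show 3 = 1 + (1 + 1) from rfl, hpp, hpp, pow_one, c0, c2, c1]
      have hcm : Commute (p ^ 3) u := mul_inv_eq_iff_eq_mul.1 c3
      have hpu : Commute p u := by
        have e : p = p ^ 64 * ((p ^ 3) ^ 21)⁻¹ := by rw [← pow_mul]; group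
        rw [e, h64 p (mul_mem hbQ ha), one_mul]
        exact (hcm.pow_left 21).inv_left
      exact d02 (c0.symm.trans (mul_inv_eq_iff_eq_mul.2 hpu.eq)).symm
    intro u hu
    by_cases hu1 : u = 1
    · rw [hu1]; exact Commute.one_right q
    by_contra hqu
    have hqu' : φ q u ≠ u := fun e => hqu (mul_inv_eq_iff_eq_mul.1 e)
    -- otherwise some point is fixed
    set v := φ q u with hv
    have hvm : v ∈ four z := (Subgroup.mem_normalizer_iff.1 (hnorm q hq) u).1 hu
    have hv1 : v ≠ 1 := fun e => hu1 (by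
      calc u = q⁻¹ * (q * u * q⁻¹) * q := by group
        _ = 1 := by rw [show q * u * q⁻¹ = v from rfl, e]; group)
    set w := φ q v with hw
    have hwm : w ∈ four z := (Subgroup.mem_normalizer_iff.1 (hnorm q hq) v).1 hvm
    have hw1 : w ≠ 1 := fun e => hv1 (by
      calc v = q⁻¹ * (q * v * q⁻¹) * q := by group
        _ = 1 := by rw [show q * v * q⁻¹ = w from rfl, e]; group)
    by_cases hwu : w = u
    · -- two points are exchanged and the third is fixed
      have hthird : φ q (u * v) = u * v := by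
        have hA := hW.sq _ (mul_mem hu hvm)
        have : φ q (u * v) = v * u := by
          rw [show φ q (u * v) = φ q u * φ q v by simp [φ, mul_assoc], ← hv, ← hw, hwu]
        rw [this]
        calc v * u = (u * v) * (u * v) * (v * u) := by rw [hA, one_mul]
          _ = u * v * u * (v * v) * u := by group
          _ = u * v * (u * u) := by rw [hW.sq v hvm]; group
          _ = u * v := by rw [hW.sq u hu, mul_one]
      have huv : u * v ≠ 1 := fun e => hqu' (by
        calc v = (u * u) * v := by rw [hW.sq u hu, one_mul]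
          _ = u := by rw [mul_assoc, e, mul_one])
      have hne : u * v ≠ u := fun e => hv1 (mul_eq_left.1 e)
      exact hqu' (hstab q hq (u * v) (mul_mem hu hvm) u hu huv hu1 hne hthird)
    · -- no point is fixed
      have hc : φ q w = u := by
        have hwv : w ≠ v := fun e => hqu' (by simpa [φ, hw, hv] using e)
        have hcard : ∀ x ∈ four z, x = 1 ∨ x = u ∨ x = v ∨ x = w := by
          intro x hx
          by_contra hc
          push Not at hc
          have hsub : ({1, u, v, w, x} : Finset G) ⊆ Finset.univ.filter fun a => a ∈ four z := by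
            intro a ha
            simp only [Finset.mem_insert, Finset.mem_singleton] at ha
            rcases ha with rfl | rfl | rfl | rfl | rfl <;> simp [one_mem, hu, hvm, hwm, hx]
          have hle := Finset.card_le_card hsub
          rw [card_filter, hW.card] at hle
          simp [Ne.symm hu1, Ne.symm hv1, Ne.symm hw1, Ne.symm hqu', Ne.symm hwu, Ne.symm hwv, Ne.symm hc.1,
            Ne.symm hc.2.1, Ne.symm hc.2.2.1, Ne.symm hc.2.2.2] at hle
        rcases hcard _ ((Subgroup.mem_normalizer_iff.1 (hnorm q hq) w).1 hwm) with e | e | e | e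
        · exact absurd (by simpa using e) hw1
        · exact e
        · exact absurd (show w = u by simpa [φ, hv] using e) hwu
        · exact absurd (show w = v by simpa [φ, hw] using e) hwv
      have h3 : Commute (q ^ 3) u := by
        refine mul_inv_eq_iff_eq_mul.1 ?_
        calc q ^ 3 * u * (q ^ 3)⁻¹ = φ q (φ q (φ q u)) := by simp [φ, pow_succ]; group
          _ = u := by rw [← hv, ← hw, hc]
      refine hqu ?_
      have e : q = q ^ 64 * ((q ^ 3) ^ 21)⁻¹ := by rw [← pow_mul]; group
      rw [e, h64 q hq, one_mul]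
      exact (h3.pow_left 21).inv_left
  -- another four-group
  obtain ⟨i, hiz⟩ := hall z hd.right hd.indep
  obtain ⟨j, hj, hji⟩ : ∃ j, four (f j) ≤ rad y ∧ j ≠ i := by
    by_contra hc
    push Not at hc
    have : (Finset.univ.filter fun k => four (f k) ≤ rad y) ⊆ {i} := fun k hk => by
      simp [hc k (Finset.mem_filter.1 hk).2]
    have := Finset.card_le_card this
    simp [hnum] at this
  obtain ⟨hEc, hEsq, hEdec⟩ := hd.dbl (H := H) (hzQ.trans hQV)
  set E := four y ⊔ four z
  have hU := hd.nine.exists_four (H := H) (hduo j).right fun e => (hduo j).indep (e ▸ one_mem _)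
  have hjQ : four (f j) ≤ Q := hQe ▸ hj
  have hcEU : ∀ e ∈ E, ∀ w ∈ four (f j), Commute e w := by
    intro e he w hw
    obtain ⟨v, hv, x, hx, rfl⟩ := hEdec e he
    exact (show Commute v w from Subgroup.mem_centralizer_iff.1 (hQV (hjQ hw)) v hv).mul_left
      (hcentr w (hjQ hw) x hx).symm
  have hdis : ∀ x, x ∈ E → x ∈ four (f j) → x = 1 := by
    intro x hx hx'
    obtain ⟨v, hv, w, hw, rfl⟩ := hEdec x hx
    set k := f j with hk
    have hkc : Commute k (v * w) := ((ByOrder.mem_four (H := H) (hduo j).three').1 hx').1.symm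
    have hkv : k * v * k⁻¹ ∈ four y := (Subgroup.mem_normalizer_iff.1 ((hduo j).symm.smul_four (H := H)) v).1 hv
    have hdiz : Duo S k z := by
      have := hsep j i hji
      refine hd.nine.duo this.left hd.right this.three fun hh => ?_
      obtain ⟨e, he⟩ := hh
      have he' : k ^ e = z := he
      have hsubz : ∀ a ∈ four k, a ∈ four z := fun a ha => by
        rw [← he', ByOrder.mem_four (H := H) (he'.symm ▸ hd.three')]
        obtain ⟨a1, a2⟩ := (ByOrder.mem_four (H := H) (hduo j).three').1 ha
        exact ⟨a1.zpow_right e, a2⟩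
      haveI : Nontrivial (four k) := Finite.one_lt_card_iff_nontrivial.1 (by rw [hU.card]; norm_num)
      obtain ⟨⟨a, ha⟩, ha1⟩ := exists_ne (1 : four k)
      exact ha1 (Subtype.ext ((hsep j i hji).disjoint (H := H) ha (hiz ▸ hsubz a ha)))
    have hkw : k * w * k⁻¹ ∈ four z := (Subgroup.mem_normalizer_iff.1 (hdiz.smul_four (H := H)) w).1 hw
    have e1 : k * v * k⁻¹ * (k * w * k⁻¹) = v * w := by
      rw [show k * v * k⁻¹ * (k * w * k⁻¹) = k * (v * w) * k⁻¹ by group]
      exact mul_inv_eq_iff_eq_mul.2 hkc.eq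
    have e2 : v⁻¹ * (k * v * k⁻¹) = w * (k * w * k⁻¹)⁻¹ := by
      calc v⁻¹ * (k * v * k⁻¹) = v⁻¹ * (k * v * k⁻¹ * (k * w * k⁻¹)) * (k * w * k⁻¹)⁻¹ := by group
        _ = _ := by rw [e1]; group
    have e3 := hd.disjoint (H := H) (mul_mem (inv_mem hv) hkv) (e2 ▸ mul_mem hw (inv_mem hkw))
    rw [inv_mul_eq_one] at e3
    have hv1 : v = 1 := (hduo j).disjoint (H := H) hv
      ((ByOrder.mem_four (H := H) (hduo j).three').2 ⟨(mul_inv_eq_iff_eq_mul.1 e3.symm : Commute k v).symm,
        ((ByOrder.mem_four (H := H) hd.three).1 hv).2⟩)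
    subst hv1
    rw [one_mul] at hx' hkc ⊢
    exact hdiz.symm.disjoint (H := H) hw hx'
  -- the core is elementary
  have hQsq : ∀ x ∈ Q, x * x = 1 := by
    let F : E × four (f j) → Q := fun p => ⟨(p.1 : G) * p.2, mul_mem ((sup_le hQ.four_le hzQ) p.1.2) (hjQ p.2.2)⟩
    have hinj : Function.Injective F := by
      intro p q hpq
      have e : (p.1 : G) * p.2 = q.1 * q.2 := congrArg Subtype.val hpq
      have e2 : ((q.1 : G))⁻¹ * p.1 = q.2 * (p.2 : G)⁻¹ := by
        calc ((q.1 : G))⁻¹ * p.1 = (q.1 : G)⁻¹ * (p.1 * p.2) * (p.2 : G)⁻¹ := by group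
          _ = _ := by rw [e]; group
      have e3 := hdis _ (mul_mem (inv_mem q.1.2) p.1.2) (e2 ▸ mul_mem q.2.2 (inv_mem p.2.2))
      have e4 : (q.1 : G) = p.1 := inv_mul_eq_one.1 e3
      exact Prod.ext (Subtype.ext e4.symm) (Subtype.ext (by rw [e4] at e; exact mul_left_cancel e))
    have hsurj := ((Nat.bijective_iff_injective_and_card F).2 ⟨hinj, by
      rw [Nat.card_prod, hEc, hU.card, hQ.card]⟩).2
    intro x hx
    obtain ⟨⟨⟨e, he⟩, ⟨w, hw⟩⟩, hp⟩ := hsurj ⟨x, hx⟩
    have hxe : x = e * w := (congrArg Subtype.val hp).symm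
    rw [hxe]
    calc e * w * (e * w) = e * (w * e) * w := by group
      _ = e * (e * w) * w := by rw [(hcEU e he w hw).eq]
      _ = (e * e) * (w * w) := by group
      _ = 1 := by rw [hEsq e he, hU.sq w hw, one_mul]
  have hle := invol_le (H := H) h.two (((Finset.univ.filter fun x : G => x ∈ Q).erase 1).erase t) fun x hx => by
    simp only [Finset.mem_erase, Finset.mem_filter, Finset.mem_univ, true_and] at hx
    exact ⟨hQsq x hx.2.2, hx.2.1, hx.1, hQ.le x hx.2.2⟩
  rw [Finset.card_erase_of_mem (by simp [h.ne_one, hQ.four_le (h.mem_four (H := H))]),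
    Finset.card_erase_of_mem (by simp [one_mem]), card_filter, hQ.card] at hle
  omega

end big

end Cfsg.Agent.MTwentyTwo.ByOrder
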