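import Cfsg.Agent.Lib.Spor.MTwentyTwoOrder.Columns
import Cfsg.Agent.Lib.Char.BSW.Eqs
import Cfsg.Agent.Lib.Char.SmallOrderGraph.Block
import Cfsg.Agent.Lib.Char.OrderJankoBase

/-!
The principal block of a self-centralising Sylow subgroup of order five, seven or eleven.
-/

set_option autoImplicit false
set_option linter.unusedSectionVars false

namespace Cfsg.Agent.MTwentyTwo.ByOrder

open Cfsg Cfsg.Agent.Char Cfsg.Agent.Small.Order459648
open Cfsg.Agent.MTwelve.OrderFront (val_one)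
open scoped ComplexConjugate

universe u

variable {G : Type u} [Group G] [Fintype G]

/-- the possible parameters -/
def Par (p e t : ℕ) : Prop := (p = 11 ∧ e = 5 ∧ t = 2) ∨ (p = 7 ∧ e = 3 ∧ t = 2) ∨ (p = 5 ∧ e = 4 ∧ t = 1)

/-- A self-centralising Sylow subgroup of prime order with the characters of degree prime to it. -/
structure PBlk (p : ℕ) [Fact p.Prime] (G : Type u) [Group G] [Fintype G] where
  /-- the Sylow subgroup -/
  P : Sylow p G
  /-- the index of the centraliser in the normaliser -/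
  e : ℕ
  /-- the number of exceptional characters -/
  t : ℕ
  /-- the maximal ideal -/
  M : Ideal AlgInt
  /-- the non-exceptional characters -/
  X : Finset (IrrCharacter G)
  /-- the exceptional characters -/
  Y : Finset (IrrCharacter G)
  /-- the signs -/
  a : IrrCharacter G → ℤ
  /-- the sign of the exceptional characters -/
  δ : ℤ
  par : Par p e t
  cardP : Nat.card P = p
  cent : Nat.card (Subgroup.centralizer ((P : Subgroup G) : Set G)) = p
  index : (Subgroup.centralizer ((P : Subgroup G) : Set G)).relIndex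
    (Subgroup.normalizer ((P : Subgroup G) : Set G)) = e
  modular : IsPModular p M
  pp : PrimePrincipal M P e X Y a δ
  one_mem : (oneChar : IrrCharacter G) ∈ X
  one_sign : a oneChar = 1
  cardY : Y.card = t
  vanish : ∀ χ : IrrCharacter G, χ ∉ X → χ ∉ Y → ∀ y ∈ nonOne P, (χ : G → ℂ) (y : G) = 0
  dvd_rest : ∀ χ : IrrCharacter G, χ ∉ X → χ ∉ Y → p ∣ charDegree (χ : G → ℂ)

theorem par_prime {p e t : ℕ} (h : Par p e t) : 2 ≤ e ∧ 0 < t ∧ e * t + 1 = p := by
  rcases h with ⟨rfl, rfl, rfl⟩ | ⟨rfl, rfl, rfl⟩ | ⟨rfl, rfl, rfl⟩ <;> norm_num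

theorem exists_pblk {p : ℕ} [Fact p.Prime] {e t : ℕ} (hpar : Par p e t) (P : Sylow p G) (hP : Nat.card P = p)
    (hC : Nat.card (Subgroup.centralizer ((P : Subgroup G) : Set G)) = p)
    (he : (Subgroup.centralizer ((P : Subgroup G) : Set G)).relIndex
      (Subgroup.normalizer ((P : Subgroup G) : Set G)) = e) :
    ∃ B : PBlk p G, B.P = P ∧ B.e = e ∧ B.t = t := by
  classical
  have hp : p.Prime := Fact.out
  obtain ⟨he2, ht, het⟩ := par_prime hpar
  obtain ⟨M, hM⟩ := exists_pModular hp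
  obtain ⟨X, Y, a, δ, h, h1X, hone, hYc⟩ := Solv.BReyn.exists_principal_one_mem hM hP he he2 ht het
  have hfrob : FrobSylow P e := he ▸ frobSylow_of_prime hP
  have hC' : Subgroup.centralizer ((P : Subgroup G) : Set G) = (P : Subgroup G) := by
    refine (Subgroup.eq_of_le_of_card_ge ?_ (le_of_eq (hC.trans hP.symm))).symm
    intro g hg
    rw [Subgroup.mem_centralizer_iff]
    intro b hb
    haveI : IsCyclic ↥(P : Subgroup G) := isCyclic_of_prime_card hP
    exact congrArg Subtype.val (IsCyclic.commutative.is_comm.comm (⟨b, hb⟩ : ↥(P : Subgroup G)) ⟨g, hg⟩)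
  have hvan : ∀ χ : IrrCharacter G, χ ∉ X → χ ∉ Y → ∀ y ∈ nonOne P, (χ : G → ℂ) (y : G) = 0 := by
    intro χ hX hY y hy
    have hy1 : (y : G) ≠ 1 := mem_nonOne.mp hy
    have hCy : Subgroup.centralizer ({(y : G)} : Set G) = (P : Subgroup G) := by
      rw [← centralizer_zpowers_eq, eq_zpowers_of_prime_sylow hP y.2 hy1, hC']
    have hχ : χ ∉ principalBlock M G := fun h' => by
      rcases (h.mem_iff χ).mp h' with h'' | h''
      · exact hX h''
      · exact hY h''
    have h0 := hfrob.nonprincipal_sum_zero hM hχ hy1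
    rw [Finset.sum_eq_single (1 : Subgroup.centralizer ({(y : G)} : Set G))] at h0
    · simpa using h0
    · intro v hv hv1
      exfalso
      have hvP : (v : G) ∈ (P : Subgroup G) := (SetLike.ext_iff.mp hCy _).mp v.2
      have h2 := (P : Subgroup G).orderOf_dvd_natCard hvP
      rw [show Nat.card (P : Subgroup G) = p from hP] at h2
      have h3 : orderOf (v : G) = p :=
        ((Nat.dvd_prime hp).mp h2).resolve_left fun h4 => hv1 (Subtype.ext (orderOf_eq_one_iff.mp h4))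
      rw [Subgroup.orderOf_coe] at h3
      exact (Finset.mem_filter.mp hv).2 (dvd_of_eq h3.symm)
    · intro h1
      exact absurd (Finset.mem_filter.mpr ⟨Finset.mem_univ _, by simp [hp.ne_one]⟩) h1
  refine ⟨⟨P, e, t, M, X, Y, a, δ, hpar, hP, hC, he, hM, h, h1X, hone, hYc, hvan, fun χ hX hY => ?_⟩, rfl, rfl, rfl⟩
  obtain ⟨n, hn⟩ := exists_sum_on_sylow (P := P) χ
  rw [Finset.sum_eq_single (1 : ↥(P : Subgroup G))] at hn
  · rw [OneMemClass.coe_one, char_one_eq_deg (irr_isCharacter χ.2), hP] at hn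
    exact ⟨n, by exact_mod_cast hn⟩
  · exact fun y _ hy => hvan χ hX hY y (mem_nonOne.mpr fun e1 => hy (Subtype.ext e1))
  · exact fun h1 => absurd (Finset.mem_univ _) h1

theorem orderOf_conj {g k : G} (h : IsConj g k) : orderOf g = orderOf k := by
  obtain ⟨c, hc⟩ := h
  exact SemiconjBy.orderOf_eq _ hc

namespace PBlk

variable {p : ℕ} [hp : Fact p.Prime] (B : PBlk p G)

/-- the characters of degree prime to `p` -/
noncomputable def S : Finset (IrrCharacter G) :=
  open scoped Classical in B.X ∪ B.Y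

theorem mem_S {χ : IrrCharacter G} : χ ∈ B.S ↔ χ ∈ B.X ∨ χ ∈ B.Y := by
  classical
  simp [S]

theorem cfp_X {χ : IrrCharacter G} (hχ : χ ∈ B.X) :
    (charDegree (χ : G → ℂ) % p = 1 ∨ charDegree (χ : G → ℂ) % p + 1 = p) ∧
      cfp p (charDegree (χ : G → ℂ)) = 2 * B.a χ := by
  have hs := B.pp.a_sign χ hχ
  have hc := (B.pp.a_congr χ hχ).eq
  have hplus : ∀ q d : ℕ, d % q = 1 → cfp q d = 2 := fun q d h => by simp [cfp, h]
  have hminus : ∀ q d : ℕ, 2 < q → d % q + 1 = q → cfp q d = -2 := fun q d hq h => by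
    have : d % q ≠ 1 := by omega
    have h1 : (d % q == 1) = false := by simpa using this
    simp [cfp, h1, h]
  rcases B.par with ⟨rfl, -, -⟩ | ⟨rfl, -, -⟩ | ⟨rfl, -, -⟩ <;> rcases hs with e | e <;> rw [e] at hc ⊢ <;>
    norm_num at hc <;>
    first
    | exact ⟨Or.inl (by omega), hplus _ _ (by omega)⟩
    | exact ⟨Or.inr (by omega), hminus _ _ (by norm_num) (by omega)⟩

theorem cfp_Y {χ : IrrCharacter G} (hχ : χ ∈ B.Y) :
    (charDegree (χ : G → ℂ) % p = B.e ∨ charDegree (χ : G → ℂ) % p + B.e = p) ∧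
      (B.Y.card : ℤ) * cfp p (charDegree (χ : G → ℂ)) = -2 * B.δ := by
  have hc := (B.pp.congrY χ hχ).eq
  have h1 : ∀ d : ℕ, d % 11 = 5 → cfp 11 d = -1 := fun d h => by simp [cfp, h]
  have h2 : ∀ d : ℕ, d % 11 = 6 → cfp 11 d = 1 := fun d h => by simp [cfp, h]
  have h3 : ∀ d : ℕ, d % 7 = 3 → cfp 7 d = -1 := fun d h => by simp [cfp, h]
  have h4 : ∀ d : ℕ, d % 7 = 4 → cfp 7 d = 1 := fun d h => by simp [cfp, h]
  have h5 : ∀ d : ℕ, d % 5 = 4 → cfp 5 d = -2 := fun d h => by simp [cfp, h]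
  have h6 : ∀ d : ℕ, d % 5 = 1 → cfp 5 d = 2 := fun d h => by simp [cfp, h]
  rw [B.cardY]
  rcases B.par with ⟨rfl, he, ht⟩ | ⟨rfl, he, ht⟩ | ⟨rfl, he, ht⟩ <;> rw [he] at hc ⊢ <;> rw [ht] <;>
    rcases B.pp.sign with e | e <;> rw [e] at hc ⊢ <;> norm_num at hc
  · rw [h1 _ (by omega)]; omega
  · rw [h2 _ (by omega)]; omega
  · rw [h3 _ (by omega)]; omega
  · rw [h4 _ (by omega)]; omega
  · rw [h5 _ (by omega)]; omega
  · rw [h6 _ (by omega)]; omega

theorem not_dvd {χ : IrrCharacter G} (hχ : χ ∈ B.S) : ¬ p ∣ charDegree (χ : G → ℂ) := by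
  intro h
  have h0 : charDegree (χ : G → ℂ) % p = 0 := Nat.mod_eq_zero_of_dvd h
  rcases B.mem_S.1 hχ with hX | hY
  · have := (B.cfp_X hX).1
    rcases B.par with ⟨rfl, -, -⟩ | ⟨rfl, -, -⟩ | ⟨rfl, -, -⟩ <;> omega
  · have := (B.cfp_Y hY).1
    rcases B.par with ⟨rfl, he, -⟩ | ⟨rfl, he, -⟩ | ⟨rfl, he, -⟩ <;> omega

theorem mem_iff {χ : IrrCharacter G} : χ ∈ B.S ↔ ¬ p ∣ charDegree (χ : G → ℂ) := by
  refine ⟨B.not_dvd, fun h => B.mem_S.2 ?_⟩
  by_contra hcon
  rw [not_or] at hcon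
  exact h (B.dvd_rest χ hcon.1 hcon.2)

theorem exists_y : ∃ y : ↥(B.P : Subgroup G), y ∈ nonOne B.P := SmallOrderGraph.nonOne_nonempty B.P B.cardP

/-- The weighted sum over all characters. -/
theorem wsum {y : ↥(B.P : Subgroup G)} (hy : y ∈ nonOne B.P) (F : IrrCharacter G → ℂ)
    (hF : ∀ θ ∈ B.Y, ∀ θ' ∈ B.Y, F θ = F θ') :
    ∑ χ : IrrCharacter G, F χ * ((χ : G → ℂ) y + conj ((χ : G → ℂ) y)) =
      ∑ χ ∈ B.S, (cfp p (charDegree (χ : G → ℂ)) : ℂ) * F χ := by
  classical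
  rw [← Finset.sum_add_sum_compl (B.X ∪ B.Y), Finset.sum_eq_zero (s := (B.X ∪ B.Y)ᶜ) (fun χ hχ => by
    rw [Finset.mem_compl, Finset.mem_union, not_or] at hχ
    rw [B.vanish χ hχ.1 hχ.2 y hy, map_zero, add_zero, mul_zero]), add_zero, Finset.sum_union B.pp.disj]
  rw [show B.S = B.X ∪ B.Y from rfl, Finset.sum_union B.pp.disj]
  congr 1
  · refine Finset.sum_congr rfl fun χ hχ => ?_
    rw [B.pp.a_val χ hχ y hy, map_intCast, (B.cfp_X hχ).2]
    push_cast
    ring
  · obtain ⟨θ, hθ⟩ : B.Y.Nonempty := Finset.card_pos.1 (by rw [B.cardY]; exact (par_prime B.par).2.1)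
    have hs := Solv.BReyn.sum_exc B.modular B.cardP B.pp ⟨θ, hθ⟩ hy
    rw [Finset.sum_congr rfl (g := fun χ : IrrCharacter G => F θ * ((χ : G → ℂ) y + conj ((χ : G → ℂ) y)))
        fun χ hχ => by rw [hF χ hχ θ hθ],
      ← Finset.mul_sum, Finset.sum_add_distrib, ← map_sum, hs, map_neg, map_intCast]
    have hc : ∀ χ ∈ B.Y, ((B.Y.card : ℤ) : ℂ) * (cfp p (charDegree (χ : G → ℂ)) : ℂ) = ((-2 * B.δ : ℤ) : ℂ) :=
      fun χ hχ => by rw [← Int.cast_mul, (B.cfp_Y hχ).2]
    have hcard : ((B.Y.card : ℤ) : ℂ) ≠ 0 := by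
      push_cast
      exact Nat.cast_ne_zero.2 (Finset.card_ne_zero_of_mem hθ)
    rw [Finset.sum_congr rfl (g := fun _ => ((-2 * B.δ : ℤ) : ℂ) / ((B.Y.card : ℤ) : ℂ) * F θ) fun χ hχ => by
      rw [hF χ hχ θ hθ, ← hc χ hχ, mul_div_cancel_left₀ _ hcard],
      Finset.sum_const, nsmul_eq_mul]
    push_cast at hcard ⊢
    field_simp
    ring

/-- An element of the Sylow subgroup other than one has order `p`. -/
theorem orderOf_y {y : ↥(B.P : Subgroup G)} (hy : y ∈ nonOne B.P) : orderOf (y : G) = p := by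
  have h := (B.P : Subgroup G).orderOf_dvd_natCard y.2
  rw [show Nat.card (B.P : Subgroup G) = p from B.cardP] at h
  exact ((Nat.dvd_prime hp.out).1 h).resolve_left fun h => mem_nonOne.1 hy (orderOf_eq_one_iff.1 h)

/-- The relation at elements of order prime to `p`. -/
theorem relation {g : G} (hg : ¬ p ∣ orderOf g) :
    ∑ χ ∈ B.S, (cfp p (charDegree (χ : G → ℂ)) : ℂ) * (χ : G → ℂ) g = 0 := by
  classical
  obtain ⟨y, hy⟩ := B.exists_y
  rw [← B.wsum hy (fun χ => (χ : G → ℂ) g) fun θ hθ θ' hθ' => B.pp.regY θ hθ θ' hθ' g hg]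
  have ho := B.orderOf_y hy
  have h1 := second_orth g (y : G)
  rw [if_neg fun h => hg (by rw [orderOf_conj h, ho])] at h1
  have h2 := second_orth g (y : G)⁻¹
  rw [if_neg fun h => hg (by rw [orderOf_conj h, orderOf_inv, ho])] at h2
  simp only [char_inv (irr_isCharacter (Subtype.prop _)), Complex.conj_conj] at h2
  simp only [mul_add, Finset.sum_add_distrib, h1, h2, add_zero]

/-- The relation for products of two elements of order prime to `p`. -/
theorem pairs {g k : G} (hg : ¬ p ∣ orderOf g) (hk : ¬ p ∣ orderOf k)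
    (hreal : ∀ χ ∈ B.S, conj ((χ : G → ℂ) g) = (χ : G → ℂ) g ∧ conj ((χ : G → ℂ) k) = (χ : G → ℂ) k) :
    ∃ R : ℕ, cc g * cc k ∣ R ∧ (2 * R : ℂ) = (Nat.card G : ℂ) * ∑ χ ∈ B.S,
        (cfp p (charDegree (χ : G → ℂ)) : ℂ) * ((χ : G → ℂ) g * (χ : G → ℂ) k / (χ : G → ℂ) 1) ∧
      (Odd B.e → orderOf g = 2 → orderOf k = 2 → R = 0) := by
  classical
  obtain ⟨y, hy⟩ := B.exists_y
  refine ⟨_, BrauerTuan.centralizers_dvd_pairs g k (y : G), ?_, ?_⟩
  · set R := ((Finset.univ : Finset (G × G)).filter fun t => t.1 * g * t.1⁻¹ * (t.2 * k * t.2⁻¹) = (y : G)).card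
    have h1 := BrauerTuan.pairs_formula_two g k (y : G)
    have h2 := congrArg (starRingEnd ℂ) h1
    simp only [map_natCast, map_mul, map_sum, map_div₀, Complex.conj_conj] at h2
    have h1' : (R : ℂ) = (Nat.card G : ℂ) * ∑ χ : IrrCharacter G,
        (χ : G → ℂ) y * ((χ : G → ℂ) g * (χ : G → ℂ) k / (χ : G → ℂ) 1) := by
      rw [h2]
      congr 1
      refine Finset.sum_congr rfl fun χ _ => ?_
      by_cases hS : χ ∈ B.S
      · rw [(hreal χ hS).1, (hreal χ hS).2, val_one, map_intCast]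
      · rw [B.mem_S, not_or] at hS
        rw [B.vanish χ hS.1 hS.2 y hy, zero_mul, zero_mul]
    rw [← B.wsum hy (fun χ => (χ : G → ℂ) g * (χ : G → ℂ) k / (χ : G → ℂ) 1) fun θ hθ θ' hθ' => by
      rw [B.pp.regY θ hθ θ' hθ' g hg, B.pp.regY θ hθ θ' hθ' k hk,
        B.pp.regY θ hθ θ' hθ' 1 (by rw [orderOf_one]; exact hp.out.not_dvd_one)], two_mul]
    nth_rewrite 1 [h1']
    rw [h1, ← mul_add, ← Finset.sum_add_distrib]
    exact congrArg _ (Finset.sum_congr rfl fun χ _ => by ring)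
  · intro hodd hg2 hk2
    rw [Finset.card_eq_zero, Finset.filter_eq_empty_iff]
    rintro ⟨t1, t2⟩ - he
    set s := t1 * g * t1⁻¹ with hs
    set r := t2 * k * t2⁻¹ with hr
    have hy1 : (y : G) ≠ 1 := mem_nonOne.1 hy
    have hss : s * s = 1 := by
      rw [hs, show t1 * g * t1⁻¹ * (t1 * g * t1⁻¹) = t1 * g ^ 2 * t1⁻¹ by rw [sq]; group, ← hg2,
        pow_orderOf_eq_one]
      group
    have hrr : r * r = 1 := by
      rw [hr, show t2 * k * t2⁻¹ * (t2 * k * t2⁻¹) = t2 * k ^ 2 * t2⁻¹ by rw [sq]; group, ← hk2,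
        pow_orderOf_eq_one]
      group
    have hinv : s * (y : G) * s⁻¹ = (y : G)⁻¹ := by
      rw [inv_eq_of_mul_eq_one_right hss, ← he]
      refine Eq.trans ?_ (mul_inv_rev s r).symm
      rw [inv_eq_of_mul_eq_one_right hss, inv_eq_of_mul_eq_one_right hrr]
      calc s * (s * r) * s = s * s * r * s := by group
        _ = r * s := by rw [hss, one_mul]
    have hzp := eq_zpowers_of_prime_sylow B.cardP y.2 hy1
    have hsN : s ∈ Subgroup.normalizer ((B.P : Subgroup G) : Set G) := by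
      rw [Subgroup.mem_normalizer_iff]
      have hmem : ∀ x ∈ (B.P : Subgroup G), s * x * s⁻¹ ∈ (B.P : Subgroup G) := by
        intro x hx
        rw [← hzp] at hx ⊢
        obtain ⟨j, rfl⟩ := hx
        refine ⟨-j, ?_⟩
        show (y : G) ^ (-j) = _
        rw [zpow_neg, ← inv_zpow, ← hinv, conj_zpow]
      refine fun x => ⟨hmem x, fun hx => ?_⟩
      have := hmem _ hx
      rw [inv_eq_of_mul_eq_one_right hss] at this
      rwa [show s * (s * x * s) * s = s * s * x * (s * s) by group, hss, one_mul, mul_one] at this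
    have hN : Nat.card (Subgroup.normalizer ((B.P : Subgroup G) : Set G)) = p * B.e := by
      have h := Subgroup.card_mul_index ((Subgroup.centralizer ((B.P : Subgroup G) : Set G)).subgroupOf
        (Subgroup.normalizer ((B.P : Subgroup G) : Set G)))
      rw [Solv.card_subgroupOf (Subgroup.centralizer_le_normalizer _), B.cent] at h
      rw [← h, show ((Subgroup.centralizer ((B.P : Subgroup G) : Set G)).subgroupOf
        (Subgroup.normalizer ((B.P : Subgroup G) : Set G))).index = B.e from B.index]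
    have hos : orderOf s = 2 := by
      rw [hs, ← MulAut.conj_apply, ← MulEquiv.coe_toMonoidHom, orderOf_injective _ (MulAut.conj t1).injective, hg2]
    have h2 := Subgroup.orderOf_dvd_natCard _ hsN
    rw [hN, hos] at h2
    rcases Nat.prime_two.dvd_mul.1 h2 with h | h
    · rcases B.par with ⟨rfl, -⟩ | ⟨rfl, -⟩ | ⟨rfl, -⟩ <;> omega
    · exact absurd (even_iff_two_dvd.2 h) (Nat.not_even_iff_odd.2 hodd)

variable {L : List (IrrCharacter G)}

include B in
theorem cfp_of_dvd {d : ℕ} (h : p ∣ d) : cfp p d = 0 := by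
  have h0 : d % p = 0 := Nat.mod_eq_zero_of_dvd h
  rcases B.par with ⟨rfl, -⟩ | ⟨rfl, -⟩ | ⟨rfl, -⟩ <;> simp [cfp, h0]

theorem sum_list (hL : L.Nodup) (hS : ∀ χ ∈ B.S, χ ∈ L) (f : IrrCharacter G → ℂ) :
    ∑ χ ∈ B.S, (cfp p (charDegree (χ : G → ℂ)) : ℂ) * f χ =
      (L.map fun χ : IrrCharacter G => (cfp p (charDegree (χ : G → ℂ)) : ℂ) * f χ).sum := by
  classical
  rw [← List.sum_toFinset _ hL]
  refine Finset.sum_subset (fun χ h => List.mem_toFinset.2 (hS χ h)) fun χ _ hn => ?_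
  rw [B.cfp_of_dvd (not_not.1 fun h => hn (B.mem_iff.2 h)), Int.cast_zero, zero_mul]

/-- The relation on a column. -/
theorem lin_zero (hL : L.Nodup) (hS : ∀ χ ∈ B.S, χ ∈ L) {g : G} (hg : ¬ p ∣ orderOf g) {V : List ℤ}
    (h : Vals L g V) : lin p (degs L) V = 0 := by
  have h1 := lin_cast (p := p) h
  rw [← B.sum_list hL hS, B.relation hg] at h1
  exact_mod_cast h1

/-- The number of pairs on two columns. -/
theorem pl_facts (hN : Nat.card G = 443520) (hL : L.Nodup) (hS : ∀ χ ∈ B.S, χ ∈ L) {g k : G}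
    (hg : ¬ p ∣ orderOf g) (hk : ¬ p ∣ orderOf k) {V W : List ℤ} (h : Vals L g V) (h' : Vals L k W) :
    0 ≤ pl p (degs L) V W ∧ (2 * ((cc g : ℤ) * (cc k : ℤ))) ∣ pl p (degs L) V W ∧
      (Odd B.e → orderOf g = 2 → orderOf k = 2 → pl p (degs L) V W = 0) := by
  obtain ⟨R, hR, hsum, h0⟩ := B.pairs hg hk fun χ hχ => by
    have hm := hS χ hχ
    have aux : ∀ {x : G} {U : List ℤ}, Vals L x U → ∃ z : ℤ, (χ : G → ℂ) x = z := by
      intro x U hU
      clear hS hL h h'
      induction hU with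
      | nil => cases hm
      | @cons ψ z L' U' hz _ ih =>
        rcases List.mem_cons.1 hm with rfl | hm'
        · exact ⟨z, hz⟩
        · exact ih hm'
    obtain ⟨z, hz⟩ := aux h
    obtain ⟨w, hw⟩ := aux h'
    rw [hz, hw, map_intCast, map_intCast]
    exact ⟨rfl, rfl⟩
  have h1 := pl_cast (p := p) hN h h'
  rw [← B.sum_list hL hS, ← hsum] at h1
  have h2 : pl p (degs L) V W = 2 * (R : ℤ) := by exact_mod_cast h1
  refine ⟨by rw [h2]; positivity, ?_, fun a b c => by rw [h2, h0 a b c]; norm_num⟩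
  rw [h2]
  exact mul_dvd_mul_left 2 (by exact_mod_cast hR)

end PBlk

end Cfsg.Agent.MTwentyTwo.ByOrder
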