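import Cfsg.Agent.Lib.Spor.MTwentyTwoOrder.Front

/-!
The Sylow subgroups of orders five and seven of a group of the order of the Mathieu group of degree twenty-two.
-/

set_option autoImplicit false
set_option linter.unusedSectionVars false
set_option linter.style.haveILetI false
set_option maxRecDepth 100000

namespace Cfsg.Agent.MTwentyTwo.ByOrder

open Cfsg Cfsg.Agent.Char Cfsg.Agent.Small.Order459648 Cfsg.Agent.Char.PrimeSylowCount

universe u

/-- the index of a Sylow subgroup of order `p` -/
def cofac (p : ℕ) : ℕ := 443520 / p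

/-- the orders of centralisers allowed by the count of Sylow subgroups -/
def cOk (p C : ℕ) : Bool :=
  C % p != 0 || 40320 % C != 0 || (cS p).contains C ||
    [2, 3, 4, 6].all fun e => (p - 1) % e != 0 || cofac p % (C / p * e) != 0 || cofac p / (C / p * e) % p != 1 ||
      cofac p / (C / p * e) == 1

theorem cS_table : ([5, 7].all fun p => (List.range (40320 / p + 1)).all fun k => k == 0 || cOk p (p * k)) = true := by
  decide +kernel

theorem self_table : ([5, 7].all fun p => [2, 3, 4, 6].all fun e =>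
    (p - 1) % e != 0 || cofac p % e != 0 || cofac p / e % p != 1 || e == (bif p == 5 then 4 else 3)) = true := by
  decide +kernel

variable {G : Type u} [Group G] [Fintype G] [IsSimpleGroup G]

theorem sylow_facts (hG : Nat.card G = 443520) {p : ℕ} (hp : p = 5 ∨ p = 7) [Fact p.Prime] {x : G}
    (hx : orderOf x = p) :
    ∃ (Q : Sylow p G) (k e n : ℕ), Nat.card Q = p ∧ (Q : Subgroup G) = Subgroup.zpowers x ∧
      cc x = centCard p Q ∧ cc x = p * k ∧ n * e * k = cofac p ∧ n % p = 1 ∧ n ≠ 1 ∧ e ∣ p - 1 ∧ e ≠ 1 ∧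
      (Subgroup.centralizer ((Q : Subgroup G) : Set G)).relIndex
        (Subgroup.normalizer ((Q : Subgroup G) : Set G)) = e := by
  obtain ⟨P, n, e, k, hP, hn, hk, hnek, hn1, hne1, he, he1, hidx⟩ :=
    data (G := G) (p := p) (m := cofac p) (by rcases hp with rfl | rfl <;> rw [hG] <;> rfl)
      (by rcases hp with rfl | rfl <;> decide) (by rcases hp with rfl | rfl <;> decide)
  obtain ⟨Q, hQ⟩ := exists_sylow_eq P hP x hx
  have hQc : Nat.card Q = p := by
    show Nat.card (Q : Subgroup G) = p
    rw [hQ, Nat.card_zpowers, hx]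
  have hcc : cc x = centCard p Q := by
    rw [cc, centCard, hQ, centralizer_zpowers_eq]
  have hC : Subgroup.centralizer ((Q : Subgroup G) : Set G) ≤ Subgroup.normalizer ((Q : Subgroup G) : Set G) :=
    Subgroup.centralizer_le_normalizer _
  refine ⟨Q, k, e, n, hQc, hQ, hcc, by rw [hcc, centCard_eq Q P, hk], hnek, hn1, hne1, he, he1, ?_⟩
  have h1 := Small.SmallOrders.card_normalizer P
  have h2 := Small.SmallOrders.card_normalizer Q
  have hCP : Nat.card (Subgroup.centralizer ((P : Subgroup G) : Set G)) = p * k := hk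
  have hCQ : Nat.card (Subgroup.centralizer ((Q : Subgroup G) : Set G)) = p * k :=
    (centCard_eq Q P).trans hk
  have e1 := Subgroup.card_mul_index ((Subgroup.centralizer ((P : Subgroup G) : Set G)).subgroupOf
    (Subgroup.normalizer ((P : Subgroup G) : Set G)))
  rw [Solv.card_subgroupOf (Subgroup.centralizer_le_normalizer _), hCP] at e1
  have e2 := Subgroup.card_mul_index ((Subgroup.centralizer ((Q : Subgroup G) : Set G)).subgroupOf
    (Subgroup.normalizer ((Q : Subgroup G) : Set G)))
  rw [Solv.card_subgroupOf hC, hCQ] at e2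
  have hk0 : p * k ≠ 0 := by
    rintro h
    rcases Nat.mul_eq_zero.1 h with rfl | rfl
    · simp at hp
    · simp [cofac] at hnek
      rcases hp with rfl | rfl <;> norm_num at hnek
  refine Nat.eq_of_mul_eq_mul_left (Nat.pos_of_ne_zero hk0) ?_
  rw [← hidx]
  show p * k * Subgroup.index _ = p * k * Subgroup.index _
  rw [e1, e2]
  exact Nat.eq_of_mul_eq_mul_left (Nat.card_pos (α := Sylow p G)) (h2.trans h1.symm)

variable (F : Front G)

include F in
/-- The centraliser of an element of order five or seven. -/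
theorem Front.cc_mem_cS {p : ℕ} (hp : p = 5 ∨ p = 7) {x : G} (hx : orderOf x = p) : cc x ∈ cS p := by
  haveI : Fact p.Prime := ⟨by rcases hp with rfl | rfl <;> norm_num⟩
  obtain ⟨Q, k, e, n, -, -, -, hk, hnek, hn1, hne1, he, he1, -⟩ := sylow_facts F.card hp hx
  have hd : cc x ∣ 40320 := F.cc_dvd (by rw [hx]; rcases hp with rfl | rfl <;> norm_num)
    fun h => by rw [h, orderOf_one] at hx; omega
  have hk0 : k ≠ 0 := fun h => by rw [h, mul_zero] at hk; rw [hk] at hd; simp at hd
  have hkle : k ≤ 40320 / p := (Nat.le_div_iff_mul_le (by omega)).2 (by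
    rw [mul_comm, ← hk]; exact Nat.le_of_dvd (by norm_num) hd)
  have ht := List.all_eq_true.1 (List.all_eq_true.1 cS_table p (by simpa using hp)) k
    (List.mem_range.2 (by omega))
  have he' : e ∈ [2, 3, 4, 6] := by
    have := Nat.le_of_dvd (by omega) he
    have he0 : e ≠ 0 := fun h => by rw [h, mul_zero, zero_mul] at hnek; rcases hp with rfl | rfl <;> simp [cofac] at hnek
    rcases hp with rfl | rfl <;> interval_cases e <;> simp_all
  have hq : p * k / p = k := Nat.mul_div_cancel_left _ (by omega)
  have hdiv : cofac p / (k * e) = n := by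
    rw [← hnek, mul_assoc, mul_comm e k, Nat.mul_div_cancel]
    exact Nat.mul_pos (Nat.pos_of_ne_zero hk0) (Nat.pos_of_ne_zero fun h => by simp [h] at he')
  have hmod : cofac p % (k * e) = 0 := by rw [← hnek, mul_assoc, mul_comm e k, Nat.mul_mod_left]
  simp only [cOk, Bool.or_eq_true, beq_iff_eq, hq] at ht
  rw [hk]
  rcases ht with h | ((h | h) | h) | h
  · exact absurd h hk0
  · simp at h
  · rw [← hk] at h; simp [Nat.mod_eq_zero_of_dvd hd] at h
  · exact List.contains_iff_mem.1 h
  · have h' := List.all_eq_true.1 h e he'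
    simp [Nat.mod_eq_zero_of_dvd he, hdiv, hmod, hn1, hne1] at h'

include F in
/-- A self-centralising element of order five or seven gives a block. -/
theorem Front.exists_pblk_prime {p : ℕ} (hp : p = 5 ∨ p = 7) [Fact p.Prime] {x : G} (hx : orderOf x = p)
    (hC : cc x = p) : ∃ B : PBlk p G, B.e = (bif p == 5 then 4 else 3) := by
  obtain ⟨Q, k, e, n, hQ, -, hcc, hk, hnek, hn1, -, he, he1, hidx⟩ := sylow_facts F.card hp hx
  have hk1 : k = 1 := by
    rw [hC] at hk
    exact (Nat.mul_eq_left (by omega)).1 hk.symm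
  rw [hk1, mul_one] at hnek
  have he' : e ∈ [2, 3, 4, 6] := by
    have := Nat.le_of_dvd (by omega) he
    have he0 : e ≠ 0 := fun h => by rw [h, mul_zero] at hnek; rcases hp with rfl | rfl <;> simp [cofac] at hnek
    rcases hp with rfl | rfl <;> interval_cases e <;> simp_all
  have hdiv : cofac p / e = n := by
    rw [← hnek, Nat.mul_div_cancel _ (Nat.pos_of_ne_zero fun h => by simp [h] at he')]
  have ht := List.all_eq_true.1 (List.all_eq_true.1 self_table p (by simpa using hp)) e he'
  simp [Nat.mod_eq_zero_of_dvd he, hdiv, hn1, show cofac p % e = 0 by rw [← hnek, Nat.mul_mod_left]] at ht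
  obtain ⟨B, -, hBe, -⟩ := exists_pblk (e := e) (t := bif p == 5 then 1 else 2)
    (by rcases hp with rfl | rfl <;> simp_all [Par]) Q hQ (hcc.symm.trans hC) hidx
  exact ⟨B, hBe.trans ht⟩

include F in
/-- The divisibilities between the centralisers of elements of orders five and seven. -/
theorem Front.cross {x y : G} (hx : orderOf x = 5) (hy : orderOf y = 7) :
    (7 ∣ cc x ↔ 5 ∣ cc y) := by
  haveI : Fact (Nat.Prime 5) := ⟨by norm_num⟩
  haveI : Fact (Nat.Prime 7) := ⟨by norm_num⟩
  obtain ⟨Q, -, -, -, hQ, -, hcx, -⟩ := sylow_facts F.card (Or.inl rfl) hx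
  obtain ⟨R, -, -, -, hR, -, hcy, -⟩ := sylow_facts F.card (Or.inr rfl) hy
  rw [hcx, hcy]
  exact ⟨PrimeSylowCount.cross Q R hQ hR, PrimeSylowCount.cross R Q hR hQ⟩

end Cfsg.Agent.MTwentyTwo.ByOrder
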