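import Cfsg.Agent.Lib.Spor.MTwentyTwoOrder.Local

/-!
The two-part of the centraliser of the four-group of an element of order three.
-/

set_option autoImplicit false
set_option linter.unusedSectionVars false
set_option linter.style.haveILetI false

namespace Cfsg.Agent.MTwentyTwo.ByOrder

open Cfsg
open scoped Pointwise

universe u

variable {G : Type u} [Group G] [Fintype G] {H : Cls G}

theorem normal_of_conj {K : Subgroup G} {c : G} (h : ∀ x ∈ K, c * x * c⁻¹ ∈ K) :
    c ∈ Subgroup.normalizer (K : Set G) := by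
  refine Subgroup.mem_normalizer_iff.2 fun x => ⟨h x, fun hx => ?_⟩
  let f : K → K := fun a => ⟨c * a * c⁻¹, h a a.2⟩
  obtain ⟨a, ha⟩ := Finite.injective_iff_surjective.1 (show Function.Injective f from
    fun a b e => Subtype.ext (by simpa [f] using congrArg Subtype.val e)) ⟨_, hx⟩
  have : (a : G) = x := by simpa [f] using congrArg Subtype.val ha
  exact this ▸ a.2

/-- A free action on the difference of two subgroups. -/
theorem free_diff (K A B : Subgroup G) (hAB : A ≤ B) (hA : ∀ k ∈ K, k ∈ Subgroup.normalizer (A : Set G))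
    (hB : ∀ k ∈ K, k ∈ Subgroup.normalizer (B : Set G))
    (hfix : ∀ k ∈ K, k ≠ 1 → ∀ x ∈ B, Commute k x → x ∈ A) : Nat.card K ∣ Nat.card B - Nat.card A := by
  classical
  have h := free_dvd K ((Finset.univ.filter fun x : G => x ∈ B) \ (Finset.univ.filter fun x : G => x ∈ A))
    (fun k hk x hx => by
      simp only [Finset.mem_sdiff, Finset.mem_filter, Finset.mem_univ, true_and] at hx ⊢
      exact ⟨(Subgroup.mem_normalizer_iff.1 (hB k hk) x).1 hx.1,
        fun e => hx.2 ((Subgroup.mem_normalizer_iff.1 (hA k hk) x).2 e)⟩)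
    fun k hk x hx e => by
      simp only [Finset.mem_sdiff, Finset.mem_filter, Finset.mem_univ, true_and] at hx
      by_contra hk1
      exact hx.2 (hfix k hk hk1 x hx.1 (mul_inv_eq_iff_eq_mul.1 e))
  rwa [Finset.card_sdiff_of_subset (fun x hx => by
    simp only [Finset.mem_filter, Finset.mem_univ, true_and] at hx ⊢
    exact hAB hx), card_filter, card_filter] at h

theorem of_zpowers {y k x : G} (hy : orderOf y = 3) (hk : k ∈ Subgroup.zpowers y) (hk1 : k ≠ 1) (h : Commute k x) :
    Commute y x := by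
  haveI : Fact (Nat.Prime 3) := ⟨Nat.prime_three⟩
  have hko : orderOf k = 3 := by
    have := Subgroup.orderOf_dvd_natCard _ hk
    rw [Nat.card_zpowers, hy, Nat.dvd_prime Nat.prime_three] at this
    exact this.resolve_left fun e => hk1 (orderOf_eq_one_iff.1 e)
  have e : Subgroup.zpowers k = Subgroup.zpowers y :=
    Subgroup.eq_of_le_of_card_ge (Subgroup.zpowers_le.2 hk) (by rw [Nat.card_zpowers, Nat.card_zpowers, hy, hko])
  obtain ⟨i, hi⟩ := (e ▸ Subgroup.mem_zpowers y : y ∈ Subgroup.zpowers k)
  rw [← hi]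
  exact h.zpow_left i

theorem exists_outside {S : Subgroup G} (hS : Nine S) {y : G} (hy : orderOf y = 3) :
    ∃ s ∈ S, s ∉ Subgroup.zpowers y := by
  by_contra h
  push Not at h
  have := Nat.le_of_dvd Nat.card_pos (Subgroup.card_dvd_of_le (H := S) (K := Subgroup.zpowers y) h)
  rw [hS.card, Nat.card_zpowers, hy] at this
  omega

include H in
theorem pow_four {y x : G} (hy : orderOf y = 3) (h : Commute x y) (hx : x ^ 64 = 1) : x ∈ four y := by
  refine (ByOrder.mem_four (H := H) hy).2 ⟨h, orderOf_dvd_iff_pow_eq_one.1 ?_⟩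
  have h1 := Subgroup.orderOf_dvd_natCard (s := Subgroup.centralizer ({y} : Set G)) (mem_cent.2 h)
  rw [show Nat.card (Subgroup.centralizer ({y} : Set G)) = 36 from H.three y hy] at h1
  exact (Nat.dvd_gcd h1 (orderOf_dvd_of_pow_eq_one hx)).trans (by norm_num)

include H in
theorem four_normal {y c : G} (hy : orderOf y = 3) (hc : c * y * c⁻¹ = y ∨ c * y * c⁻¹ = y⁻¹) :
    c ∈ Subgroup.normalizer (four y : Set G) := by
  refine normal_of_conj fun x hx => ?_
  have e : four (c * y * c⁻¹) = four y := by
    rcases hc with e | e <;> rw [e]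
    exact four_inv (H := H) hy
  rw [← e, four_conj (H := H) hy]
  simpa [mul_assoc] using hx

include H in
theorem rad_normal {y c : G} (hy : orderOf y = 3) (hc : c * y * c⁻¹ = y ∨ c * y * c⁻¹ = y⁻¹) :
    c ∈ Subgroup.normalizer (rad y : Set G) := by
  refine normal_of_conj fun x hx => ?_
  refine (rad_conj (y := y) (y' := y) (g := c) (fun z => ?_) _).2 (by simpa [mul_assoc] using hx)
  refine ((Subgroup.mem_normalizer_iff.1 (inv_mem (four_normal (H := H) hy hc))) z).trans ?_
  simp

include H in
/-- The two-part is the intersection with the core. -/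
theorem Core.rad_eq {t y : G} {Q : Subgroup G} (h : Pair t y) (hQ : Core t y Q) :
    rad y = Q ⊓ Subgroup.centralizer (four y : Set G) ∧ (Nat.card (rad y) = 16 ∨ Nat.card (rad y) = 64) ∧
      ∀ x ∈ Q, x ∈ Subgroup.normalizer (four y : Set G) → x ∈ rad y := by
  classical
  haveI : Fact (Nat.Prime 2) := ⟨Nat.prime_two⟩
  haveI : Fact (Nat.Prime 3) := ⟨Nat.prime_three⟩
  obtain ⟨S, hS, hyS, hV⟩ := exists_sg (H := H) h.three
  set CV := Subgroup.centralizer (four y : Set G) with hCV
  set R := Q ⊓ CV with hR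
  have ht := h.mem_four (H := H)
  have hCVt : ∀ x ∈ CV, Commute x t := fun x hx => (Subgroup.mem_centralizer_iff.1 hx t ht).symm
  have hyCV : y ∈ CV := Subgroup.mem_centralizer_iff.2 fun x hx => ((hV.mem x).1 hx).1.eq
  have h64 : ∀ x ∈ Q, x ^ 64 = 1 := fun x hx => by
    have := pow_card_eq_one' (G := Q) (x := ⟨x, hx⟩)
    rw [hQ.card] at this
    exact congrArg Subtype.val this
  have hVR : four y ≤ R := le_inf hQ.four_le fun x hx => Subgroup.mem_centralizer_iff.2 fun z hz => by
    have h1 := hV.sq _ (mul_mem hx hz)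
    calc z * x = (x * z * (x * z)) * z * x := by rw [h1, one_mul]
      _ = x * z * (x * (z * z) * x) := by group
      _ = x * z := by rw [hV.sq z hz, mul_one, hV.sq x hx, mul_one]
  have hyn : ∀ K : Subgroup G, y ∈ Subgroup.normalizer (K : Set G) → ∀ k ∈ Subgroup.zpowers y,
      k ∈ Subgroup.normalizer (K : Set G) := fun K hK k hk => (Subgroup.zpowers_le.2 hK) hk
  have hyQ : y ∈ Subgroup.normalizer (Q : Set G) := hQ.normal y h.comm.symm
  have hyR : y ∈ Subgroup.normalizer (R : Set G) := normal_of_conj fun x hx =>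
    ⟨(Subgroup.mem_normalizer_iff.1 hyQ x).1 hx.1, CV.mul_mem (CV.mul_mem hyCV hx.2) (CV.inv_mem hyCV)⟩
  have hfix : ∀ k ∈ Subgroup.zpowers y, k ≠ 1 → ∀ x ∈ Q, Commute k x → x ∈ four y := fun k hk hk1 x hx hkx =>
    pow_four (H := H) h.three (of_zpowers h.three hk hk1 hkx).symm (h64 x hx)
  have hy3 : Nat.card (Subgroup.zpowers y) = 3 := by rw [Nat.card_zpowers, h.three]
  have hR4 : Nat.card R = 4 ∨ Nat.card R = 16 ∨ Nat.card R = 64 := by
    have h1 := free_diff (Subgroup.zpowers y) (four y) R hVR (hyn _ (four_normal (H := H) h.three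
      (Or.inl (by group)))) (hyn _ hyR) fun k hk hk1 x hx => hfix k hk hk1 x hx.1
    rw [hy3, hV.card] at h1
    have h2 : Nat.card R ∣ 2 ^ 6 := by
      rw [show (2 : ℕ) ^ 6 = 64 from rfl, ← hQ.card]; exact Subgroup.card_dvd_of_le inf_le_left
    have h4 : 4 ≤ Nat.card R := hV.card ▸ Nat.le_of_dvd Nat.card_pos (Subgroup.card_dvd_of_le hVR)
    obtain ⟨j, hj, hj'⟩ := (Nat.dvd_prime_pow Nat.prime_two).1 h2
    rw [hj'] at h1 h4 ⊢
    interval_cases j <;> simp_all
  -- the index in the centraliser
  set C := Subgroup.centralizer ({t} : Set G) with hC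
  have hQC : Q ≤ C := fun x hx => mem_cent.2 (hQ.le x hx)
  have hCVC : CV ≤ C := fun x hx => mem_cent.2 (hCVt x hx)
  haveI hnQ : (Q.subgroupOf C).Normal := ⟨fun x hx c => by
    have := (Subgroup.mem_normalizer_iff.1 (hQ.normal c (mem_cent.1 c.2)) x).1 hx
    exact this⟩
  have hidx : (Q.subgroupOf C).index = 6 := by
    have := Subgroup.card_mul_index (Q.subgroupOf C)
    rw [Nat.card_congr (Subgroup.subgroupOfEquivOfLe hQC).toEquiv, hQ.card,
      show Nat.card C = 384 from H.invol t h.two] at this
    omega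
  set H' := CV.subgroupOf C
  set j := (Q.subgroupOf C).relIndex H' with hj
  have hj6 : j ∣ 6 := hidx ▸ Subgroup.relIndex_dvd_index_of_normal _ _
  have hCVc : Nat.card CV = Nat.card R * j := by
    have h1 := Subgroup.card_mul_index ((Q.subgroupOf C).subgroupOf H')
    rw [show ((Q.subgroupOf C).subgroupOf H').index = j from rfl,
      Nat.card_congr (Subgroup.subgroupOfEquivOfLe hCVC).toEquiv] at h1
    rw [← h1]
    congr 1
    rw [← Subgroup.inf_subgroupOf_right, Nat.card_congr (Subgroup.subgroupOfEquivOfLe inf_le_right).toEquiv]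
    rw [show Q.subgroupOf C ⊓ H' = R.subgroupOf C by ext x; simp [R, H', Subgroup.mem_subgroupOf]]
    exact Nat.card_congr (Subgroup.subgroupOfEquivOfLe (show R ≤ C from inf_le_left.trans hQC)).toEquiv
  have h3CV : 3 ∣ Nat.card CV := h.three ▸ Subgroup.orderOf_dvd_natCard _ hyCV
  have hj3 : j = 3 := by
    have h3j : 3 ∣ j := by
      rw [hCVc] at h3CV
      exact (Nat.prime_three.dvd_mul.1 h3CV).resolve_left fun e => by
        rcases hR4 with e' | e' | e' <;> rw [e'] at e <;> norm_num at e
    obtain ⟨i, hi⟩ := h3j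
    rw [hi] at hj6
    have : i ∣ 2 := Nat.dvd_of_mul_dvd_mul_left (by norm_num : 0 < 3) (by simpa using hj6)
    rcases (Nat.dvd_prime Nat.prime_two).1 this with rfl | rfl
    · exact hi
    exfalso
    -- too many Sylow subgroups
    set yV : CV := ⟨y, hyCV⟩
    have hcv : Nat.card CV = 6 * Nat.card R := by rw [hCVc, hi]; ring
    obtain ⟨P, hP⟩ : ∃ P : Sylow 3 CV, (P : Subgroup CV) = Subgroup.zpowers yV := by
      refine ⟨Sylow.ofCard (Subgroup.zpowers yV) ?_, rfl⟩
      rw [Nat.card_zpowers, Subgroup.orderOf_mk, h.three, hcv, show 6 * Nat.card R = 3 ^ 1 * (2 * Nat.card R) by ring,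
        Nat.factorization_mul (by norm_num) (by simp [Nat.card_pos.ne']), Nat.factorization_pow, Finsupp.add_apply,
        Finsupp.smul_apply, Nat.prime_three.factorization_self,
        Nat.factorization_eq_zero_of_not_dvd (by rcases hR4 with e | e | e <;> rw [e] <;> norm_num :
          ¬ 3 ∣ 2 * Nat.card R)]
      rfl
    set M := Subgroup.centralizer ({y} : Set G) ⊓ CV with hM
    have hN : Nat.card (Subgroup.normalizer ((P : Subgroup CV) : Set CV)) = Nat.card M := by
      rw [show Subgroup.normalizer ((P : Subgroup CV) : Set CV) = M.subgroupOf CV from ?_,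
        Nat.card_congr (Subgroup.subgroupOfEquivOfLe inf_le_right).toEquiv]
      ext c
      constructor
      · intro hc
        have hh := (Subgroup.mem_normalizer_iff.1 hc yV).1 (hP ▸ Subgroup.mem_zpowers yV)
        rw [hP] at hh
        obtain ⟨i, hi⟩ := hh
        have hi' : y ^ i = (c : G) * y * (c : G)⁻¹ := congrArg Subtype.val hi
        refine ⟨mem_cent.2 (mul_inv_eq_iff_eq_mul.1 ?_), c.2⟩
        have hyi : y ^ i = y ^ (i % 3) := by
          have := zpow_mod_orderOf y i
          rw [h.three] at this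
          exact_mod_cast this.symm
        show (c : G) * y * (c : G)⁻¹ = y
        rw [← hi', hyi]
        rcases (show i % 3 = 0 ∨ i % 3 = 1 ∨ i % 3 = 2 by omega) with e | e | e <;> rw [e]
        · exfalso
          have h1 : (c : G) * y * (c : G)⁻¹ = 1 := by rw [← hi', hyi, e, zpow_zero]
          have := congrArg orderOf h1
          rw [orderOf_one, ← MulAut.conj_apply, ← MulEquiv.coe_toMonoidHom,
            orderOf_injective _ (MulAut.conj (c : G)).injective, h.three] at this
          omega
        · exact zpow_one y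
        · refine absurd ?_ (fun hh => (h.inverters (H := H)).2 c hh fun x hx =>
            (Subgroup.mem_centralizer_iff.1 c.2 x hx).symm)
          rw [← hi', hyi, e, show (2 : ℤ) = ((2 : ℕ) : ℤ) from rfl, zpow_natCast,
            show y ^ 2 = y⁻¹ from eq_inv_of_mul_eq_one_left (by
              rw [← pow_succ, show 2 + 1 = orderOf y by rw [h.three], pow_orderOf_eq_one])]
      · intro hc
        refine Subgroup.mem_normalizer_iff.2 fun x => ?_
        have hcy : c * yV * c⁻¹ = yV :=
          Subtype.ext (mul_inv_eq_iff_eq_mul.2 (mem_cent.1 hc.1).eq)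
        rw [hP]
        constructor
        · rintro ⟨i, rfl⟩
          exact ⟨i, by rw [← conj_zpow, hcy]⟩
        · rintro ⟨i, hi⟩
          refine ⟨i, ?_⟩
          have hi' : yV ^ i = c * x * c⁻¹ := hi
          rw [← hcy, conj_zpow] at hi'
          exact mul_left_cancel (mul_right_cancel hi')
    have hM36 : Nat.card M ∣ 36 := H.three y h.three ▸ Subgroup.card_dvd_of_le inf_le_left
    have hM3 : 3 ∣ Nat.card M := h.three ▸ Subgroup.orderOf_dvd_natCard _ ⟨mem_cent.2 (Commute.refl y), hyCV⟩
    have hM4 : 4 ∣ Nat.card M := hV.card ▸ Subgroup.card_dvd_of_le (le_inf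
      (fun x hx => mem_cent.2 ((hV.mem x).1 hx).1) (hVR.trans inf_le_right))
    have hM9 : ¬ 9 ∣ Nat.card M := fun h9 => H.no_nine_two h.two h9 fun x hx => hCVt x hx.2
    have hM12 : Nat.card M = 12 := by
      obtain ⟨i, hi⟩ := Nat.Coprime.mul_dvd_of_dvd_of_dvd (by norm_num : Nat.Coprime 3 4) hM3 hM4
      rw [hi] at hM36 hM9
      have : i ∣ 3 := Nat.dvd_of_mul_dvd_mul_left (by norm_num : 0 < 3 * 4) (by simpa using hM36)
      rcases (Nat.dvd_prime Nat.prime_three).1 this with rfl | rfl
      · exact hi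
      · norm_num at hM9
    have h1 := Small.SmallOrders.card_normalizer P
    rw [hN, hM12, hcv] at h1
    have hm := card_sylow_modEq_one 3 CV
    unfold Nat.ModEq at hm
    omega
  have hRmem : ∀ x ∈ CV, x ^ 64 = 1 → x ∈ R := by
    intro x hx hx64
    refine ⟨?_, hx⟩
    by_contra hxQ
    have h1 : (Q.subgroupOf C).subgroupOf H' ≠ ⊤ := fun e => hxQ (by
      have := (e ▸ Subgroup.mem_top (⟨⟨x, hCVC hx⟩, hx⟩ : H') : (⟨⟨x, hCVC hx⟩, hx⟩ : H') ∈ (Q.subgroupOf C).subgroupOf H')
      exact this)
    haveI : ((Q.subgroupOf C).subgroupOf H').Normal := inferInstance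
    set q : H' ⧸ (Q.subgroupOf C).subgroupOf H' := QuotientGroup.mk ⟨⟨x, hCVC hx⟩, hx⟩
    have h3 : q ^ 3 = 1 := by
      have := pow_card_eq_one' (G := H' ⧸ (Q.subgroupOf C).subgroupOf H') (x := q)
      rwa [← Subgroup.index_eq_card, show ((Q.subgroupOf C).subgroupOf H').index = j from rfl, hj3] at this
    have h64' : q ^ 64 = 1 := by
      rw [← QuotientGroup.mk_pow, QuotientGroup.eq_one_iff]
      have : ((⟨⟨x, hCVC hx⟩, hx⟩ : H') ^ 64 : H') = 1 := Subtype.ext (Subtype.ext hx64)
      rw [this]; exact one_mem _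
    have hq : q = 1 := by
      calc q = q ^ 64 * ((q ^ 3) ^ 21)⁻¹ := by rw [← pow_mul]; group
        _ = 1 := by rw [h3, h64']; simp
    exact hxQ ((QuotientGroup.eq_one_iff (N := (Q.subgroupOf C).subgroupOf H') (⟨⟨x, hCVC hx⟩, hx⟩ : H')).1 hq)
  have hrad : rad y = R := le_antisymm ((Subgroup.closure_le _).2 fun x hx => hRmem x hx.1 hx.2)
    fun x hx => Subgroup.subset_closure ⟨hx.2, h64 x hx.1⟩
  -- the normaliser in the core
  have hnorm : ∀ x ∈ Q, x ∈ Subgroup.normalizer (four y : Set G) → x ∈ R := by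
    intro x hx hxN
    by_contra hxR
    set M := Q ⊓ Subgroup.normalizer (four y : Set G) with hM
    have hRM : R ≤ M := le_inf inf_le_left (fun c hc => normal_of_conj fun v hv => by
      rw [← Subgroup.mem_centralizer_iff.1 hc.2 v hv, mul_assoc, mul_inv_cancel, mul_one]
      exact hv)
    obtain ⟨v, hv, hv1, hvt⟩ : ∃ v ∈ four y, v ≠ 1 ∧ v ≠ t := by
      obtain ⟨s, hs, hsy⟩ := exists_outside hS h.three
      refine ⟨s * t * s⁻¹, hV.conj s (hS.comm s hs y hyS) t ht, fun e => h.ne_one ?_, fun e => ?_⟩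
      · calc t = s⁻¹ * (s * t * s⁻¹) * s := by group
          _ = 1 := by rw [e]; group
      · exact h.ne_one (hV.fixed s hs hsy t ht (mul_inv_eq_iff_eq_mul.1 e))
    have hall : ∀ u ∈ four y, u = 1 ∨ u = t ∨ u = v ∨ u = t * v := by
      intro u hu
      by_contra hcon
      push Not at hcon
      have hsub : ({1, t, v, t * v, u} : Finset G) ⊆ Finset.univ.filter fun x => x ∈ four y := by
        intro z hz
        simp only [Finset.mem_insert, Finset.mem_singleton] at hz
        rcases hz with rfl | rfl | rfl | rfl | rfl <;> simp [one_mem, ht, hv, hu, mul_mem]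
      have hle := Finset.card_le_card hsub
      rw [card_filter, hV.card] at hle
      have n1 : t * v ≠ 1 := fun e => hvt (by
        calc v = t * (t * v) := by rw [← mul_assoc, h.sq, one_mul]
          _ = t := by rw [e, mul_one])
      simp [Ne.symm h.ne_one, Ne.symm hv1, Ne.symm hvt, n1.symm, h.ne_one, hv1,
        Ne.symm hcon.1, Ne.symm hcon.2.1, Ne.symm hcon.2.2.1, Ne.symm hcon.2.2.2] at hle
    have hcase : ∀ c ∈ M, c * v * c⁻¹ = v → c ∈ R := fun c hc e =>
      ⟨hc.1, Subgroup.mem_centralizer_iff.2 fun u hu => by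
        have h1 : Commute c v := mul_inv_eq_iff_eq_mul.1 e
        have h2 : Commute c t := hQ.le c hc.1
        rcases hall u hu with rfl | rfl | rfl | rfl
        · simp
        · exact h2.eq.symm
        · exact h1.eq.symm
        · exact (h2.mul_right h1).eq.symm⟩
    have hval : ∀ c ∈ M, c * v * c⁻¹ = v ∨ c * v * c⁻¹ = t * v := by
      intro c hc
      rcases hall _ ((Subgroup.mem_normalizer_iff.1 hc.2 v).1 hv) with e | e | e | e
      · exact absurd (by calc v = c⁻¹ * (c * v * c⁻¹) * c := by group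
                              _ = 1 := by rw [e]; group) hv1
      · exact absurd (by calc v = c⁻¹ * (c * v * c⁻¹) * c := by group
                              _ = c⁻¹ * t * c := by rw [e]
                              _ = t := by rw [mul_assoc, ← (hQ.le c hc.1).eq]; group) hvt
      · exact Or.inl e
      · exact Or.inr e
    have h2 : Nat.card M ≤ 2 * Nat.card R := by
      rw [← card_filter M, ← card_filter R, two_mul]
      have : (Finset.univ.filter fun c : G => c ∈ M) ⊆ (Finset.univ.filter fun c : G => c ∈ R) ∪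
          (Finset.univ.filter fun c : G => c ∈ R).image (x * ·) := by
        intro c hc
        simp only [Finset.mem_filter, Finset.mem_univ, true_and] at hc
        rcases hval c hc with e | e
        · simp [hcase c hc e]
        · refine Finset.mem_union_right _ (Finset.mem_image.2 ⟨x⁻¹ * c, ?_, by group⟩)
          simp only [Finset.mem_filter, Finset.mem_univ, true_and]
          refine hcase _ (M.mul_mem (M.inv_mem ⟨hx, hxN⟩) hc) ?_
          have hx' : x * v * x⁻¹ = t * v :=
            (hval x ⟨hx, hxN⟩).resolve_left fun e' => hxR (hcase x ⟨hx, hxN⟩ e')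
          calc x⁻¹ * c * v * (x⁻¹ * c)⁻¹ = x⁻¹ * (c * v * c⁻¹) * x := by group
            _ = x⁻¹ * (x * v * x⁻¹) * x := by rw [e, hx']
            _ = v := by group
      refine (Finset.card_le_card this).trans ((Finset.card_union_le _ _).trans ?_)
      rw [Finset.card_image_of_injective _ (mul_right_injective x)]
    have hlt : Nat.card R < Nat.card M := by
      refine lt_of_le_of_ne (Nat.le_of_dvd Nat.card_pos (Subgroup.card_dvd_of_le hRM)) fun e => hxR ?_
      rw [Subgroup.eq_of_le_of_card_ge hRM e.ge]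
      exact ⟨hx, hxN⟩
    obtain ⟨i, hi⟩ := Subgroup.card_dvd_of_le hRM
    have hi2 : i = 2 := by
      have hpos : 0 < Nat.card R := Nat.card_pos
      have a1 : i ≤ 2 := by
        by_contra hh
        have : Nat.card R * 3 ≤ Nat.card R * i := Nat.mul_le_mul_left _ (by omega)
        omega
      have a2 : 1 < i := by
        by_contra hh
        have : Nat.card R * i ≤ Nat.card R * 1 := Nat.mul_le_mul_left _ (by omega)
        omega
      omega
    have hyM : y ∈ Subgroup.normalizer (M : Set G) := normal_of_conj fun c hc => by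
      have hyV := four_normal (H := H) h.three (c := y) (Or.inl (by group))
      exact ⟨(Subgroup.mem_normalizer_iff.1 hyQ c).1 hc.1,
        (Subgroup.normalizer _).mul_mem ((Subgroup.normalizer _).mul_mem hyV hc.2) (inv_mem hyV)⟩
    have hd := free_diff (Subgroup.zpowers y) R M hRM (hyn _ hyR) (hyn _ hyM)
      fun k hk hk1 c hc hkc => hVR (hfix k hk hk1 c hc.1 hkc)
    rw [hy3, hi, hi2, show Nat.card R * 2 - Nat.card R = Nat.card R by omega] at hd
    rcases hR4 with e | e | e <;> rw [e] at hd <;> norm_num at hd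
  refine ⟨hrad, ?_, hrad ▸ hnorm⟩
  rw [hrad]
  refine hR4.resolve_left fun e => ?_
  have hRV : four y = R := Subgroup.eq_of_le_of_card_ge hVR (by rw [e, hV.card])
  have hQp : IsPGroup 2 Q := IsPGroup.of_card (n := 6) (by rw [hQ.card]; rfl)
  obtain ⟨x, hx, hxn⟩ := SetLike.exists_of_lt (lt_normalizer_inf hQp hQ.four_le fun e' => by
    have := hV.card
    rw [e', hQ.card] at this
    omega)
  exact hxn (hRV ▸ hnorm x hx.2 hx.1)

end Cfsg.Agent.MTwentyTwo.ByOrder
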