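import Mathlib.Data.Int.Basic
import Mathlib.Data.List.Forall2
import Mathlib.Tactic

/-!
A search for short integer vectors satisfying a linear equation, used for the recognition of the Mathieu group of
degree twenty-two by its order.
-/

set_option autoImplicit false

namespace Cfsg.Agent.MTwentyTwo.ByOrder

/-- one coordinate: the allowed values, the coefficient and the weight -/
abbrev Slot : Type := List ℤ × ℤ × ℤ

/-- the weighted square sum of a vector -/
def wsq : List Slot → List ℤ → ℤ
  | (_, _, w) :: ss, z :: zs => w * (z * z) + wsq ss zs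
  | _, _ => 0

/-- the linear form of a vector -/
def wlin : List Slot → List ℤ → ℤ
  | (_, k, _) :: ss, z :: zs => k * z + wlin ss zs
  | _, _ => 0

/-- all vectors with values in the slots, linear form `-s` and weighted square sum at most `C - n` -/
def sols (C : ℤ) : List Slot → ℤ → ℤ → List (List ℤ)
  | [], s, n => bif s == 0 && decide (n ≤ C) then [[]] else []
  | (o, k, w) :: rest, s, n =>
    bif rest.isEmpty && k != 0 then
      bif k * (-s / k) == -s && decide (n + w * ((-s / k) * (-s / k)) ≤ C) && o.contains (-s / k) then
        [[-s / k]] else []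
    else
      o.flatMap fun z =>
        bif decide (n + w * (z * z) ≤ C) then (sols C rest (s + k * z) (n + w * (z * z))).map (z :: ·) else []

/-- membership of a vector in the slots -/
def InSlots : List Slot → List ℤ → Prop :=
  List.Forall₂ fun sl z => z ∈ sl.1 ∧ 0 ≤ sl.2.2

theorem wsq_nonneg : ∀ {ss : List Slot} {zs : List ℤ}, InSlots ss zs → 0 ≤ wsq ss zs := by
  intro ss zs h
  induction h with
  | nil => simp [wsq]
  | @cons sl z ss zs hz _ ih =>
    obtain ⟨o, k, w⟩ := sl
    simp only [wsq]
    have : 0 ≤ w * (z * z) := mul_nonneg hz.2 (mul_self_nonneg z)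
    omega

/-- The search is complete. -/
theorem mem_sols {C : ℤ} : ∀ {ss : List Slot} {zs : List ℤ} {s n : ℤ}, InSlots ss zs → s + wlin ss zs = 0 →
    n + wsq ss zs ≤ C → zs ∈ sols C ss s n := by
  intro ss zs s n h
  induction h generalizing s n with
  | nil =>
    intro hs hn
    simp only [wlin, add_zero, wsq] at hs hn
    simp [sols, hs, hn]
  | @cons sl z ss zs hz hrest ih =>
    obtain ⟨o, k, w⟩ := sl
    intro hs hn
    simp only [wlin, wsq] at hs hn
    obtain ⟨hzo, hw⟩ := hz
    simp only at hzo hw
    by_cases hlast : ss.isEmpty = true ∧ k ≠ 0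
    · obtain ⟨he, hk⟩ := hlast
      rw [List.isEmpty_iff] at he
      subst he
      cases hrest
      simp only [wlin, add_zero, wsq] at hs hn
      have hzz : -s / k = z := by
        rw [show -s = k * z by omega, Int.mul_ediv_cancel_left _ hk]
      simp only [sols, List.isEmpty_nil, hzz]
      have hkz : k * z = -s := by omega
      have hk' : (k != 0) = true := by simpa using hk
      simp [hk', hkz, hn, hzo]
    · have hc : (ss.isEmpty && k != 0) = false := by
        simpa [Bool.and_eq_false_iff, imp_iff_not_or] using hlast
      simp only [sols, hc, cond_false, List.mem_flatMap]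
      refine ⟨z, hzo, ?_⟩
      have hnn := wsq_nonneg hrest
      have h1 : n + w * (z * z) ≤ C := by omega
      simp only [h1, decide_true, cond_true, List.mem_map]
      exact ⟨zs, ih (by omega) (by omega), rfl⟩

end Cfsg.Agent.MTwentyTwo.ByOrder
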