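import Cfsg.Agent.Lib.Spor.MTwentyTwoOrder.Full

/-!
The rational columns of the character table of a group of the order of the Mathieu group of degree twenty-two.
-/

set_option autoImplicit false
set_option linter.unusedSectionVars false
set_option linter.style.haveILetI false
set_option maxRecDepth 100000

namespace Cfsg.Agent.MTwentyTwo.ByOrder

open Cfsg Cfsg.Agent.Char Cfsg.Agent.Small.Order459648
open Cfsg.Agent.MTwelve.OrderFront (val_one int_value)
open scoped ComplexConjugate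

universe u

/-- the degrees of all irreducible characters -/
def allD : List ℕ := [1, 21, 45, 45, 210, 280, 280, 55, 99, 154, 231, 385]

/-- a full column from its nine free values -/
def colV : List ℤ → List ℤ
  | [a, p, q, r, s, z, u, w, t] => [1, a, p, p, z, w, w, q, r, s, u, t]
  | _ => []

/-- the last value -/
def lastVal (a p q r s z u w : ℤ) : ℤ :=
  -(1 + 21 * a + 90 * p + 210 * z + 560 * w + 55 * q + 99 * r + 154 * s + 231 * u) / 385

/-- the full columns with given allowed values -/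
def colsAll (f : ℕ → List ℤ) (C : ℤ) : List (List ℤ) :=
  (f 21).flatMap fun a => (f 45).flatMap fun p => (f 55).flatMap fun q =>
    bif (f 99).contains (q + p - 1) &&
        decide (1 + a * a + 2 * (p * p) + q * q + (q + p - 1) * (q + p - 1) ≤ C) then
      (f 154).flatMap fun s =>
        bif (f 231).contains (q + p - 1 + s - 1 - a) && decide (1 + a * a + 2 * (p * p) + q * q +
            (q + p - 1) * (q + p - 1) + s * s + (q + p - 1 + s - 1 - a) * (q + p - 1 + s - 1 - a) ≤ C) then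
          (f 210).flatMap fun z =>
            bif (f 280).contains (1 - a + 2 * p + z) then
              ([colV [a, p, q, q + p - 1, s, z, q + p - 1 + s - 1 - a, 1 - a + 2 * p + z,
                  lastVal a p q (q + p - 1) s z (q + p - 1 + s - 1 - a) (1 - a + 2 * p + z)]].filter fun V =>
                dot V (allD.map fun d : ℕ => (d : ℤ)) == 0 && dot V V == C &&
                  (f 385).contains (lastVal a p q (q + p - 1) s z (q + p - 1 + s - 1 - a) (1 - a + 2 * p + z)))
            else []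
        else []
    else []

theorem mem_colsAll {f : ℕ → List ℤ} {C a p q r s z u w t : ℤ} (ha : a ∈ f 21) (hp : p ∈ f 45) (hq : q ∈ f 55)
    (hr : r ∈ f 99) (hs : s ∈ f 154) (hz : z ∈ f 210) (hu : u ∈ f 231) (hw : w ∈ f 280) (ht : t ∈ f 385)
    (h5 : lin 5 allD (colV [a, p, q, r, s, z, u, w, t]) = 0)
    (h7 : lin 7 allD (colV [a, p, q, r, s, z, u, w, t]) = 0)
    (h11 : lin 11 allD (colV [a, p, q, r, s, z, u, w, t]) = 0)
    (h0 : dot (colV [a, p, q, r, s, z, u, w, t]) (allD.map fun d : ℕ => (d : ℤ)) = 0)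
    (hn : dot (colV [a, p, q, r, s, z, u, w, t]) (colV [a, p, q, r, s, z, u, w, t]) = C) :
    colV [a, p, q, r, s, z, u, w, t] ∈ colsAll f C := by
  have k5 : 2 + 2 * a - 2 * r - 2 * s + 2 * u = 0 := by
    simp [allD, colV, lin, cfp] at h5
    linarith
  have k7 : 2 - 2 * p - 2 * q + 2 * r = 0 := by
    simp [allD, colV, lin, cfp] at h7
    linarith
  have k11 : 2 - 2 * a + 4 * p + 2 * z - 2 * w = 0 := by
    simp [allD, colV, lin, cfp] at h11
    linarith
  obtain rfl : r = q + p - 1 := by linarith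
  obtain rfl : u = q + p - 1 + s - 1 - a := by linarith
  obtain rfl : w = 1 - a + 2 * p + z := by linarith
  have hS : t = lastVal a p q (q + p - 1) s z (q + p - 1 + s - 1 - a) (1 - a + 2 * p + z) := by
    simp [allD, colV, dot] at h0
    rw [lastVal, show -(1 + 21 * a + 90 * p + 210 * z + 560 * (1 - a + 2 * p + z) + 55 * q + 99 * (q + p - 1) +
      154 * s + 231 * (q + p - 1 + s - 1 - a)) = 385 * t by linarith, Int.mul_ediv_cancel_left _ (by norm_num)]
  have hb : 1 + a * a + 2 * (p * p) + q * q + (q + p - 1) * (q + p - 1) + s * s +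
      (q + p - 1 + s - 1 - a) * (q + p - 1 + s - 1 - a) ≤ C := by
    rw [← hn]
    simp only [colV, dot]
    nlinarith [mul_self_nonneg z, mul_self_nonneg (1 - a + 2 * p + z), mul_self_nonneg t]
  have hb' : 1 + a * a + 2 * (p * p) + q * q + (q + p - 1) * (q + p - 1) ≤ C := by
    nlinarith [mul_self_nonneg s, mul_self_nonneg (q + p - 1 + s - 1 - a)]
  refine List.mem_flatMap.2 ⟨a, ha, List.mem_flatMap.2 ⟨p, hp, List.mem_flatMap.2 ⟨q, hq, ?_⟩⟩⟩
  rw [List.contains_iff_mem.2 hr, decide_eq_true hb', Bool.and_self, cond_true]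
  refine List.mem_flatMap.2 ⟨s, hs, ?_⟩
  rw [List.contains_iff_mem.2 hu, decide_eq_true hb, Bool.and_self, cond_true]
  refine List.mem_flatMap.2 ⟨z, hz, ?_⟩
  rw [List.contains_iff_mem.2 hw, cond_true, ← hS]
  exact List.mem_filter.2 ⟨List.mem_singleton.2 rfl, by
    simp only [h0, hn, List.contains_iff_mem.2 ht, beq_self_eq_true, Bool.and_self]⟩

/-- the column of the involutions -/
def colT : List ℤ := [1, 5, -3, -3, 2, -8, -8, 7, 3, 10, 7, 1]

/-- the column of the elements of order three -/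
def colY : List ℤ := [1, 3, 0, 0, 3, 1, 1, 1, 0, 1, -3, -2]

/-- the column of a self-centralising Sylow subgroup of order nine -/
def colN : List ℤ := [1, 0, 0, 0, 0, 1, 1, 1, 0, 1, 0, -2]

theorem cols_384 : ((colsAll (fun d => rng d 384 4) 384).all fun V =>
    V.take 7 != colT.take 7 || V == colT) = true := by
  decide +kernel

theorem cols_invol : ([2, 4, 6, 8, 12, 16, 18, 24, 32, 36, 48, 64, 72, 96, 128, 144, 192, 288, 384, 576,
    1152].all fun C : ℕ => (colsAll (fun d => rng d C 4) C).all fun V => dot V colT != 0 || pl 11 allD V V != 0) = true := by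
  decide +kernel

theorem cols_three : ([9, 18, 36, 72, 144, 288, 576, 1152].all fun C : ℕ =>
    (colsAll (fun d => rng d C 3) C).all fun V => dot V colT != 0 || decide (tri allD V < 0) ||
      (C == 9 && V == colN) || (C == 36 && V == colY)) = true := by
  decide +kernel

variable {G : Type u} [Group G] [Fintype G] [IsSimpleGroup G]

/-- The characters, with the rows of degrees. -/
structure Tbl (F : Front G) : Type u where
  /-- the character of degree 55 -/
  q : IrrCharacter G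
  /-- the character of degree 99 -/
  r : IrrCharacter G
  /-- the character of degree 154 -/
  s : IrrCharacter G
  /-- the character of degree 231 -/
  u : IrrCharacter G
  /-- the character of degree 385 -/
  t : IrrCharacter G
  row : F.row = [21, 45, 45, 210, 280]
  degL : degs (F.L ++ [q, r, s, u, t]) = allD
  nodup : (F.L ++ [q, r, s, u, t]).Nodup
  all : ∀ χ, χ ∈ F.L ++ [q, r, s, u, t]
  pair : ∀ g : G, ¬ 7 ∣ orderOf g → (F.c 1 : G → ℂ) g = (F.c 2 : G → ℂ) g
  five : ∀ x : G, orderOf x = 5 → cc x = 5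
  seven : ∀ x : G, orderOf x = 7 → cc x = 7

theorem exists_128 (hG : Nat.card G = 443520) : ∃ a : G, orderOf a = 2 ∧ 128 ∣ cc a := by
  haveI : Fact (Nat.Prime 2) := ⟨Nat.prime_two⟩
  have T : Sylow 2 G := Classical.arbitrary _
  have hT : Nat.card T = 128 := by
    rw [T.card_eq_multiplicity, hG, show (443520 : ℕ) = 2 ^ 7 * 3465 from rfl,
      Nat.factorization_mul (by norm_num) (by norm_num), Nat.factorization_pow, Finsupp.add_apply,
      Finsupp.smul_apply, Nat.prime_two.factorization_self,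
      Nat.factorization_eq_zero_of_not_dvd (by norm_num : ¬ 2 ∣ 3465)]
    rfl
  haveI : Nontrivial T := Finite.one_lt_card_iff_nontrivial.1 (by rw [hT]; norm_num)
  haveI := T.isPGroup'.center_nontrivial
  obtain ⟨⟨⟨a, haT⟩, hac⟩, hord⟩ := exists_prime_orderOf_dvd_card' (G := Subgroup.center T) 2 (by
    obtain ⟨n, hn, hc⟩ := (T.isPGroup'.to_subgroup (Subgroup.center T)).nontrivial_iff_card.1 inferInstance
    rw [hc]
    exact dvd_pow_self 2 hn.ne')
  rw [Subgroup.orderOf_mk, Subgroup.orderOf_mk] at hord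
  refine ⟨a, hord, hT ▸ Subgroup.card_dvd_of_le fun x hx => Subgroup.mem_centralizer_singleton_iff.2 ?_⟩
  exact congrArg Subtype.val (Subgroup.mem_center_iff.1 hac ⟨x, hx⟩)

theorem exists_tbl (hG : Nat.card G = 443520) : ∃ F : Front G, Nonempty (Tbl F) ∧
    ∃ a : G, orderOf a = 2 ∧ cc a = 384 ∧ F.Col a [5, -3, -3, 2, -8] := by
  haveI : Fact (Nat.Prime 5) := ⟨by norm_num⟩
  haveI : Fact (Nat.Prime 7) := ⟨by norm_num⟩
  obtain ⟨F⟩ := exists_front hG
  obtain ⟨a, ha, h128⟩ := exists_128 hG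
  obtain ⟨va, hva⟩ := F.invol_col ha
  obtain ⟨hrow, hC, rfl⟩ := F.good_row ha h128 hva
  obtain ⟨-, x, y, hx, hcx, hy, hcy⟩ := F.central_cases ha h128 hva
  obtain ⟨ex, hex, ⟨E⟩⟩ := F.exists_full hx hcx hy hcy
  rw [hrow, fullExts_good, List.mem_singleton] at hex
  subst hex
  obtain ⟨Ls, hrep, hnd, hall, -⟩ := E
  cases hrep with
  | @cons _ l1 _ _ h1 hr => cases hr with
    | @cons _ l2 _ _ h2 hr => cases hr with
      | @cons _ l3 _ _ h3 hr => cases hr with
        | @cons _ l4 _ _ h4 hr => cases hr with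
          | @cons _ l5 _ _ h5 hr => cases hr with
            | nil =>
  obtain ⟨q, rfl⟩ := List.length_eq_one_iff.1 h1.1
  obtain ⟨r, rfl⟩ := List.length_eq_one_iff.1 h2.1
  obtain ⟨s, rfl⟩ := List.length_eq_one_iff.1 h3.1
  obtain ⟨u, rfl⟩ := List.length_eq_one_iff.1 h4.1
  obtain ⟨t, rfl⟩ := List.length_eq_one_iff.1 h5.1
  simp only [List.flatten_cons, List.flatten_nil, List.cons_append, List.nil_append] at hnd hall
  obtain ⟨B7, hB7⟩ := F.exists_pblk_prime (Or.inr rfl) hy hcy
  have hY : ∀ i : Fin 4, F.d i = 45 → F.c i ∈ B7.Y := fun i hi => by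
    have hS : F.c i ∈ B7.S := B7.mem_iff.2 (by rw [show charDegree (F.c i : G → ℂ) = 45 from hi]; norm_num)
    refine (B7.mem_S.1 hS).resolve_left fun hX => ?_
    have := (B7.cfp_X hX).1
    rw [show charDegree (F.c i : G → ℂ) = 45 from hi] at this
    omega
  have hd : F.d 1 = 45 ∧ F.d 2 = 45 := by
    have := hrow
    simp only [Front.row, List.cons.injEq] at this
    exact ⟨this.2.1, this.2.2.1⟩
  have hcent : ∀ {p : ℕ}, p = 5 ∨ p = 7 → ∀ {x z : G}, orderOf x = p → cc x = p → orderOf z = p → cc z = p := by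
    intro p hp x z hx hcx hz
    haveI : Fact p.Prime := ⟨by rcases hp with rfl | rfl <;> norm_num⟩
    obtain ⟨Q, -, -, -, -, -, h1, -⟩ := sylow_facts hG hp hx
    obtain ⟨R, -, -, -, -, -, h2, -⟩ := sylow_facts hG hp hz
    rw [h2, PrimeSylowCount.centCard_eq R Q, ← h1, hcx]
  refine ⟨F, ⟨⟨q, r, s, u, t, hrow, ?_, hnd, hall, fun g hg => B7.pp.regY _ (hY 1 hd.1) _ (hY 2 hd.2) g hg,
    fun z hz => hcent (Or.inl rfl) hx hcx hz, fun z hz => hcent (Or.inr rfl) hy hcy hz⟩⟩, a, ha, hC, hva⟩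
  rw [degs, List.map_append, show F.L.map (fun χ : IrrCharacter G => charDegree (χ : G → ℂ)) = degs F.L from rfl,
    F.degs_L, hrow]
  simp [fullD, allD, h1.2.2 q (by simp), h2.2.2 r (by simp), h3.2.2 s (by simp), h4.2.2 u (by simp),
    h5.2.2 t (by simp)]

namespace Tbl

variable {F : Front G} (T : Tbl F)

/-- all characters -/
noncomputable def L : List (IrrCharacter G) := F.L ++ [T.q, T.r, T.s, T.u, T.t]

include T in
theorem degrees : F.d 0 = 21 ∧ F.d 1 = 45 ∧ F.d 2 = 45 ∧ F.d 3 = 210 ∧ F.g0 = 280 ∧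
    charDegree (T.q : G → ℂ) = 55 ∧ charDegree (T.r : G → ℂ) = 99 ∧ charDegree (T.s : G → ℂ) = 154 ∧
    charDegree (T.u : G → ℂ) = 231 ∧ charDegree (T.t : G → ℂ) = 385 := by
  have h1 := T.row
  have h2 := T.degL
  rw [degs, List.map_append, show F.L.map (fun χ : IrrCharacter G => charDegree (χ : G → ℂ)) = degs F.L from rfl,
    F.degs_L, h1] at h2
  simp only [Front.row, List.cons.injEq] at h1
  simp [fullD, allD] at h2
  simp [h1, h2]

include T in
/-- Characters of the same degree agree at elements of order prime to seven and eleven. -/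
theorem eq_of_deg {g : G} (h7 : ¬ 7 ∣ orderOf g) (h11 : ¬ 11 ∣ orderOf g) (χ ψ : IrrCharacter G)
    (h : charDegree (χ : G → ℂ) = charDegree (ψ : G → ℂ)) : (χ : G → ℂ) g = (ψ : G → ℂ) g := by
  obtain ⟨d0, d1, d2, d3, dg, dq, dr, ds, du, dt⟩ := T.degrees
  simp only [Front.d, Front.g0] at d0 d1 d2 d3 dg
  let f : ℕ → ℂ := fun d => if d = 21 then (F.c 0 : G → ℂ) g else if d = 45 then (F.c 1 : G → ℂ) g else
    if d = 210 then (F.c 3 : G → ℂ) g else if d = 280 then (F.θ : G → ℂ) g else if d = 55 then (T.q : G → ℂ) g else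
    if d = 99 then (T.r : G → ℂ) g else if d = 154 then (T.s : G → ℂ) g else if d = 231 then (T.u : G → ℂ) g else
    if d = 385 then (T.t : G → ℂ) g else 1
  have key : ∀ χ : IrrCharacter G, (χ : G → ℂ) g = f (charDegree (χ : G → ℂ)) := by
    intro χ
    have hdθ : charDegree (F.θ' : G → ℂ) = 280 := F.deg_θ'.trans dg
    have h := T.all χ
    simp only [Front.L, List.cons_append, List.nil_append, List.mem_cons, List.not_mem_nil, or_false] at h
    rcases h with rfl | rfl | rfl | rfl | rfl | rfl | rfl | rfl | rfl | rfl | rfl | rfl <;>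
      simp [f, Front.deg_one, d0, d1, d2, d3, dg, hdθ, dq, dr, ds, du, dt, F.regY h11, T.pair g h7]
    simp [oneChar]
  rw [key χ, key ψ, h]

include T in
theorem int_val {g : G} (h7 : ¬ 7 ∣ orderOf g) (h11 : ¬ 11 ∣ orderOf g) (χ : IrrCharacter G) :
    ∃ z : ℤ, (χ : G → ℂ) g = z :=
  int_value χ fun k hk => by
    rw [← SmallOrderGraph.galConj_apply χ hk]
    exact T.eq_of_deg h7 h11 _ _ (SmallOrderGraph.charDegree_galConj χ hk)

include T in
/-- The column at an element is among the solutions. -/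
theorem exists_col {g : G} (h5 : ¬ 5 ∣ orderOf g) (h7 : ¬ 7 ∣ orderOf g) (h11 : ¬ 11 ∣ orderOf g) (hg : g ≠ 1)
    {m : ℕ} (hm : 0 < m) (hcong : ∀ (χ : IrrCharacter G) (z : ℤ), χ ≠ oneChar → (χ : G → ℂ) g = z →
      (m : ℤ) ∣ (charDegree (χ : G → ℂ) : ℤ) - z) :
    ∃ V ∈ colsAll (fun d => rng d (cc g) m) (cc g), Vals T.L g V := by
  haveI : Fact (Nat.Prime 5) := ⟨by norm_num⟩
  haveI : Fact (Nat.Prime 7) := ⟨by norm_num⟩
  obtain ⟨d0, d1, d2, d3, dg, dq, dr, ds, du, dt⟩ := T.degrees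
  obtain ⟨a, ha⟩ := T.int_val h7 h11 (F.c 0)
  obtain ⟨p, hp⟩ := T.int_val h7 h11 (F.c 1)
  obtain ⟨z, hz⟩ := T.int_val h7 h11 (F.c 3)
  obtain ⟨w, hw⟩ := T.int_val h7 h11 F.θ
  obtain ⟨q, hq⟩ := T.int_val h7 h11 T.q
  obtain ⟨r, hr⟩ := T.int_val h7 h11 T.r
  obtain ⟨s, hs⟩ := T.int_val h7 h11 T.s
  obtain ⟨u, hu⟩ := T.int_val h7 h11 T.u
  obtain ⟨t, ht⟩ := T.int_val h7 h11 T.t
  have hV : Vals T.L g (colV [a, p, q, r, s, z, u, w, t]) :=
    .cons (by simp [oneChar]) (.cons ha (.cons hp (.cons ((T.pair g h7).symm.trans hp) (.cons hz (.cons hw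
      (.cons ((F.regY h11).trans hw) (.cons hq (.cons hr (.cons hs (.cons hu (.cons ht .nil)))))))))))
  have hrng : ∀ {χ : IrrCharacter G} {z : ℤ} {d : ℕ}, χ ≠ oneChar → (χ : G → ℂ) g = z →
      charDegree (χ : G → ℂ) = d → z ∈ rng d (cc g) m := fun hne hz hd =>
    hd ▸ mem_rng_val F.card hne hg hz hm (hcong _ _ hne hz)
  have hne : ∀ {χ : IrrCharacter G} {d : ℕ}, charDegree (χ : G → ℂ) = d → d ≠ 1 → χ ≠ oneChar := by
    intro χ d hd h1 e
    rw [e, Front.deg_one] at hd
    exact h1 hd.symm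
  obtain ⟨x, hx⟩ := exists_prime_orderOf_dvd_card' (G := G) 5 (by rw [F.card]; norm_num)
  obtain ⟨y, hy⟩ := exists_prime_orderOf_dvd_card' (G := G) 7 (by rw [F.card]; norm_num)
  obtain ⟨B5, -⟩ := F.exists_pblk_prime (Or.inl rfl) hx (T.five x hx)
  obtain ⟨B7, -⟩ := F.exists_pblk_prime (Or.inr rfl) hy (T.seven y hy)
  have l5 := B5.lin_zero T.nodup (fun χ _ => T.all χ) h5 hV
  have l7 := B7.lin_zero T.nodup (fun χ _ => T.all χ) h7 hV
  have l11 := F.B.lin_zero T.nodup (fun χ _ => T.all χ) h11 hV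
  have l0 := dot_degs T.nodup T.all hg hV
  rw [T.degL] at l5 l7 l11 l0
  exact ⟨_, mem_colsAll (hrng (F.c_ne 0) ha d0) (hrng (F.c_ne 1) hp d1) (hrng (hne dq (by norm_num)) hq dq)
    (hrng (hne dr (by norm_num)) hr dr) (hrng (hne ds (by norm_num)) hs ds) (hrng (F.c_ne 3) hz d3)
    (hrng (hne du (by norm_num)) hu du) (hrng F.θ_ne hw dg) (hrng (hne dt (by norm_num)) ht dt) l5 l7 l11 l0
    (dot_self T.nodup T.all hV), hV⟩

end Tbl

end Cfsg.Agent.MTwentyTwo.ByOrder
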