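import Cfsg.Agent.Lib.Spor.MTwentyTwoOrder.Front
import Cfsg.Agent.Lib.Spor.MTwentyTwoOrder.Primes

/-!
The tests at elements of orders five and seven and at involutions commuting with them.
-/

set_option autoImplicit false
set_option linter.unusedSectionVars false
set_option linter.style.haveILetI false

namespace Cfsg.Agent.MTwentyTwo.ByOrder

open Cfsg Cfsg.Agent.Char Cfsg.Agent.Small.Order459648
open Cfsg.Agent.MTwelve.OrderFront (val_one int_value natAbs_lt one_add_sq_le class_dvd)
open scoped ComplexConjugate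

universe u

/-- Sums over the distinct values of a key. -/
theorem sum_dedup {α : Type*} [DecidableEq α] {n : ℕ} {M : Type*} [AddCommMonoid M] (key : Fin n → α)
    (q : α → Bool) (f : Fin n → M) :
    (((List.ofFn key).filter q).dedup.map fun x => ∑ i ∈ Finset.univ.filter (fun i => key i = x), f i).sum =
      ∑ i ∈ Finset.univ.filter (fun i => q (key i) = true), f i := by
  rw [← List.sum_toFinset _ (List.nodup_dedup _), ← Finset.sum_fiberwise_of_maps_to
    (s := Finset.univ.filter fun i => q (key i) = true) (t := ((List.ofFn key).filter q).dedup.toFinset) (g := key)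
    (fun i hi => by simp only [List.mem_toFinset, List.mem_dedup, List.mem_filter, List.mem_ofFn]
                    exact ⟨⟨i, rfl⟩, (Finset.mem_filter.1 hi).2⟩)]
  refine Finset.sum_congr rfl fun x hx => ?_
  rw [List.mem_toFinset, List.mem_dedup, List.mem_filter] at hx
  rw [Finset.filter_filter]
  refine Finset.sum_congr (Finset.filter_congr fun i _ => ⟨fun h => ⟨h ▸ hx.2, h⟩, fun h => h.2⟩) fun _ _ => rfl

theorem count_key {α : Type*} [DecidableEq α] [BEq α] [LawfulBEq α] {n : ℕ} (key : Fin n → α) (q : α → Bool) {x : α}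
    (hx : q x = true) :
    ((List.ofFn key).filter q).count x = (Finset.univ.filter fun i => key i = x).card := by
  rw [List.count_filter hx, List.count_eq_countP, List.ofFn_eq_map, List.countP_map, List.countP_eq_length_filter,
    ← List.toFinset_card_of_nodup ((List.nodup_finRange n).filter _)]
  refine congrArg Finset.card (Finset.ext fun i => ?_)
  simp

variable {G : Type u} [Group G] [Fintype G] [IsSimpleGroup G]

namespace Front

variable (F : Front G)

theorem prof_col {g : G} {v : List ℤ} (h : F.Col g v) :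
    ∃ va : Fin 4 → ℤ, (∀ i, (F.c i : G → ℂ) g = va i) ∧ prof F.row v = List.ofFn (fun i => (F.d i, va i)) := by
  obtain ⟨a, b, c, e, w, rfl, h0, h1, h2, h3, -⟩ := h
  refine ⟨![a, b, c, e], fun i => by fin_cases i <;> assumption, ?_⟩
  simp [prof, row, List.ofFn_succ]

theorem single_int {p : ℕ} {a : G} (ha : orderOf a = 2) {v : List ℤ} (hv : F.Col a v)
    (hs : single p F.row v = true) (i : Fin 4) (hd : ¬ p ∣ F.d i) (g : G) :
    ∃ z : ℤ, (F.c i : G → ℂ) g = z := by
  obtain ⟨va, hva, hprof⟩ := F.prof_col hv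
  refine F.c_int i (le_of_eq ha) (hva i) (fun j hj hja => ?_) g
  rw [hva j, Int.cast_inj] at hja
  have hnd : ((List.ofFn fun i => (F.d i, va i)).filter fun x => x.1 % p != 0).Nodup := by
    rw [← hprof]; simpa [single] using hs
  have hq : ((fun x : ℕ × ℤ => x.1 % p != 0) (F.d i, va i)) = true := by
    simpa using fun h : F.d i % p = 0 => hd (Nat.dvd_of_mod_eq_zero h)
  by_contra hji
  have h2 := List.nodup_iff_count_le_one.1 hnd (F.d i, va i)
  rw [count_key (fun i => (F.d i, va i)) (fun x : ℕ × ℤ => x.1 % p != 0) hq] at h2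
  have : ({i, j} : Finset (Fin 4)) ⊆ Finset.univ.filter fun k => (F.d k, va k) = (F.d i, va i) := by
    intro k hk
    rcases Finset.mem_insert.1 hk with rfl | hk
    · simp
    · rw [Finset.mem_singleton.1 hk]; simp [hj, hja]
  have h3 := Finset.card_le_card this
  rw [Finset.card_pair (Ne.symm hji)] at h3
  omega

/-- The column at an element of order `p`, or of order twice `p`, when the values separate. -/
theorem single_col {p : ℕ} (hp : p = 5 ∨ p = 7) {a : G} (ha : orderOf a = 2) {v : List ℤ} (hv : F.Col a v)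
    (hs : single p F.row v = true) {g : G} (hg : p ∣ orderOf g) (hg11 : ¬ 11 ∣ orderOf g) : ∃ w, F.Col g w := by
  refine F.exists_col (fun i => ?_) (F.theta_int hg11)
  by_cases hd : p ∣ F.d i
  · exact ⟨0, by rw [vanish F.card (by rcases hp with rfl | rfl <;> simp) hd hg]; simp⟩
  · exact F.single_int ha hv hs i hd g

/-- The sums over the characters of one key are rational. -/
theorem group_sum {p : ℕ} {a : G} (ha : orderOf a = 2) {va : Fin 4 → ℤ} (hva : ∀ i, (F.c i : G → ℂ) a = va i)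
    {x : G} (hx : orderOf x = p) (y : ℕ × ℤ) :
    open scoped Classical in ∃ s : ℤ,
      (∑ i ∈ Finset.univ.filter (fun i => (F.d i, va i) = y), (F.c i : G → ℂ) x) = s ∧
      ∀ k : ℕ, k.Coprime p →
        ∑ i ∈ Finset.univ.filter (fun i => (F.d i, va i) = y), (F.c i : G → ℂ) (x ^ k) = s := by
  classical
  set key : Fin 4 → ℕ × ℤ := fun i => (F.d i, va i) with hkey
  let I : ℕ × ℤ → Finset (Fin 4) := fun y => Finset.univ.filter fun i => key i = y
  show ∃ s : ℤ, (∑ i ∈ I y, (F.c i : G → ℂ) x) = s ∧ ∀ k : ℕ, k.Coprime p → ∑ i ∈ I y, (F.c i : G → ℂ) (x ^ k) = s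
  have hperm : ∀ k : ℕ, k.Coprime (Nat.card G) → ∀ g : G,
      ∑ i ∈ I y, (F.c i : G → ℂ) (g ^ k) = ∑ i ∈ I y, (F.c i : G → ℂ) g := by
    intro k hk g
    choose σ hσ using fun i => F.gal_c i hk
    have hσI : ∀ i ∈ I y, σ i ∈ I y := fun i hi => by
      have h1 : key i = y := (Finset.mem_filter.1 hi).2
      refine Finset.mem_filter.2 ⟨Finset.mem_univ _, ?_⟩
      rw [← h1, hkey]
      have hd : F.d (σ i) = F.d i := by
        show charDegree (F.c (σ i) : G → ℂ) = charDegree (F.c i : G → ℂ)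
        rw [← hσ i, SmallOrderGraph.charDegree_galConj]
      have hv' : va (σ i) = va i := by
        have h2 := hva (σ i)
        rw [← hσ i, SmallOrderGraph.galConj_apply] at h2
        have hodd : k % 2 = 1 := by
          by_contra h
          have h3 : Nat.gcd 2 (Nat.card G) = 1 := Nat.Coprime.coprime_dvd_left (show 2 ∣ k by omega) hk
          rw [F.card] at h3
          norm_num at h3
        rw [pow_eq_pow_mod k (ha ▸ pow_orderOf_eq_one a), hodd, pow_one, hva i, Int.cast_inj] at h2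
        exact h2.symm
      simp only [hd, hv']
    have hinj : Function.Injective σ := fun i j hij => by
      have h1 : SmallOrderGraph.galConj (F.c i) hk = SmallOrderGraph.galConj (F.c j) hk := by
        rw [hσ i, hσ j, hij]
      have h2 : F.c i = F.c j := by
        refine Subtype.ext (funext fun g => ?_)
        obtain ⟨g', rfl⟩ := (powCoprime_bijective hk).2 g
        exact congrArg (fun χ : IrrCharacter G => (χ : G → ℂ) g') h1
      have hn := F.nodup
      fin_cases i <;> fin_cases j <;> simp_all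
    rw [Finset.sum_congr rfl fun i _ => show (F.c i : G → ℂ) (g ^ k) = (F.c (σ i) : G → ℂ) g by
      rw [← SmallOrderGraph.galConj_apply (F.c i) hk, hσ i]]
    refine Finset.sum_bij (fun i _ => σ i) hσI (fun i _ j _ h => hinj h) (fun j hj => ?_) fun i _ => rfl
    obtain ⟨⟨i, hi⟩, hij⟩ := (Finite.injective_iff_surjective.1
      (show Function.Injective (fun i : I y => (⟨σ i, hσI i i.2⟩ : I y)) from
        fun i j h => Subtype.ext (hinj (congrArg Subtype.val h)))) ⟨j, hj⟩
    exact ⟨i, hi, congrArg Subtype.val hij⟩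
  obtain ⟨z, hz⟩ : ∃ z : ℤ, (∑ i ∈ I y, (F.c i : G → ℂ) x) = z := by
    have hmem : ∀ i, (F.c i : G → ℂ) x ∈ cyc (Nat.card G) := fun i =>
      (char_galois (irr_isCharacter (F.c i).2) x).1
    obtain ⟨r, hr⟩ := exists_rat_of_fixed Nat.card_pos.ne' (sum_mem fun i _ => hmem i) fun φ => by
      obtain ⟨k, hk, hμ⟩ := exists_power_of_embedding Nat.card_pos.ne' φ
      have e : (⟨∑ i ∈ I y, (F.c i : G → ℂ) x, sum_mem fun i _ => hmem i⟩ : cyc (Nat.card G)) =
          ∑ i ∈ I y, (⟨(F.c i : G → ℂ) x, hmem i⟩ : cyc (Nat.card G)) := by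
        ext; simp
      rw [e, map_sum, ← hperm k hk x]
      exact Finset.sum_congr rfl fun i _ => (char_galois (irr_isCharacter (F.c i).2) x).2 φ k hμ
    obtain ⟨z, hz⟩ := isIntegral_rat_cast_imp (q := r) (hr ▸ IsIntegral.sum _ fun i _ =>
      char_isIntegral (irr_isCharacter (F.c i).2) x)
    exact ⟨z, by rw [hr, ← hz, Rat.cast_intCast]⟩
  refine ⟨z, hz, fun k hk => ?_⟩
  obtain ⟨u, hu⟩ := ZMod.unitsMap_surjective (show p ∣ Nat.card G from hx ▸ orderOf_dvd_natCard x)
    (ZMod.unitOfCoprime k hk)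
  haveI : NeZero (Nat.card G) := ⟨Nat.card_pos.ne'⟩
  have he : x ^ (u : ZMod (Nat.card G)).val = x ^ k := by
    rw [pow_eq_pow_iff_modEq, hx, ← ZMod.natCast_eq_natCast_iff]
    have h1 := congrArg (fun v : (ZMod p)ˣ => (v : ZMod p)) hu
    simp only [ZMod.coe_unitOfCoprime, ZMod.unitsMap_val] at h1
    rw [← h1]
    simp [ZMod.natCast_val]
  rw [← he, hperm _ (ZMod.val_coe_unit_coprime u) x, hz]

/-- The sums lie in the searched ranges. -/
theorem group_rng {p : ℕ} (hp : p = 5 ∨ p = 7) {va : Fin 4 → ℤ} {x : G} (hx : orderOf x = p) {y : ℕ × ℤ} {s : ℤ}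
    {i0 : Fin 4} (hi0 : (F.d i0, va i0) = y)
    (hS1 : open scoped Classical in
      (∑ i ∈ Finset.univ.filter (fun i => (F.d i, va i) = y), (F.c i : G → ℂ) x) = s)
    (hS2 : ∀ k : ℕ, k.Coprime p → open scoped Classical in
      ∑ i ∈ Finset.univ.filter (fun i => (F.d i, va i) = y), (F.c i : G → ℂ) (x ^ k) = s) :
    open scoped Classical in s ∈ (bif (Finset.univ.filter fun i => (F.d i, va i) = y).card == 1 then
      rng y.1 (cc x) p else sumRng p y.1 (Finset.univ.filter fun i => (F.d i, va i) = y).card (cc x)) := by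
  classical
  have hpp : p.Prime := by rcases hp with rfl | rfl <;> norm_num
  have hx1 : x ≠ 1 := fun e => by rw [e, orderOf_one] at hx; exact hpp.ne_one hx.symm
  let I : ℕ × ℤ → Finset (Fin 4) := fun y => Finset.univ.filter fun i => (F.d i, va i) = y
  have hdeg : ∀ y, ∀ i ∈ I y, F.d i = y.1 := fun y i hi => by rw [← (Finset.mem_filter.1 hi).2]
  have hi0I : i0 ∈ I y := by simp [I, hi0]
  have hd0 : F.d i0 = y.1 := hdeg y i0 hi0I
  show s ∈ (bif (I y).card == 1 then rng y.1 (cc x) p else sumRng p y.1 (I y).card (cc x))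
  change (∑ i ∈ I y, (F.c i : G → ℂ) x) = s at hS1
  change ∀ k : ℕ, k.Coprime p → ∑ i ∈ I y, (F.c i : G → ℂ) (x ^ k) = s at hS2
  by_cases h1 : (I y).card = 1
  · obtain ⟨i, hi⟩ := Finset.card_eq_one.1 h1
    have hz : (F.c i : G → ℂ) x = (s : ℂ) := by rw [← hS1, hi, Finset.sum_singleton]
    rw [h1, beq_self_eq_true, cond_true, ← hdeg y i (by rw [hi]; simp)]
    exact mem_rng_val F.card (F.c_ne i) hx1 hz hpp.pos (int_congr_deg hpp hx hz)
  · have hb : ((I y).card == 1) = false := by simpa using h1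
    simp only [hb, cond_false]
    set m := (I y).card with hm
    have hm0 : 0 < m := Finset.card_pos.2 ⟨i0, hi0I⟩
    -- congruence
    have hcong : (p : ℤ) ∣ ((m * y.1 : ℕ) : ℤ) - s := by
      have key2 : ∀ i ∈ I y, ∃ n : ℕ, ∑ j ∈ Finset.range p, (1 : ℂ) ^ j * (F.c i : G → ℂ) (x ^ j) = (p : ℂ) * n :=
        fun i _ => MTwelve.OrderFront.mult_nat (irr_isCharacter (F.c i).2) hpp.ne_zero
          (hx ▸ pow_orderOf_eq_one x) (one_pow _)
      choose! N hN using key2
      have e1 : ((((m * y.1 : ℕ) : ℤ) + ((p - 1 : ℕ) : ℤ) * s : ℤ) : ℂ) =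
          ((((p : ℕ) : ℤ) * ((∑ i ∈ I y, N i : ℕ) : ℤ) : ℤ) : ℂ) := by
        push_cast
        rw [Finset.mul_sum, ← Finset.sum_congr rfl hN, Finset.sum_comm]
        simp only [one_pow, one_mul]
        rw [show p = (p - 1) + 1 by omega, Finset.sum_range_succ', pow_zero, Finset.sum_congr rfl (s₁ := Finset.range _)
          fun j hj => hS2 (j + 1) (((Nat.coprime_comm).1 ((hpp.coprime_iff_not_dvd).2 fun h => by
            have := Nat.le_of_dvd (by omega) h
            have := Finset.mem_range.1 hj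
            omega))), Finset.sum_const, Finset.card_range, nsmul_eq_mul]
        rw [Finset.sum_congr rfl fun i hi => show (F.c i : G → ℂ) 1 = (y.1 : ℂ) by
          rw [val_one, Int.cast_natCast]; exact_mod_cast congrArg (Nat.cast : ℕ → ℂ) (hdeg y i hi),
          Finset.sum_const, nsmul_eq_mul]
        rw [show p - 1 + 1 - 1 = p - 1 by omega]
        push_cast
        ring
      have e2 : ((m * y.1 : ℕ) : ℤ) + ((p - 1 : ℕ) : ℤ) * s = (p : ℤ) * ((∑ i ∈ I y, N i : ℕ) : ℤ) :=
        Int.cast_injective e1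
      refine ⟨((∑ i ∈ I y, N i : ℕ) : ℤ) - s, ?_⟩
      rw [Nat.cast_sub hpp.one_le, Nat.cast_one] at e2
      linarith
    -- bound by the degree
    have hnorm : ‖(s : ℂ)‖ ≤ ∑ i ∈ I y, ‖(F.c i : G → ℂ) x‖ := hS1 ▸ norm_sum_le _ _
    have hle : (s).natAbs ≤ m * y.1 := by
      have h1 : ∑ i ∈ I y, ‖(F.c i : G → ℂ) x‖ ≤ (m : ℝ) * y.1 := by
        rw [hm, ← nsmul_eq_mul, ← Finset.sum_const]
        refine Finset.sum_le_sum fun i hi => ?_
        have h := char_norm_le (irr_isCharacter (F.c i).2) x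
        rw [char_one_eq_deg (irr_isCharacter (F.c i).2), Complex.natCast_re, ← charDegree_eq_deg] at h
        rw [← hdeg y i hi]
        exact h
      have h2 := hnorm.trans h1
      rw [Complex.norm_intCast] at h2
      have h3 : |s| ≤ ((m * y.1 : ℕ) : ℤ) := by
        push_cast
        exact_mod_cast h2
      have := abs_le.1 h3
      omega
    have hsq : s * s ≤ ((m * cc x : ℕ) : ℤ) := by
      have h1 : (∑ i ∈ I y, ‖(F.c i : G → ℂ) x‖) ^ 2 ≤ (m : ℝ) * ∑ i ∈ I y, ‖(F.c i : G → ℂ) x‖ ^ 2 := by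
        rw [hm]; exact sq_sum_le_card_mul_sum_sq
      have hinj : Set.InjOn F.c (I y : Set (Fin 4)) := fun i _ j _ h => by
        have hn := F.nodup
        fin_cases i <;> fin_cases j <;> simp_all
      have h2 := MTwelve.OrderFront.column_le x ((I y).image F.c)
      rw [Finset.sum_image hinj] at h2
      have h3 : ‖(s : ℂ)‖ ^ 2 ≤ (m : ℝ) * (cc x : ℝ) :=
        ((pow_le_pow_left₀ (norm_nonneg _) hnorm 2).trans h1).trans
          (mul_le_mul_of_nonneg_left h2 (Nat.cast_nonneg _))
      rw [Complex.norm_intCast, sq_abs, sq] at h3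
      push_cast
      exact_mod_cast h3
    have hdiv : (y.1 : ℤ) ∣ ((443520 / cc x : ℕ) : ℤ) * s := by
      have hint : IsIntegral ℤ (((443520 / cc x : ℕ) : ℂ) * (s : ℂ) / (y.1 : ℂ)) := by
        rw [← hS1, Finset.mul_sum, Finset.sum_div]
        refine IsIntegral.sum _ fun i hi => ?_
        have h := omega_isIntegral (F.c i).2 x
        rw [omega, char_one_eq_deg (irr_isCharacter (F.c i).2), ← charDegree_eq_deg] at h
        have hcls : Nat.card {z : G // IsConj x z} = 443520 / cc x := by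
          have h1 := Subgroup.card_mul_index (Subgroup.centralizer ({x} : Set G))
          rw [F.card] at h1
          rw [card_conjClass_eq_index, ← h1, cc, Nat.mul_div_cancel_left _ Nat.card_pos]
        rw [hcls] at h
        rw [← hdeg y i hi]
        exact h
      obtain ⟨n, hn⟩ := isIntegral_rat_cast_imp
        (q := ((443520 / cc x : ℕ) : ℚ) * (s : ℚ) / (y.1 : ℚ)) (by push_cast; exact hint)
      have hd' : (y.1 : ℚ) ≠ 0 := by
        rw [← hd0]; exact Nat.cast_ne_zero.2 (deg_pos (F.c i0).2).ne'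
      rw [eq_div_iff hd'] at hn
      refine ⟨n, ?_⟩
      have : (((n * (y.1 : ℤ) : ℤ)) : ℚ) = ((((443520 / cc x : ℕ) : ℤ) * s : ℤ) : ℚ) := by
        rw [Int.cast_mul, Int.cast_mul, Int.cast_natCast, Int.cast_natCast]
        exact hn
      rw [mul_comm (y.1 : ℤ) n]
      exact (Int.cast_injective this).symm
    obtain ⟨c, hc⟩ := hcong
    obtain ⟨j, rfl⟩ : ∃ j : ℕ, c = (j : ℤ) := ⟨c.toNat, by
      have : 0 ≤ (p : ℤ) * c := by omega
      have hp0 : (0 : ℤ) < p := by exact_mod_cast hpp.pos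
      rw [Int.toNat_of_nonneg (nonneg_of_mul_nonneg_right this hp0)]⟩
    refine List.mem_filter.2 ⟨List.mem_map.2 ⟨j, List.mem_range.2 ?_, by linarith⟩, ?_⟩
    · have hjm : j * p ≤ 2 * (m * y.1) := by
        have hle' : -((m * y.1 : ℕ) : ℤ) ≤ s := by omega
        have h5 : ((j * p : ℕ) : ℤ) ≤ ((2 * (m * y.1) : ℕ) : ℤ) := by push_cast at hc hle' ⊢; linarith
        exact_mod_cast h5
      exact Nat.lt_succ_of_le ((Nat.le_div_iff_mul_le hpp.pos).2 hjm)
    · simp only [Bool.and_eq_true, decide_eq_true_eq, beq_iff_eq]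
      exact ⟨hsq, Int.emod_eq_zero_of_dvd hdiv⟩

/-- The weak test passes. -/
theorem weakOk_sound {p : ℕ} (hp : p = 5 ∨ p = 7) {a : G} (ha : orderOf a = 2) {v : List ℤ} (hv : F.Col a v)
    {x : G} (hx : orderOf x = p) : weakOk p F.row v (cc x) = true := by
  classical
  have hpp : p.Prime := by rcases hp with rfl | rfl <;> norm_num
  have hx11 : ¬ 11 ∣ orderOf x := by rw [hx]; rcases hp with rfl | rfl <;> norm_num
  have hx1 : x ≠ 1 := fun e => by rw [e, orderOf_one] at hx; exact hpp.ne_one hx.symm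
  have hpd : p = 5 ∨ p = 7 ∨ p = 11 := by omega
  obtain ⟨va, hva, hprof⟩ := F.prof_col hv
  obtain ⟨w, hw⟩ := F.theta_int hx11
  set q : ℕ × ℤ → Bool := fun y => y.1 % p != 0 with hq
  set key : Fin 4 → ℕ × ℤ := fun i => (F.d i, va i) with hkey
  let I : ℕ × ℤ → Finset (Fin 4) := fun y => Finset.univ.filter fun i => key i = y
  choose S hS1 hS2 using F.group_sum ha hva hx
  set Lq := (List.ofFn key).filter q with hLq
  have hqm : ∀ y ∈ Lq.dedup, q y = true ∧ ∃ i, key i = y := fun y hy => by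
    rw [List.mem_dedup, List.mem_filter, List.mem_ofFn] at hy
    exact ⟨hy.2, hy.1⟩
  have hcount : ∀ y ∈ Lq.dedup, Lq.count y = (I y).card := fun y hy => count_key key q (hqm y hy).1
  have hdeg : ∀ y, ∀ i ∈ I y, F.d i = y.1 := fun y i hi => by
    have h1 : key i = y := (Finset.mem_filter.1 hi).2
    rw [← h1]
  have hrng : ∀ y ∈ Lq.dedup, S y ∈
      (bif Lq.count y == 1 then rng y.1 (cc x) p else sumRng p y.1 (Lq.count y) (cc x)) := by
    intro y hy
    obtain ⟨-, i0, hi0⟩ := hqm y hy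
    rw [hcount y hy]
    exact F.group_rng hp hx (va := va) hi0 (hS1 y) (hS2 y)
  -- the solution
  have hg0 : w ∈ rngP p F.g0 (cc x) := by
    by_cases hd : F.g0 % p = 0
    · have h0 := vanish F.card hpd (χ := F.θ) (Nat.dvd_of_mod_eq_zero hd) (g := x) (by rw [hx])
      rw [hw] at h0
      simp [rngP, hd, Int.cast_eq_zero.1 h0]
    · have hb : (F.g0 % p == 0) = false := by simpa using hd
      simp only [rngP, hb, cond_false]
      exact mem_rng_val F.card F.θ_ne hx1 hw hpp.pos (int_congr_deg hpp hx hw)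
  have hout : ∀ i, q (key i) = false → (F.c i : G → ℂ) x = 0 := fun i hi => by
    refine vanish F.card hpd ?_ (by rw [hx])
    simp only [hq, hkey, bne_eq_false_iff_eq] at hi
    exact Nat.dvd_of_mod_eq_zero hi
  have hslots : ∀ (l : List (ℕ × ℤ)), (∀ y ∈ l, y ∈ Lq.dedup) →
      InSlots (l.map fun y => (bif Lq.count y == 1 then rng y.1 (cc x) p else sumRng p y.1 (Lq.count y) (cc x),
        cfp 11 y.1, ((12 / Lq.count y : ℕ) : ℤ))) (l.map S) ∧
      wlin (l.map fun y => (bif Lq.count y == 1 then rng y.1 (cc x) p else sumRng p y.1 (Lq.count y) (cc x),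
        cfp 11 y.1, ((12 / Lq.count y : ℕ) : ℤ))) (l.map S) = (l.map fun y => cfp 11 y.1 * S y).sum ∧
      wsq (l.map fun y => (bif Lq.count y == 1 then rng y.1 (cc x) p else sumRng p y.1 (Lq.count y) (cc x),
        cfp 11 y.1, ((12 / Lq.count y : ℕ) : ℤ))) (l.map S) =
          (l.map fun y => ((12 / Lq.count y : ℕ) : ℤ) * (S y * S y)).sum := by
    intro l hl
    induction l with
    | nil => exact ⟨.nil, rfl, rfl⟩
    | cons y l ih =>
      obtain ⟨i1, i2, i3⟩ := ih fun z hz => hl z (by simp [hz])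
      simp only [List.map_cons, wlin, wsq, List.sum_cons, i2, i3]
      exact ⟨.cons ⟨hrng y (hl y (by simp)), Int.natCast_nonneg _⟩ i1, trivial, trivial⟩
  obtain ⟨hin, hlin', hsq'⟩ := hslots _ fun y hy => hy
  have hL := F.B.relation hx11
  have hLsum : ∀ f : IrrCharacter G → ℂ, (F.L.map f).sum =
      f oneChar + ∑ i, f (F.c i) + (f F.θ + f F.θ') := fun f => by
    simp only [L, List.map_cons, List.map_nil, List.sum_cons, List.sum_nil, Fin.sum_univ_four]
    ring
  rw [F.B.sum_list F.L_nodup F.L_cover, hLsum, F.regY hx11, hw] at hL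
  simp only [deg_one, F.deg_θ'] at hL
  have h1 : cfp 11 1 = 2 := rfl
  rw [h1, show charDegree (F.θ : G → ℂ) = F.g0 from rfl] at hL
  have hLin : 2 + (2 * cfp 11 F.g0 * w + (Lq.dedup.map fun y => cfp 11 y.1 * S y).sum) = 0 := by
    have hX : (((Lq.dedup.map fun y => cfp 11 y.1 * S y).sum : ℤ) : ℂ) =
        ∑ i, (cfp 11 (F.d i) : ℂ) * (F.c i : G → ℂ) x := by
      rw [Int.cast_list_sum, List.map_map, List.map_congr_left (g := fun y : ℕ × ℤ =>
        ∑ i ∈ I y, (cfp 11 (F.d i) : ℂ) * (F.c i : G → ℂ) x) fun y hy => by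
          rw [Function.comp_apply, Int.cast_mul, ← hS1 y, Finset.mul_sum]
          exact Finset.sum_congr rfl fun i hi => by rw [hdeg y i hi], hLq,
        sum_dedup key q fun i => (cfp 11 (F.d i) : ℂ) * (F.c i : G → ℂ) x, Finset.sum_filter_of_ne]
      intro i _ hne
      by_contra hf
      exact hne (by rw [hout i (by simpa using hf), mul_zero])
    have h2 : ((2 + (2 * cfp 11 F.g0 * w + (Lq.dedup.map fun y => cfp 11 y.1 * S y).sum) : ℤ) : ℂ) = 0 := by
      rw [Int.cast_add, Int.cast_add, Int.cast_mul, Int.cast_mul, hX]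
      simp only [d, oneChar] at hL ⊢
      push_cast
      linear_combination hL
    exact_mod_cast h2
  have hSq : 12 + (24 * (w * w) + (Lq.dedup.map fun y => ((12 / Lq.count y : ℕ) : ℤ) * (S y * S y)).sum) ≤
      12 * (cc x : ℤ) := by
    have hcol := MTwelve.OrderFront.column_le x F.L.toFinset
    rw [List.sum_toFinset _ F.L_nodup] at hcol
    simp only [L, List.map_cons, List.map_nil, List.sum_cons, List.sum_nil, F.regY hx11, hw, oneChar, norm_one,
      one_pow, Complex.norm_intCast, sq_abs] at hcol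
    have hX : (((Lq.dedup.map fun y => ((12 / Lq.count y : ℕ) : ℤ) * (S y * S y)).sum : ℤ) : ℝ) ≤
        12 * ∑ i, ‖(F.c i : G → ℂ) x‖ ^ 2 := by
      rw [Int.cast_list_sum, List.map_map]
      have h1 : (12 : ℝ) * ∑ i, ‖(F.c i : G → ℂ) x‖ ^ 2 =
          (Lq.dedup.map fun y => 12 * ∑ i ∈ I y, ‖(F.c i : G → ℂ) x‖ ^ 2).sum := by
        simp only [Finset.mul_sum, hLq]
        rw [sum_dedup key q fun i => 12 * ‖(F.c i : G → ℂ) x‖ ^ 2, Finset.sum_filter_of_ne]
        intro i _ hne
        by_contra hf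
        exact hne (by rw [hout i (by simpa using hf)]; simp)
      rw [h1]
      refine List.sum_le_sum fun y hy => ?_
      simp only [Function.comp_apply, Int.cast_mul, Int.cast_natCast, hcount y hy]
      obtain ⟨hqy, i0, hi0⟩ := hqm y hy
      have hm4 : (I y).card ∈ [1, 2, 3, 4] := by
        have h1 : 0 < (I y).card := Finset.card_pos.2 ⟨i0, by simp [I, hi0]⟩
        have h2 : (I y).card ≤ 4 := (Finset.card_le_univ _).trans (by simp)
        simp only [List.mem_cons, List.not_mem_nil, or_false]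
        omega
      have hn : ‖(S y : ℂ)‖ ^ 2 ≤ ((I y).card : ℝ) * ∑ i ∈ I y, ‖(F.c i : G → ℂ) x‖ ^ 2 :=
        (pow_le_pow_left₀ (norm_nonneg _) (hS1 y ▸ norm_sum_le _ _) 2).trans sq_sum_le_card_mul_sum_sq
      rw [Complex.norm_intCast, sq_abs] at hn
      have hdiv : (((12 / (I y).card : ℕ) : ℝ)) * ((I y).card : ℝ) = 12 := by
        have : ∀ m ∈ [1, 2, 3, 4], 12 / m * m = 12 := by decide
        exact_mod_cast this _ hm4
      calc ((12 / (I y).card : ℕ) : ℝ) * ((S y : ℝ) * (S y : ℝ))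
          ≤ ((12 / (I y).card : ℕ) : ℝ) * (((I y).card : ℝ) * ∑ i ∈ I y, ‖(F.c i : G → ℂ) x‖ ^ 2) := by
            refine mul_le_mul_of_nonneg_left ?_ (Nat.cast_nonneg _)
            rw [← sq]; exact hn
        _ = 12 * ∑ i ∈ I y, ‖(F.c i : G → ℂ) x‖ ^ 2 := by rw [← mul_assoc, hdiv]
    have h3 : ((12 + (24 * (w * w) + (Lq.dedup.map fun y => ((12 / Lq.count y : ℕ) : ℤ) * (S y * S y)).sum) : ℤ) : ℝ)
        ≤ ((12 * (cc x : ℤ) : ℤ) : ℝ) := by
      generalize (Lq.dedup.map fun y => ((12 / Lq.count y : ℕ) : ℤ) * (S y * S y)).sum = T at hX ⊢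
      simp only [Fin.sum_univ_four] at hX
      simp only [cc, sq] at hcol hX ⊢
      push_cast
      linarith
    exact_mod_cast h3
  have hmem : (w :: Lq.dedup.map S) ∈ sols (12 * (cc x : ℤ)) ((rngP p F.g0 (cc x), 2 * cfp 11 F.g0, 24) ::
      weakSlots p (cc x) Lq) 2 12 :=
    mem_sols (.cons ⟨hg0, by norm_num⟩ hin)
      (by simp only [wlin, weakSlots]; rw [hlin']; linarith)
      (by simp only [wsq, weakSlots]; rw [hsq']; linarith)
  have hpr : (prof F.row v).filter (fun y => y.1 % p != 0) = Lq := by rw [hprof]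
  simp only [weakOk, row] at hpr ⊢
  rw [hpr]
  cases hs : sols (12 * (cc x : ℤ)) ((rngP p F.g0 (cc x), 2 * cfp 11 F.g0, 24) :: weakSlots p (cc x) Lq) 2 12 with
  | nil => rw [hs] at hmem; exact (List.not_mem_nil hmem).elim
  | cons => rfl

end Front

end Cfsg.Agent.MTwentyTwo.ByOrder
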