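import Cfsg.Agent.Lib.Spor.MTwentyTwoOrder.Classes

/-!
Centralisers and normalisers of elements of order three in a group of the order of the Mathieu group of degree
twenty-two.
-/

set_option autoImplicit false
set_option linter.unusedSectionVars false
set_option linter.style.haveILetI false

namespace Cfsg.Agent.MTwentyTwo.ByOrder

open Cfsg
open scoped Pointwise

universe u

variable {G : Type u} [Group G] [Fintype G]

theorem mem_cent {x y : G} : x ∈ Subgroup.centralizer ({y} : Set G) ↔ Commute x y :=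
  Subgroup.mem_centralizer_singleton_iff

theorem conj_sq {x : G} (h : x * x = 1) : x⁻¹ = x := inv_eq_of_mul_eq_one_right h

/-- An elementary subgroup of order nine. -/
structure Nine (S : Subgroup G) : Prop where
  card : Nat.card S = 9
  comm : ∀ a ∈ S, ∀ b ∈ S, Commute a b
  cube : ∀ a ∈ S, a ^ 3 = 1

namespace Cls

variable (H : Cls G)

include H in
theorem no_nine_two {u : G} (hu : orderOf u = 2) {K : Subgroup G} (hK : 9 ∣ Nat.card K)
    (h : ∀ x ∈ K, Commute x u) : False := by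
  have h1 := hK.trans (Subgroup.card_dvd_of_le (show K ≤ Subgroup.centralizer ({u} : Set G) from
    fun x hx => mem_cent.2 (h x hx)))
  rw [show Nat.card (Subgroup.centralizer ({u} : Set G)) = 384 from H.invol u hu] at h1
  norm_num at h1

include H in
theorem exists_nine {y : G} (hy : orderOf y = 3) : ∃ S : Subgroup G, Nine S ∧ y ∈ S := by
  haveI : Fact (Nat.Prime 3) := ⟨Nat.prime_three⟩
  obtain ⟨T, hT⟩ := (IsPGroup.of_card (n := 1) (by rw [Nat.card_zpowers, hy, pow_one]) :
    IsPGroup 3 (Subgroup.zpowers y)).exists_le_sylow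
  have hTc : Nat.card T = 9 := by
    rw [T.card_eq_multiplicity, H.card, show (443520 : ℕ) = 3 ^ 2 * 49280 from rfl,
      Nat.factorization_mul (by norm_num) (by norm_num), Nat.factorization_pow, Finsupp.add_apply,
      Finsupp.smul_apply, Nat.prime_three.factorization_self,
      Nat.factorization_eq_zero_of_not_dvd (by norm_num : ¬ 3 ∣ 49280)]
    rfl
  refine ⟨T, ⟨hTc, fun a ha b hb => ?_, fun a ha => ?_⟩, hT (Subgroup.mem_zpowers y)⟩
  · haveI := IsPGroup.isMulCommutative_of_card_eq_prime_sq (p := 3) (G := T) (by rw [hTc]; norm_num)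
    exact congrArg Subtype.val (mul_comm' (⟨a, ha⟩ : T) ⟨b, hb⟩)
  · have h := Subgroup.orderOf_dvd_natCard (s := (T : Subgroup G)) ha
    rw [hTc, show (9 : ℕ) = 3 ^ 2 from rfl, Nat.dvd_prime_pow Nat.prime_three] at h
    obtain ⟨k, hk, hk'⟩ := h
    interval_cases k
    · rw [orderOf_eq_one_iff.1 hk', one_pow]
    · rw [← pow_one 3, ← hk', pow_orderOf_eq_one]
    · exact absurd hk' (H.nine a)

end Cls

variable {H : Cls G} {S : Subgroup G}

theorem Nine.orderOf_eq (hS : Nine S) {a : G} (ha : a ∈ S) (ha1 : a ≠ 1) : orderOf a = 3 := by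
  haveI : Fact (Nat.Prime 3) := ⟨Nat.prime_three⟩
  exact orderOf_eq_prime (hS.cube a ha) ha1

include H in
theorem Nine.self_cent (hS : Nine S) {x : G} (hx : ∀ a ∈ S, Commute x a) : x ∈ S := by
  set C := Subgroup.centralizer (S : Set G) with hC
  have hSC : S ≤ C := fun a ha => Subgroup.mem_centralizer_iff.2 fun b hb => hS.comm b hb a ha
  haveI : Nontrivial S := Finite.one_lt_card_iff_nontrivial.1 (by rw [hS.card]; norm_num)
  obtain ⟨⟨a, ha⟩, ha1⟩ := exists_ne (1 : S)
  have ha1' : a ≠ 1 := fun e => ha1 (Subtype.ext e)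
  have h36 : Nat.card C ∣ 36 := by
    rw [← H.three a (hS.orderOf_eq ha ha1')]
    exact Subgroup.card_dvd_of_le fun b hb => mem_cent.2 (Subgroup.mem_centralizer_iff.1 hb a ha).symm
  have h9 : 9 ∣ Nat.card C := hS.card ▸ Subgroup.card_dvd_of_le hSC
  haveI : Fact (Nat.Prime 2) := ⟨Nat.prime_two⟩
  have hodd : ¬ 2 ∣ Nat.card C := fun h => by
    obtain ⟨⟨u, hu⟩, huo⟩ := exists_prime_orderOf_dvd_card' (G := C) 2 h
    rw [Subgroup.orderOf_mk] at huo
    exact H.no_nine_two huo (K := S) (by rw [hS.card]) fun b hb => Subgroup.mem_centralizer_iff.1 hu b hb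
  have hC9 : Nat.card C = 9 := by
    obtain ⟨k, hk⟩ := h9
    rw [hk] at h36 hodd
    have : k ∣ 4 := Nat.dvd_of_mul_dvd_mul_left (by norm_num : 0 < 9) (by simpa using h36)
    have hk4 := Nat.le_of_dvd (by norm_num) this
    interval_cases k <;> simp_all
  rw [Subgroup.eq_of_le_of_card_ge hSC (by rw [hC9, hS.card])]
  exact Subgroup.mem_centralizer_iff.2 fun b hb => (hx b hb).symm

include H in
theorem Nine.inter_cent (hS : Nine S) {a z : G} (ha : a ∈ S) (ha1 : a ≠ 1) (hza : Commute z a) (hz : orderOf z = 2)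
    {b : G} (hb : b ∈ S) (hzb : Commute z b) : b ∈ Subgroup.zpowers a := by
  by_contra hn
  set K := S ⊓ Subgroup.centralizer ({z} : Set G) with hK
  have hle : Subgroup.zpowers a ≤ K := by
    rw [Subgroup.zpowers_le]; exact ⟨ha, mem_cent.2 hza.symm⟩
  have h3 : Nat.card (Subgroup.zpowers a) = 3 := by rw [Nat.card_zpowers]; exact hS.orderOf_eq ha ha1
  have hdvd : Nat.card K ∣ 3 ^ 2 := by
    rw [show (3 : ℕ) ^ 2 = 9 from rfl, ← hS.card]; exact Subgroup.card_dvd_of_le inf_le_left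
  obtain ⟨k, hk, hk'⟩ := (Nat.dvd_prime_pow Nat.prime_three).1 hdvd
  interval_cases k
  · have := Nat.le_of_dvd Nat.card_pos (Subgroup.card_dvd_of_le hle)
    rw [h3, hk'] at this
    norm_num at this
  · have e := Subgroup.eq_of_le_of_card_ge hle (by rw [h3, hk']; norm_num)
    rw [e] at hn
    exact hn ⟨hb, mem_cent.2 hzb.symm⟩
  · exact H.no_nine_two hz (K := K) (by rw [hk']; norm_num) fun x hx => mem_cent.1 hx.2

include H in
/-- An element normalising a subgroup of order nine and fixing one of its elements lies in it. -/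
theorem Nine.fix_mem (hS : Nine S) {a : G} (ha : a ∈ S) (ha1 : a ≠ 1) {x : G}
    (hxS : x ∈ Subgroup.normalizer (S : Set G)) (hxa : Commute x a) : x ∈ S := by
  classical
  haveI : Fact (Nat.Prime 2) := ⟨Nat.prime_two⟩
  haveI : Fact (Nat.Prime 3) := ⟨Nat.prime_three⟩
  set C := Subgroup.centralizer ({a} : Set G) with hC
  set N := Subgroup.normalizer (S : Set G) ⊓ C with hN
  have hSC : S ≤ C := fun b hb => mem_cent.2 (hS.comm b hb a ha)
  have hSN : S ≤ N := le_inf Subgroup.le_normalizer hSC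
  have hCc : Nat.card C = 36 := H.three a (hS.orderOf_eq ha ha1)
  suffices hN9 : Nat.card N = 9 by
    rw [Subgroup.eq_of_le_of_card_ge hSN (by rw [hN9, hS.card])]
    exact ⟨hxS, mem_cent.2 hxa⟩
  have h9 : 9 ∣ Nat.card N := hS.card ▸ Subgroup.card_dvd_of_le hSN
  have h36 : Nat.card N ∣ 36 := hCc ▸ Subgroup.card_dvd_of_le inf_le_right
  obtain ⟨k, hk⟩ := h9
  rw [hk] at h36
  have hk4 : k ∣ 4 := Nat.dvd_of_mul_dvd_mul_left (by norm_num : 0 < 9) (by simpa using h36)
  have hkle := Nat.le_of_dvd (by norm_num) hk4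
  -- the normaliser is not the whole centraliser
  have hno : ¬ C ≤ Subgroup.normalizer (S : Set G) := by
    intro hle
    -- a Sylow two-subgroup acts semiregularly outside the fixed points
    obtain ⟨P⟩ : Nonempty (Sylow 2 C) := inferInstance
    have hPc : Nat.card P = 4 := by
      rw [P.card_eq_multiplicity, hCc, show (36 : ℕ) = 2 ^ 2 * 9 from rfl,
        Nat.factorization_mul (by norm_num) (by norm_num), Nat.factorization_pow, Finsupp.add_apply,
        Finsupp.smul_apply, Nat.prime_two.factorization_self,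
        Nat.factorization_eq_zero_of_not_dvd (by norm_num : ¬ 2 ∣ 9)]
      rfl
    set P' := (P : Subgroup C).map C.subtype with hP'
    have hP'c : Nat.card P' = 4 := (Subgroup.card_map_of_injective C.subtype_injective).trans hPc
    have hPC : P' ≤ C := Subgroup.map_subtype_le _
    set A := Subgroup.zpowers a with hA
    have hAc : Nat.card A = 3 := by rw [Nat.card_zpowers, hS.orderOf_eq ha ha1]
    set Ω := Finset.univ.filter fun s : G => s ∈ S ∧ s ∉ A with hΩ
    have hΩc : Ω.card = 6 := by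
      rw [show Ω = (Finset.univ.filter fun s : G => s ∈ S) \ (Finset.univ.filter fun s : G => s ∈ A) by
        ext; simp [hΩ], Finset.card_sdiff_of_subset (fun s hs => by
          simp only [Finset.mem_filter, Finset.mem_univ, true_and] at hs ⊢
          exact (Subgroup.zpowers_le.2 ha) hs),
        ← Fintype.card_subtype, ← Fintype.card_subtype, ← Nat.card_eq_fintype_card, ← Nat.card_eq_fintype_card,
        show Nat.card {s : G // s ∈ S} = 9 from hS.card, show Nat.card {s : G // s ∈ A} = 3 from hAc]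
    let orb : G → Finset G := fun s => (Finset.univ : Finset P').image fun q : P' => (q : G) * s * (q : G)⁻¹
    have hfree : ∀ q ∈ P', ∀ s ∈ Ω, q * s * q⁻¹ = s → q = 1 := by
      intro q hq s hs hqs
      by_contra hne
      simp only [hΩ, Finset.mem_filter, Finset.mem_univ, true_and] at hs
      have hq' : orderOf q ∣ 2 ^ 2 := by
        rw [show (2 : ℕ) ^ 2 = 4 from rfl, ← hP'c]; exact Subgroup.orderOf_dvd_natCard _ hq
      obtain ⟨j, hj, hj'⟩ := (Nat.dvd_prime_pow Nat.prime_two).1 hq'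
      have h1 : j ≠ 0 := fun e => hne (orderOf_eq_one_iff.1 (by rw [hj', e, pow_zero]))
      have hqs' : Commute q s := mul_inv_eq_iff_eq_mul.1 hqs
      have hqa : Commute q a := mem_cent.1 (hPC hq)
      exact hs.2 (hS.inter_cent (H := H) ha ha1 (hqa.pow_left (2 ^ (j - 1))) (by
        rw [orderOf_pow' _ (by positivity), hj']
        interval_cases j <;> simp_all) hs.1 (hqs'.pow_left _))
    have horb : ∀ s ∈ Ω, (orb s).card = 4 ∧ orb s ⊆ Ω := by
      intro s hs
      refine ⟨?_, fun x hx => ?_⟩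
      · rw [Finset.card_image_of_injective, Finset.card_univ, ← Nat.card_eq_fintype_card, hP'c]
        intro q q' h
        have := hfree ((q' : G)⁻¹ * q) (mul_mem (inv_mem q'.2) q.2) s hs (by
          calc (q' : G)⁻¹ * q * s * ((q' : G)⁻¹ * q)⁻¹ = (q' : G)⁻¹ * (q * s * (q : G)⁻¹) * q' := by group
            _ = (q' : G)⁻¹ * (q' * s * (q' : G)⁻¹) * q' := congrArg (fun y => (q' : G)⁻¹ * y * q') h
            _ = s := by group)
        exact Subtype.ext (inv_mul_eq_one.1 this).symm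
      · obtain ⟨q, -, rfl⟩ := Finset.mem_image.1 hx
        simp only [hΩ, Finset.mem_filter, Finset.mem_univ, true_and] at hs ⊢
        refine ⟨(Subgroup.mem_normalizer_iff.1 (hle (hPC q.2)) s).1 hs.1, fun h => hs.2 ?_⟩
        obtain ⟨i, hi⟩ := h
        refine ⟨i, ?_⟩
        have hi' : a ^ i = (q : G) * s * (q : G)⁻¹ := hi
        have hqa : Commute (q : G) (a ^ i) := (mem_cent.1 (hPC q.2)).zpow_right i
        show a ^ i = s
        calc a ^ i = (q : G)⁻¹ * (a ^ i * q) := by rw [← hqa.eq]; group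
          _ = s := by rw [hi']; group
    obtain ⟨s, hs⟩ : Ω.Nonempty := Finset.card_pos.1 (by omega)
    obtain ⟨s', hs', hs'n⟩ := Finset.exists_mem_notMem_of_card_lt_card (s := orb s) (t := Ω)
      (by rw [(horb s hs).1]; omega)
    have hdisj : Disjoint (orb s) (orb s') := Finset.disjoint_left.2 fun x hx hx' => hs'n (by
      obtain ⟨q, -, rfl⟩ := Finset.mem_image.1 hx
      obtain ⟨q', -, hqq⟩ := Finset.mem_image.1 hx'
      refine Finset.mem_image.2 ⟨q'⁻¹ * q, Finset.mem_univ _, ?_⟩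
      show ((q' : G)⁻¹ * q) * s * ((q' : G)⁻¹ * q)⁻¹ = s'
      calc (q' : G)⁻¹ * q * s * ((q' : G)⁻¹ * q)⁻¹ = (q' : G)⁻¹ * (q * s * (q : G)⁻¹) * q' := by group
        _ = s' := by rw [← hqq]; group)
    have h8 := Finset.card_le_card (Finset.union_subset (horb s hs).2 (horb s' hs').2)
    rw [Finset.card_union_of_disjoint hdisj, (horb s hs).1, (horb s' hs').1, hΩc] at h8
    omega
  rcases (show k = 1 ∨ k = 2 ∨ k = 4 by interval_cases k <;> simp_all) with rfl | rfl | rfl
  · exact hk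
  · -- index two
    set S' := S.subgroupOf C with hS'
    have hS'c : Nat.card S' = 9 := by
      rw [hS', Nat.card_congr (Subgroup.subgroupOfEquivOfLe hSC).toEquiv, hS.card]
    obtain ⟨T, hT⟩ := (IsPGroup.of_card (n := 2) hS'c : IsPGroup 3 S').exists_le_sylow
    have hTc : Nat.card T = 9 := by
      rw [T.card_eq_multiplicity, hCc, show (36 : ℕ) = 3 ^ 2 * 4 from rfl,
        Nat.factorization_mul (by norm_num) (by norm_num), Nat.factorization_pow, Finsupp.add_apply,
        Finsupp.smul_apply, Nat.prime_three.factorization_self,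
        Nat.factorization_eq_zero_of_not_dvd (by norm_num : ¬ 3 ∣ 4)]
      rfl
    have hTS : (T : Subgroup C) = S' := (Subgroup.eq_of_le_of_card_ge hT (by rw [hS'c, hTc])).symm
    have h := Small.SmallOrders.card_normalizer T
    have hn : Nat.card (Subgroup.normalizer ((T : Subgroup C) : Set C)) = Nat.card N := by
      rw [hTS, hS', ← Subgroup.subgroupOf_normalizer_eq hSC]
      rw [show (Subgroup.normalizer (S : Set G)).subgroupOf C = N.subgroupOf C by
        rw [hN, Subgroup.inf_subgroupOf_right]]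
      exact Nat.card_congr (Subgroup.subgroupOfEquivOfLe inf_le_right).toEquiv
    rw [hn, hk, hCc] at h
    have hm := card_sylow_modEq_one 3 C
    unfold Nat.ModEq at hm
    omega
  · refine (hno ?_).elim
    intro b hb
    have : N = C := Subgroup.eq_of_le_of_card_ge inf_le_right (by rw [hk, hCc])
    exact (this.symm ▸ hb : b ∈ N).1

/-- The elements of two-power order centralising `y`. -/
noncomputable def four (y : G) : Subgroup G :=
  Subgroup.closure {x : G | Commute x y ∧ x ^ 4 = 1}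

/-- What is known about the four-group of an element of order three. -/
structure Four (y : G) (S : Subgroup G) : Prop where
  card : Nat.card (four y) = 4
  mem : ∀ x : G, x ∈ four y ↔ Commute x y ∧ x ^ 4 = 1
  sq : ∀ x ∈ four y, x * x = 1
  conj : ∀ c : G, Commute c y → ∀ x ∈ four y, c * x * c⁻¹ ∈ four y
  fixed : ∀ s ∈ S, s ∉ Subgroup.zpowers y → ∀ x ∈ four y, Commute s x → x = 1
  trans : ∀ s ∈ S, s ∉ Subgroup.zpowers y → ∀ t ∈ four y, t ≠ 1 → ∀ u ∈ four y, u ≠ 1 →
    u = t ∨ u = s * t * s⁻¹ ∨ u = s⁻¹ * t * s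
  decomp : ∀ c : G, Commute c y → ∃ v ∈ four y, ∃ s ∈ S, c = v * s

include H in
theorem Nine.exists_four (hS : Nine S) {y : G} (hy : y ∈ S) (hy1 : y ≠ 1) : Four y S := by
  classical
  haveI : Fact (Nat.Prime 3) := ⟨Nat.prime_three⟩
  set C := Subgroup.centralizer ({y} : Set G) with hC
  have hCc : Nat.card C = 36 := H.three y (hS.orderOf_eq hy hy1)
  have hSC : S ≤ C := fun b hb => mem_cent.2 (hS.comm b hb y hy)
  set S' := S.subgroupOf C with hS'
  have hS'c : Nat.card S' = 9 := by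
    rw [hS', Nat.card_congr (Subgroup.subgroupOfEquivOfLe hSC).toEquiv, hS.card]
  obtain ⟨T, hT⟩ := (IsPGroup.of_card (n := 2) hS'c : IsPGroup 3 S').exists_le_sylow
  have hTc : Nat.card T = 9 := by
    rw [T.card_eq_multiplicity, hCc, show (36 : ℕ) = 3 ^ 2 * 4 from rfl,
      Nat.factorization_mul (by norm_num) (by norm_num), Nat.factorization_pow, Finsupp.add_apply,
      Finsupp.smul_apply, Nat.prime_three.factorization_self,
      Nat.factorization_eq_zero_of_not_dvd (by norm_num : ¬ 3 ∣ 4)]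
    rfl
  have hTS : (T : Subgroup C) = S' := (Subgroup.eq_of_le_of_card_ge hT (by rw [hS'c, hTc])).symm
  have hN : Subgroup.normalizer ((T : Subgroup C) : Set C) ≤ Subgroup.centralizer ((T : Subgroup C) : Set C) := by
    rw [hTS, hS', ← Subgroup.subgroupOf_normalizer_eq hSC]
    intro x hx
    have hxS : (x : G) ∈ S := hS.fix_mem (H := H) hy hy1 hx (mem_cent.1 x.2)
    exact Subgroup.mem_centralizer_iff.2 fun b hb => Subtype.ext (hS.comm b hb x hxS)
  set f := MonoidHom.transferSylow T hN with hf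
  have hcompl := MonoidHom.ker_transferSylow_isComplement' T hN
  rw [← hf] at hcompl
  have hkc : Nat.card f.ker = 4 := by
    have h := hcompl.card_mul
    rw [show Nat.card (T : Subgroup C) = 9 from hTc, hCc] at h
    omega
  set V := f.ker.map C.subtype with hV
  have hVc : Nat.card V = 4 := (Subgroup.card_map_of_injective C.subtype_injective).trans hkc
  have hVmem : ∀ x : G, x ∈ V ↔ Commute x y ∧ x ^ 4 = 1 := by
    refine fun x => ⟨?_, fun ⟨h1, h2⟩ => ?_⟩
    · rintro ⟨z, hz, rfl⟩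
      refine ⟨mem_cent.1 z.2, ?_⟩
      have h := pow_card_eq_one' (G := f.ker) (x := ⟨z, hz⟩)
      rw [hkc] at h
      exact congrArg Subtype.val (congrArg Subtype.val h)
    · refine ⟨⟨x, mem_cent.2 h1⟩, MonoidHom.mem_ker.2 ?_, rfl⟩
      have e4 : f ⟨x, mem_cent.2 h1⟩ ^ 4 = 1 := by
        rw [← map_pow, show (⟨x, mem_cent.2 h1⟩ : C) ^ 4 = 1 from Subtype.ext h2, map_one]
      have e9 : f ⟨x, mem_cent.2 h1⟩ ^ 9 = 1 := by
        have h := pow_card_eq_one' (G := ↥(T : Subgroup C)) (x := f ⟨x, mem_cent.2 h1⟩)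
        rwa [show Nat.card (T : Subgroup C) = 9 from hTc] at h
      calc f ⟨x, mem_cent.2 h1⟩ = f ⟨x, mem_cent.2 h1⟩ ^ 9 * (f ⟨x, mem_cent.2 h1⟩ ^ 4)⁻¹ ^ 2 := by
            rw [inv_pow, ← pow_mul]; group
        _ = 1 := by rw [e9, e4, inv_one, one_pow, one_mul]
  have hfour : four y = V := le_antisymm ((Subgroup.closure_le _).2 fun x hx => (hVmem x).2 hx)
    fun x hx => Subgroup.subset_closure ((hVmem x).1 hx)
  have hconj : ∀ c : G, Commute c y → ∀ x ∈ V, c * x * c⁻¹ ∈ V := fun c hc x hx => by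
    obtain ⟨h1, h2⟩ := (hVmem x).1 hx
    exact (hVmem _).2 ⟨(hc.mul_left h1).mul_left hc.inv_left, by rw [conj_pow, h2]; group⟩
  have hfixed : ∀ s ∈ S, s ∉ Subgroup.zpowers y → ∀ x ∈ V, x * x = 1 → Commute s x → x = 1 := by
    intro s hs hsy x hx hxx hsx
    by_contra hne
    haveI : Fact (Nat.Prime 2) := ⟨Nat.prime_two⟩
    exact hsy (hS.inter_cent (H := H) hy hy1 ((hVmem x).1 hx).1 (orderOf_eq_prime (by rw [sq, hxx]) hne) hs hsx.symm)
  obtain ⟨s0, hs0, hs0y⟩ : ∃ s ∈ S, s ∉ Subgroup.zpowers y := by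
    by_contra h
    push Not at h
    have := Nat.le_of_dvd Nat.card_pos (Subgroup.card_dvd_of_le (H := S) (K := Subgroup.zpowers y) h)
    rw [hS.card, Nat.card_zpowers, hS.orderOf_eq hy hy1] at this
    omega
  have hsq : ∀ x ∈ V, x * x = 1 := by
    intro x hx
    by_contra hne
    have h4 : x ^ 4 = 1 := ((hVmem x).1 hx).2
    have hxx : x * x * (x * x) = 1 := by rw [← h4]; simp [pow_succ, mul_assoc]
    have ho : orderOf x = 4 :=
      orderOf_eq_prime_pow (p := 2) (n := 1) (by rwa [pow_one, sq]) (by rw [show 2 ^ (1 + 1) = 4 from rfl, h4])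
    have hzp : Subgroup.zpowers x = V := Subgroup.eq_of_le_of_card_ge (Subgroup.zpowers_le.2 hx)
      (by rw [Nat.card_zpowers, ho, hVc])
    have hy' := hconj s0 (hS.comm s0 hs0 y hy) x hx
    rw [← hzp] at hy'
    obtain ⟨i, hi⟩ := hy'
    have hi' : x ^ i = s0 * x * s0⁻¹ := hi
    -- the square of the conjugate is the square
    have hodd : ¬ (2 : ℤ) ∣ i := by
      rintro ⟨j, rfl⟩
      refine hne ?_
      have : (x ^ (2 * j)) * (x ^ (2 * j)) = 1 := by
        rw [← zpow_add, show 2 * j + 2 * j = ((4 : ℕ) : ℤ) * j by push_cast; ring, zpow_mul, zpow_natCast, h4,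
          one_zpow]
      rw [hi'] at this
      calc x * x = s0⁻¹ * (s0 * x * s0⁻¹ * (s0 * x * s0⁻¹)) * s0 := by group
        _ = 1 := by rw [this]; group
    obtain ⟨j, rfl⟩ : ∃ j, i = 2 * j + 1 := ⟨i / 2, by omega⟩
    have e : s0 * (x * x) * s0⁻¹ = x * x := by
      calc s0 * (x * x) * s0⁻¹ = x ^ (2 * j + 1) * x ^ (2 * j + 1) := by rw [hi']; group
        _ = x ^ (((4 : ℕ) : ℤ) * j) * (x * x) := by
          rw [← zpow_add, show x * x = x ^ (2 : ℤ) by rw [zpow_two], ← zpow_add]; congr 1; push_cast; ring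
        _ = x * x := by rw [zpow_mul, zpow_natCast, h4, one_zpow, one_mul]
    exact hne (hfixed s0 hs0 hs0y _ (mul_mem hx hx) hxx (mul_inv_eq_iff_eq_mul.1 e))
  refine ⟨hfour ▸ hVc, hfour ▸ hVmem, hfour ▸ hsq, hfour ▸ hconj,
    fun s hs hsy x hx => hfixed s hs hsy x (hfour ▸ hx) (hsq x (hfour ▸ hx)), fun s hs hsy t ht ht1 u hu hu1 => ?_,
    fun c hc => ?_⟩
  · rw [hfour] at ht hu
    have hcy : Commute s y := hS.comm s hs y hy
    have h1 := hconj s hcy t ht
    have h2 : s⁻¹ * t * s ∈ V := by simpa using hconj s⁻¹ hcy.inv_left t ht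
    have hs3 := hS.cube s hs
    have n1 : s * t * s⁻¹ ≠ t := fun e => ht1 (hfixed s hs hsy t ht (hsq t ht) (mul_inv_eq_iff_eq_mul.1 e))
    have n2 : s⁻¹ * t * s ≠ t := fun e => n1 (by
      calc s * t * s⁻¹ = s * (s⁻¹ * t * s) * s⁻¹ := by rw [e]
        _ = t := by group)
    have n3 : s * t * s⁻¹ ≠ s⁻¹ * t * s := fun e => n2 (by
      calc s⁻¹ * t * s = s⁻¹ * (s⁻¹ * (s * t * s⁻¹) * s) * s := by group
        _ = s⁻¹ * (s⁻¹ * (s⁻¹ * t * s) * s) * s := by rw [e]
        _ = (s * s * s)⁻¹ * t * (s * s * s) := by group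
        _ = t := by rw [show s * s * s = 1 by rw [← hs3]; simp [pow_succ, mul_assoc]]; group)
    have m1 : s * t * s⁻¹ ≠ 1 := fun e => ht1 (by
      calc t = s⁻¹ * (s * t * s⁻¹) * s := by group
        _ = 1 := by rw [e]; group)
    have m2 : s⁻¹ * t * s ≠ 1 := fun e => ht1 (by
      calc t = s * (s⁻¹ * t * s) * s⁻¹ := by group
        _ = 1 := by rw [e]; group)
    by_contra hcon
    push Not at hcon
    obtain ⟨c1, c2, c3⟩ := hcon
    have hsub : ({1, t, s * t * s⁻¹, s⁻¹ * t * s, u} : Finset G) ⊆ Finset.univ.filter fun x => x ∈ V := by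
      intro x hx
      simp only [Finset.mem_insert, Finset.mem_singleton] at hx
      rcases hx with rfl | rfl | rfl | rfl | rfl <;> simp [one_mem, ht, h1, h2, hu]
    have hle := Finset.card_le_card hsub
    rw [← Fintype.card_subtype, ← Nat.card_eq_fintype_card, show Nat.card {x : G // x ∈ V} = 4 from hVc] at hle
    simp [n1.symm, n2.symm, n3, Ne.symm c1, Ne.symm c2, Ne.symm c3, Ne.symm hu1, Ne.symm ht1, Ne.symm m1,
      Ne.symm m2] at hle
  · have hmem : (⟨c, mem_cent.2 hc⟩ : C) ∈ (f.ker : Set C) * ((T : Subgroup C) : Set C) := by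
      rw [hcompl.mul_eq]; trivial
    obtain ⟨a, ha, b, hb, hab⟩ := Set.mem_mul.1 hmem
    rw [hTS] at hb
    exact ⟨a, hfour ▸ ⟨a, ha, rfl⟩, b, hb, congrArg Subtype.val hab.symm⟩

include H in
/-- An element inverting the subgroup of order nine. -/
theorem Nine.exists_inv (hS : Nine S) {y : G} (hy : y ∈ S) (hy1 : y ≠ 1) :
    ∃ r : G, (∀ a ∈ S, r * a * r⁻¹ = a⁻¹) ∧ r * r ∈ S := by
  classical
  haveI : Fact (Nat.Prime 3) := ⟨Nat.prime_three⟩
  have hyo := hS.orderOf_eq hy hy1
  obtain ⟨r0, hr0⟩ := isConj_iff.1 (H.three_conj y y⁻¹ hyo (by rw [orderOf_inv, hyo]))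
  set C := Subgroup.centralizer ({y} : Set G) with hC
  have hSC : S ≤ C := fun b hb => mem_cent.2 (hS.comm b hb y hy)
  set S1 := S.map (MulAut.conj r0).toMonoidHom with hS1
  have hS1c : Nat.card S1 = 9 := (Subgroup.card_map_of_injective (MulAut.conj r0).injective).trans hS.card
  have hS1C : S1 ≤ C := by
    rintro x ⟨b, hb, rfl⟩
    refine mem_cent.2 ?_
    have h : Commute (r0 * b * r0⁻¹) (r0 * y * r0⁻¹) := (hS.comm b hb y hy).map (MulAut.conj r0)
    rw [hr0] at h
    simpa using h.inv_right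
  have hCc : Nat.card C = 36 := H.three y hyo
  have mk : ∀ K : Subgroup G, K ≤ C → Nat.card K = 9 → ∃ T : Sylow 3 C, (T : Subgroup C) = K.subgroupOf C := by
    intro K hK hKc
    have hc : Nat.card (K.subgroupOf C) = 3 ^ 2 := by
      rw [Nat.card_congr (Subgroup.subgroupOfEquivOfLe hK).toEquiv, hKc]
      rfl
    refine ⟨Sylow.ofCard (K.subgroupOf C) ?_, rfl⟩
    rw [hc, hCc, show (36 : ℕ) = 3 ^ 2 * 4 from rfl, Nat.factorization_mul (by norm_num) (by norm_num),
      Nat.factorization_pow, Finsupp.add_apply, Finsupp.smul_apply, Nat.prime_three.factorization_self,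
      Nat.factorization_eq_zero_of_not_dvd (by norm_num : ¬ 3 ∣ 4)]
    rfl
  obtain ⟨T, hT⟩ := mk S hSC hS.card
  obtain ⟨T1, hT1⟩ := mk S1 hS1C hS1c
  obtain ⟨c, hc⟩ := MulAction.exists_smul_eq C T T1
  have hmap : ∀ b ∈ S, (c : G) * b * (c : G)⁻¹ ∈ S1 := by
    intro b hb
    have h1 : (⟨b, hSC hb⟩ : C) ∈ (T : Subgroup C) := by rw [hT]; exact hb
    have h2 : MulAut.conj c • (⟨b, hSC hb⟩ : C) ∈ MulAut.conj c • (T : Subgroup C) :=
      Subgroup.smul_mem_pointwise_smul _ _ _ h1
    have h3 : (MulAut.conj c • (T : Subgroup C) : Subgroup C) = (T1 : Subgroup C) := by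
      rw [← hc]; rfl
    rw [h3, hT1] at h2
    exact h2
  set r := r0⁻¹ * (c : G) with hr
  have hrS : ∀ b ∈ S, r * b * r⁻¹ ∈ S := fun b hb => by
    obtain ⟨d, hd, he⟩ := hmap b hb
    have he' : r0 * d * r0⁻¹ = (c : G) * b * (c : G)⁻¹ := by simpa using he
    rw [show r * b * r⁻¹ = r0⁻¹ * ((c : G) * b * (c : G)⁻¹) * r0 by rw [hr]; group, ← he']
    rwa [show r0⁻¹ * (r0 * d * r0⁻¹) * r0 = d by group]
  have hry : r * y * r⁻¹ = y⁻¹ := by
    have hcy : (c : G) * y * (c : G)⁻¹ = y := mul_inv_eq_iff_eq_mul.2 (mem_cent.1 c.2)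
    rw [show r * y * r⁻¹ = r0⁻¹ * ((c : G) * y * (c : G)⁻¹) * r0 by rw [hr]; group, hcy]
    calc r0⁻¹ * y * r0 = r0⁻¹ * (y⁻¹)⁻¹ * r0 := by rw [inv_inv]
      _ = r0⁻¹ * (r0 * y * r0⁻¹)⁻¹ * r0 := by rw [hr0]
      _ = y⁻¹ := by group
  have hrN : r ∈ Subgroup.normalizer (S : Set G) := by
    refine Subgroup.mem_normalizer_iff.2 fun b => ⟨hrS b, fun hb => ?_⟩
    let f : S → S := fun a => ⟨r * a * r⁻¹, hrS a a.2⟩
    have hinj : Function.Injective f := fun a a' h => Subtype.ext (by simpa [f] using congrArg Subtype.val h)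
    obtain ⟨a, ha⟩ := (Finite.injective_iff_surjective.1 hinj) ⟨_, hb⟩
    have hab : (a : G) = b := by
      have := congrArg Subtype.val ha
      simpa [f] using this
    exact hab ▸ a.2
  have hr2 : r * r ∈ S := by
    refine hS.fix_mem (H := H) hy hy1 (mul_mem hrN hrN) (mul_inv_eq_iff_eq_mul.1 ?_)
    calc r * r * y * (r * r)⁻¹ = r * (r * y * r⁻¹) * r⁻¹ := by group
      _ = r * y⁻¹ * r⁻¹ := by rw [hry]
      _ = (r * y * r⁻¹)⁻¹ := by group
      _ = y := by rw [hry, inv_inv]
  refine ⟨r, fun a ha => ?_, hr2⟩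
  set w := a * (r * a * r⁻¹) with hw
  have hwS : w ∈ S := mul_mem ha (hrS a ha)
  by_contra hne
  have hw1 : w ≠ 1 := fun e => hne (eq_inv_of_mul_eq_one_right e)
  have hfix : Commute r w := by
    refine mul_inv_eq_iff_eq_mul.1 ?_
    calc r * w * r⁻¹ = r * a * r⁻¹ * (r * r * a * (r * r)⁻¹) := by rw [hw]; group
      _ = r * a * r⁻¹ * a := by rw [(hS.comm (r * r) hr2 a ha).eq]; group
      _ = w := by rw [hw]; exact (hS.comm _ (hrS a ha) a ha).eq
  have hr_mem := hS.fix_mem (H := H) hwS hw1 hrN hfix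
  have h1 : r * y * r⁻¹ = y := mul_inv_eq_iff_eq_mul.2 (hS.comm r hr_mem y hy).eq
  rw [hry] at h1
  have h2 : y * y = 1 := by
    nth_rewrite 1 [← h1]
    exact inv_mul_cancel y
  have := orderOf_le_of_pow_eq_one (x := y) (by norm_num : 0 < 2) (by rw [sq]; exact h2)
  omega

end Cfsg.Agent.MTwentyTwo.ByOrder
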