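import Cfsg.Agent.Lib.Spor.MTwentyTwoOrder.Meet

/-!
The twelve subgroups of order sixteen normalised by an involution, other than its own.
-/

set_option autoImplicit false
set_option linter.unusedSectionVars false
set_option linter.style.haveILetI false

namespace Cfsg.Agent.MTwentyTwo.ByOrder

open Cfsg
open scoped Pointwise

universe u

variable {G : Type u} [Group G] [Fintype G] {H : Cls G}

open scoped Classical in
/-- the further involutions centralising an involution -/
noncomputable def invs (t : G) : Finset G :=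
  Finset.univ.filter fun i => i * i = 1 ∧ i ≠ 1 ∧ i ≠ t ∧ Commute i t

theorem mem_invs {t i : G} : i ∈ invs t ↔ i * i = 1 ∧ i ≠ 1 ∧ i ≠ t ∧ Commute i t := by
  classical
  simp [invs]

include H in
theorem card_invs {t : G} (ht : orderOf t = 2) : (invs t).card = 50 := by
  classical
  haveI : Fact (Nat.Prime 2) := ⟨Nat.prime_two⟩
  refine le_antisymm (invol_le (H := H) ht _ fun i hi => mem_invs.1 hi) ?_
  have htt : t * t = 1 := by rw [← pow_two, ← ht, pow_orderOf_eq_one]
  have ht1 : t ≠ 1 := fun e => by rw [e, orderOf_one] at ht; omega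
  have hsqc : ∀ g : G, g * t * g⁻¹ * (g * t * g⁻¹) = 1 := fun g => by
    calc g * t * g⁻¹ * (g * t * g⁻¹) = g * (t * t) * g⁻¹ := by group
      _ = 1 := by rw [htt]; group
  set P := (Finset.univ : Finset (G × G)).filter fun p => p.1 * t * p.1⁻¹ * (p.2 * t * p.2⁻¹) = t with hP
  have hPc : P.card = 384 * 384 * 50 := H.pairs t ht
  have hmap : ∀ p ∈ P, p.1 * t * p.1⁻¹ ∈ invs t := by
    intro p hp
    have h := (Finset.mem_filter.1 hp).2
    set i := p.1 * t * p.1⁻¹
    set k := p.2 * t * p.2⁻¹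
    have hii : i * i = 1 := hsqc p.1
    have hkk : k * k = 1 := hsqc p.2
    refine mem_invs.2 ⟨hii, fun e => ht1 ?_, fun e => ht1 ?_, ?_⟩
    · calc t = p.1⁻¹ * i * p.1 := by simp only [i]; group
        _ = 1 := by rw [e]; group
    · have hk1 : k = 1 := by rw [e] at h; exact mul_left_cancel (h.trans (mul_one t).symm)
      calc t = p.2⁻¹ * k * p.2 := by simp only [k]; group
        _ = 1 := by rw [hk1]; group
    · show i * t = t * i
      have hk : k = i * t := by rw [← h, ← mul_assoc, hii, one_mul]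
      rw [hk] at hkk
      calc i * t = i * t * (i * t * (i * t))⁻¹ := by rw [hkk, inv_one, mul_one]
        _ = t⁻¹ * i⁻¹ := by group
        _ = t * i := by rw [inv_eq_of_mul_eq_one_right hii, inv_eq_of_mul_eq_one_right htt]
  rw [Finset.card_eq_sum_card_fiberwise (f := fun p => p.1 * t * p.1⁻¹) (t := invs t) fun p hp => Finset.mem_coe.2 (hmap p (Finset.mem_coe.1 hp))] at hPc
  set C := Finset.univ.filter fun c : G => c ∈ Subgroup.centralizer ({t} : Set G) with hC
  have hCc : C.card = 384 := by rw [hC, card_filter]; exact H.invol t ht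
  have hfib : ∀ i ∈ invs t, (P.filter fun p => p.1 * t * p.1⁻¹ = i).card ≤ 384 * 384 := by
    intro i hi
    rcases (P.filter fun p => p.1 * t * p.1⁻¹ = i).eq_empty_or_nonempty with e | ⟨p0, hp0⟩
    · simp [e]
    rw [Finset.mem_filter] at hp0
    have h0 := (Finset.mem_filter.1 hp0.1).2
    refine le_trans (Finset.card_le_card (t := (C ×ˢ C).image fun c => (p0.1 * c.1, p0.2 * c.2)) fun p hp => ?_)
      (Finset.card_image_le.trans (by rw [Finset.card_product, hCc]))
    rw [Finset.mem_filter] at hp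
    have h := (Finset.mem_filter.1 hp.1).2
    have key : ∀ a b : G, a * t * a⁻¹ = b * t * b⁻¹ → a⁻¹ * b ∈ C := fun a b e => by
      refine Finset.mem_filter.2 ⟨Finset.mem_univ _, mem_cent.2 (mul_inv_eq_iff_eq_mul.1 ?_)⟩
      calc a⁻¹ * b * t * (a⁻¹ * b)⁻¹ = a⁻¹ * (b * t * b⁻¹) * a := by group
        _ = t := by rw [← e]; group
    have h2 : p0.2 * t * p0.2⁻¹ = p.2 * t * p.2⁻¹ := by
      rw [hp0.2] at h0
      rw [hp.2] at h
      exact mul_left_cancel (h0.trans h.symm)
    exact Finset.mem_image.2 ⟨(p0.1⁻¹ * p.1, p0.2⁻¹ * p.2),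
      Finset.mem_product.2 ⟨key _ _ (hp0.2.trans hp.2.symm), key _ _ h2⟩, by simp⟩
  have := hPc ▸ Finset.sum_le_card_nsmul _ _ _ hfib
  rw [smul_eq_mul] at this
  omega

variable {t : G} {E : Subgroup G} (hE : Hexad E)

include H hE in
/-- The involutions of the core outside form one class. -/
theorem Hexad.core_class (ht : t ∈ E) {y : G} (h : Pair t y) (hy : rad y = E) {Q : Subgroup G} (hQ : Core t y Q)
    {X : Subgroup G} (hX : Hexad X) {b b' : G} (hb : b ∈ X) (hbQ : b ∈ Q) (hbE : b ∉ E) (hb' : b' ∈ Q)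
    (hb'E : b' ∉ E) (hb'2 : b' * b' = 1) : ∃ c : G, Commute c t ∧ c * b * c⁻¹ = b' := by
  classical
  have hbt : Commute b t := hQ.le b hbQ
  have hb1 : b ≠ 1 := fun e => hbE (e ▸ one_mem _)
  have hne : X ≠ E := fun e => hbE (e ▸ hb)
  have htX := hX.stab (H := H) hb hb1 hbt.symm
  have hbN := hE.stab (H := H) ht h.ne_one hbt
  obtain ⟨-, hB⟩ := hE.meet (H := H) hX hne ht h.ne_one htX
  have h4 := hE.meet_symm (H := H) hX hne ht h.ne_one htX
  obtain ⟨-, hA⟩ := hX.meet (H := H) hE hne.symm hb hb1 hbN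
  -- the centraliser in the subgroup
  have hcent : ∀ e : G, e ∈ E ⊓ Subgroup.normalizer (X : Set G) ↔ e ∈ E ∧ Commute b e :=
    fun e => ⟨fun he => ⟨he.1, (hA e he.1).1 he.2⟩, fun he => ⟨he.1, (hA e he.1).2 he.2⟩⟩
  set A := Finset.univ.filter fun e : G => e ∈ E ⊓ Subgroup.normalizer (X : Set G) with hAdef
  have hAc : A.card = 4 := by rw [hAdef, card_filter, h4]
  -- the coset
  have hcoset : ∀ q ∈ Q, q * q = 1 → b⁻¹ * q ∈ E → ∃ c : G, Commute c t ∧ c * b * c⁻¹ = q := by
    intro q hq hq2 hqE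
    set O := (Finset.univ.filter fun e : G => e ∈ E).image fun e => e * b * e⁻¹ with hO
    set I := A.image (b * ·) with hI
    have hbb := hX.sq b hb
    have hsub : O ⊆ I := by
      intro z hz
      obtain ⟨e, he, rfl⟩ := Finset.mem_image.1 hz
      replace he := (Finset.mem_filter.1 he).2
      have hd : b⁻¹ * (e * b * e⁻¹) ∈ E := by
        rw [show b⁻¹ * (e * b * e⁻¹) = b⁻¹ * e * b * e⁻¹ by group]
        refine mul_mem ?_ (inv_mem he)
        simpa using (Subgroup.mem_normalizer_iff.1 (inv_mem hbN) e).1 he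
      refine Finset.mem_image.2 ⟨b⁻¹ * (e * b * e⁻¹), Finset.mem_filter.2 ⟨Finset.mem_univ _,
        (hcent _).2 ⟨hd, ?_⟩⟩, by group⟩
      set d := b⁻¹ * (e * b * e⁻¹)
      have hbd : b * d * (b * d) = 1 := by
        rw [show b * d = e * b * e⁻¹ by simp only [d]; group]
        calc e * b * e⁻¹ * (e * b * e⁻¹) = e * (b * b) * e⁻¹ := by group
          _ = 1 := by rw [hbb]; group
      calc b * d = b * d * (b * d * (b * d))⁻¹ := by rw [hbd, inv_one, mul_one]
        _ = d⁻¹ * b⁻¹ := by group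
        _ = d * b := by rw [inv_eq_of_mul_eq_one_right hbb, inv_eq_of_mul_eq_one_right (hE.sq d hd)]
    have hOc : 4 ≤ O.card := by
      have hm := card_orbit E (E ⊓ Subgroup.normalizer (X : Set G)) inf_le_left (fun e => e * b * e⁻¹) fun a ha c hc => by
        rw [hcent]
        constructor
        · intro e
          refine ⟨mul_mem (inv_mem ha) hc, (mul_inv_eq_iff_eq_mul.1 ?_).symm⟩
          calc a⁻¹ * c * b * (a⁻¹ * c)⁻¹ = a⁻¹ * (c * b * c⁻¹) * a := by group
            _ = a⁻¹ * (a * b * a⁻¹) * a := congrArg (fun w => a⁻¹ * w * a) e.symm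
            _ = b := by group
        · rintro ⟨-, hcm⟩
          calc a * b * a⁻¹ = a * (a⁻¹ * c * b * (a⁻¹ * c)⁻¹) * a⁻¹ := by rw [mul_inv_eq_iff_eq_mul.2 hcm.eq.symm]
            _ = c * b * c⁻¹ := by group
      rw [hE.card, h4] at hm
      rw [hO]
      omega
    have hOI : O = I := Finset.eq_of_subset_of_card_le hsub (Finset.card_image_le.trans (by omega))
    have hqI : q ∈ O := by
      rw [hOI]
      refine Finset.mem_image.2 ⟨b⁻¹ * q, Finset.mem_filter.2 ⟨Finset.mem_univ _, (hcent _).2 ⟨hqE, ?_⟩⟩, by group⟩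
      have h1 : b⁻¹ * q * (b⁻¹ * q) = 1 := hE.sq _ hqE
      rw [inv_eq_of_mul_eq_one_right hbb] at h1
      show b * (b⁻¹ * q) = b⁻¹ * q * b
      rw [inv_eq_of_mul_eq_one_right hbb]
      calc b * (b * q) = q := by rw [← mul_assoc, hbb, one_mul]
        _ = (b * q * (b * q)) * q⁻¹ := by rw [h1, one_mul, inv_eq_of_mul_eq_one_right hq2]
        _ = b * q * b := by group
    obtain ⟨e, he, rfl⟩ := Finset.mem_image.1 hqI
    exact ⟨e, hE.comm (Finset.mem_filter.1 he).2 ht, rfl⟩
  -- the three cosets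
  have hEQ : E ≤ Q := by
    rw [← hy]; exact (hQ.rad_eq (H := H) h).1.le.trans inf_le_left
  set b1 := y * b * y⁻¹ with hb1d
  set b2 := y * b1 * y⁻¹ with hb2d
  have hyQ := hQ.normal y h.comm.symm
  have hyE : y ∈ Subgroup.normalizer (E : Set G) := hE.stab (H := H) ht h.ne_one h.comm.symm
  have hb1Q : b1 ∈ Q := (Subgroup.mem_normalizer_iff.1 hyQ b).1 hbQ
  have hb2Q : b2 ∈ Q := (Subgroup.mem_normalizer_iff.1 hyQ b1).1 hb1Q
  have hy3 : y * y * y = 1 := by
    have := pow_orderOf_eq_one y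
    rw [h.three] at this
    rw [← this]; simp [pow_succ, mul_assoc]
  have hy2 : ∀ x : G, y * (y * (y * x * y⁻¹) * y⁻¹) * y⁻¹ = x := fun x => by
    rw [show y * (y * (y * x * y⁻¹) * y⁻¹) * y⁻¹ = (y * y * y) * x * (y * y * y)⁻¹ by group, hy3]; group
  have hconjE : ∀ {p q : G}, p⁻¹ * q ∈ E → (y * p * y⁻¹)⁻¹ * (y * q * y⁻¹) ∈ E := fun {p q} h' => by
    have := (Subgroup.mem_normalizer_iff.1 hyE _).1 h'
    rwa [show y * (p⁻¹ * q) * y⁻¹ = (y * p * y⁻¹)⁻¹ * (y * q * y⁻¹) by group] at this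
  have h01 : b⁻¹ * b1 ∉ E := by
    intro h01
    set Ω := (Finset.univ.filter fun e : G => e ∈ E).image (b * ·) with hΩ
    have hΩm : ∀ x, x ∈ Ω ↔ b⁻¹ * x ∈ E := fun x => by
      simp only [hΩ, Finset.mem_image, Finset.mem_filter, Finset.mem_univ, true_and]
      exact ⟨fun ⟨e, he, hx⟩ => by rw [← hx, inv_mul_cancel_left]; exact he,
        fun hx => ⟨b⁻¹ * x, hx, by group⟩⟩
    have hinvy : ∀ x ∈ Ω, y * x * y⁻¹ ∈ Ω := fun x hx => by
      rw [hΩm] at hx ⊢
      have := mul_mem h01 (hconjE hx)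
      rwa [show b⁻¹ * b1 * ((y * b * y⁻¹)⁻¹ * (y * x * y⁻¹)) = b⁻¹ * (y * x * y⁻¹) by rw [hb1d]; group] at this
    have hdvd := free_dvd (Subgroup.zpowers y) Ω (fun k hk x hx => by
        have hkn : ∀ n : ℕ, y ^ n * x * (y ^ n)⁻¹ ∈ Ω := by
          intro n
          induction n with
          | zero => simpa using hx
          | succ n ih =>
            rw [pow_succ', show y * y ^ n * x * (y * y ^ n)⁻¹ = y * (y ^ n * x * (y ^ n)⁻¹) * y⁻¹ by group]
            exact hinvy _ ih
        obtain ⟨n, rfl⟩ := (isOfFinOrder_of_finite y).mem_powers_iff_mem_zpowers.2 hk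
        exact hkn n)
      fun k hk x hx e => by
        by_contra hk1
        rw [hΩm] at hx
        have hxQ : x ∈ Q := by
          have := Q.mul_mem hbQ (hEQ hx)
          rwa [mul_inv_cancel_left] at this
        have hx64 : x ^ 64 = 1 := by
          have := pow_card_eq_one' (G := Q) (x := ⟨x, hxQ⟩)
          rw [hQ.card] at this
          exact congrArg Subtype.val this
        have hxV := pow_four (H := H) h.three (of_zpowers h.three hk hk1 (mul_inv_eq_iff_eq_mul.1 e)).symm hx64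
        have hxE : x ∈ E := hy ▸ four_le_rad (H := H) h.three hxV
        have hbx := mul_mem hxE (inv_mem hx)
        rw [show x * (b⁻¹ * x)⁻¹ = b by group] at hbx
        exact hbE hbx
    rw [Nat.card_zpowers, h.three, hΩ, Finset.card_image_of_injective _ (mul_right_injective b), card_filter,
      hE.card] at hdvd
    norm_num at hdvd
  have h12 : b1⁻¹ * b2 ∉ E := fun h' => h01 (by
    have := hconjE (hconjE h')
    simp only [hb2d, hb1d, hy2] at this ⊢
    exact this)
  have h20 : b2⁻¹ * b ∉ E := fun h' => h01 (by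
    have := hconjE h'
    rwa [hb2d, hb1d, hy2, ← hb1d] at this)
  have hb1E : b1 ∉ E := fun h' => hbE ((Subgroup.mem_normalizer_iff.1 hyE b).2 h')
  have hb2E : b2 ∉ E := fun h' => hb1E ((Subgroup.mem_normalizer_iff.1 hyE b1).2 h')
  have hcase : b⁻¹ * b' ∈ E ∨ b1⁻¹ * b' ∈ E ∨ b2⁻¹ * b' ∈ E := by
    by_contra hc
    push Not at hc
    let R : G → Finset G := fun r => (Finset.univ.filter fun e : G => e ∈ E).image (r * ·)
    have hd : ∀ {p q : G}, p⁻¹ * q ∉ E → Disjoint (R p) (R q) := fun {p q} hpq => Finset.disjoint_left.2 fun x hxp hxq => hpq (by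
      simp only [R, Finset.mem_image, Finset.mem_filter, Finset.mem_univ, true_and] at hxp hxq
      obtain ⟨e, he, rfl⟩ := hxp
      obtain ⟨e', he', he''⟩ := hxq
      rw [show p⁻¹ * q = e * e'⁻¹ by rw [show q = p * e * e'⁻¹ by rw [← he'']; group]; group]
      exact mul_mem he (inv_mem he'))
    have d0 : ∀ {r : G}, r ∉ E → (1 : G)⁻¹ * r ∉ E := fun {r} hr => by rwa [inv_one, one_mul]
    have hR : ∀ r ∈ Q, R r ⊆ Finset.univ.filter fun x : G => x ∈ Q := fun r hr x hx => by
      simp only [R, Finset.mem_image, Finset.mem_filter, Finset.mem_univ, true_and] at hx ⊢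
      obtain ⟨e, he, rfl⟩ := hx
      exact Q.mul_mem hr (hEQ he)
    have h20' : b⁻¹ * b2 ∉ E := fun h' => h20 (by simpa using inv_mem h')
    have hsub := Finset.card_le_card (Finset.union_subset (Finset.union_subset (Finset.union_subset (Finset.union_subset
      (hR 1 Q.one_mem) (hR b hbQ)) (hR b1 hb1Q)) (hR b2 hb2Q)) (hR b' hb'))
    rw [Finset.card_union_of_disjoint (by simp only [Finset.disjoint_union_left]
                                          exact ⟨⟨⟨hd (d0 hb'E), hd hc.1⟩, hd hc.2.1⟩, hd hc.2.2⟩),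
      Finset.card_union_of_disjoint (by simp only [Finset.disjoint_union_left]
                                        exact ⟨⟨hd (d0 hb2E), hd h20'⟩, hd h12⟩),
      Finset.card_union_of_disjoint (by simp only [Finset.disjoint_union_left]
                                        exact ⟨hd (d0 hb1E), hd h01⟩),
      Finset.card_union_of_disjoint (hd (d0 hbE)), card_filter Q, hQ.card] at hsub
    simp only [R, Finset.card_image_of_injective _ (mul_right_injective _), card_filter, hE.card] at hsub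
    omega
  have hyt : Commute y t := h.comm.symm
  rcases hcase with hh | hh | hh
  · exact hcoset b' hb' hb'2 hh
  · set q := y * (y * b' * y⁻¹) * y⁻¹ with hqd
    have hqE : b⁻¹ * q ∈ E := by
      have := hconjE (hconjE hh)
      rwa [hb1d, hy2] at this
    obtain ⟨c, hc, hc'⟩ := hcoset q ((Subgroup.mem_normalizer_iff.1 hyQ _).1 ((Subgroup.mem_normalizer_iff.1 hyQ b').1 hb'))
      (by rw [show q * q = y * y * (b' * b') * (y * y)⁻¹ by rw [hqd]; group, hb'2]; group) hqE
    refine ⟨y * c, hyt.mul_left hc, ?_⟩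
    rw [show y * c * b * (y * c)⁻¹ = y * (c * b * c⁻¹) * y⁻¹ by group, hc', hqd]
    exact hy2 b'
  · set q := y * b' * y⁻¹ with hqd
    have hqE : b⁻¹ * q ∈ E := by
      have := hconjE hh
      rwa [hb2d, hb1d, hy2] at this
    obtain ⟨c, hc, hc'⟩ := hcoset q ((Subgroup.mem_normalizer_iff.1 hyQ b').1 hb')
      (by rw [show q * q = y * (b' * b') * y⁻¹ by rw [hqd]; group, hb'2]; group) hqE
    refine ⟨y * y * c, (hyt.mul_left hyt).mul_left hc, ?_⟩
    rw [show y * y * c * b * (y * y * c)⁻¹ = y * (y * (c * b * c⁻¹) * y⁻¹) * y⁻¹ by group, hc', hqd]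
    exact hy2 b'

include H hE in
/-- An involution of the core in each subgroup. -/
theorem Hexad.core_mem (ht : t ∈ E) {y : G} (h : Pair t y) {Q : Subgroup G} (hQ : Core t y Q) {X : Subgroup G}
    (hX : Hexad X) (hne : X ≠ E) (htX : t ∈ Subgroup.normalizer (X : Set G)) :
    ∃ b ∈ X, b ∈ Q ∧ b ∉ E ∧ b * b = 1 := by
  obtain ⟨h4, hB⟩ := hE.meet (H := H) hX hne ht h.ne_one htX
  set B := X ⊓ Subgroup.normalizer (E : Set G)
  obtain ⟨j, hj, hjc⟩ := hQ.index_part (H := H) h B fun x hx => ((hB x hx.1).1 hx.2).symm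
  have : 1 < Nat.card ↥(Q ⊓ B) := by
    by_contra hc
    have : Nat.card ↥(Q ⊓ B) = 1 := by
      have : 0 < Nat.card ↥(Q ⊓ B) := Nat.card_pos
      omega
    rw [this, one_mul, h4] at hjc
    rw [← hjc] at hj
    norm_num at hj
  haveI : Nontrivial ↥(Q ⊓ B) := Finite.one_lt_card_iff_nontrivial.1 this
  obtain ⟨⟨b, hb⟩, hb1⟩ := exists_ne (1 : ↥(Q ⊓ B))
  exact ⟨b, hb.2.1, hb.1, fun e => hne (hE.eq_of_mem (H := H) hX e hb.2.1 fun e' => hb1 (Subtype.ext e')),
    hX.sq b hb.2.1⟩

include H hE in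
/-- The centraliser of an involution is transitive on the subgroups normalised by it. -/
theorem Hexad.trans_twelve (ht : t ∈ E) (ht1 : t ≠ 1) {X X' : Subgroup G} (hX : Hexad X) (hX' : Hexad X')
    (hne : X ≠ E) (hne' : X' ≠ E) (htX : t ∈ Subgroup.normalizer (X : Set G))
    (htX' : t ∈ Subgroup.normalizer (X' : Set G)) : ∃ c : G, Commute c t ∧ MulAut.conj c • X = X' := by
  obtain ⟨y, h, hy⟩ := hE.pair t ht ht1
  obtain ⟨Q, hQ⟩ := h.exists_core (H := H)
  obtain ⟨b, hb, hbQ, hbE, -⟩ := hE.core_mem (H := H) ht h hQ hX hne htX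
  obtain ⟨b', hb', hb'Q, hb'E, hb'2⟩ := hE.core_mem (H := H) ht h hQ hX' hne' htX'
  obtain ⟨c, hc, e⟩ := hE.core_class (H := H) ht h hy hQ hX hb hbQ hbE hb'Q hb'E hb'2
  refine ⟨c, hc, (hX'.eq_of_mem (H := H) (hX.conj (H := H) c) hb' ?_ fun e' => hb'E (e' ▸ one_mem _))⟩
  rw [← e, Subgroup.mem_pointwise_smul_iff_inv_smul_mem, MulAut.smul_def]
  simpa [mul_assoc] using hb

end Cfsg.Agent.MTwentyTwo.ByOrder
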